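import Cfsg.Agent.J4Local.Two

/-!
# `E` is extraspecial of order `2 ^ 13`
-/

set_option autoImplicit false
set_option linter.style.haveILetI false

open Subgroup Cfsg
open scoped Pointwise commutatorElement

namespace Cfsg.Agent.J4Local

universe u

variable {G : Type u} [Group G] [Finite G] {x t : G} {π : ↥(Cent x) →* ↥Spor.M22} (hc : Cover x t π)
include hc

theorem comm_E (hch : CharTwo t) {e f : G} (he : e ∈ E t) (hf : f ∈ E t) :
    e * f * e⁻¹ * f⁻¹ ∈ zpowers t := by
  rw [← T0_eq hc hch]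
  exact comm_mem_T0 hc he hf

theorem sq_E (hch : CharTwo t) {e : G} (he : e ∈ E t) : e * e ∈ zpowers t := by
  rw [← T0_eq hc hch]
  exact sq_mem_T0 hc he

theorem fix_card (hch : CharTwo t) {a : G} (ha : Nc x a) : Nat.card ↥(E t ⊓ Cent a : Subgroup G) = 32 :=
  (fix_cards hc hch ha).1

theorem H_le_norm_t : Cent t ≤ normalizer ((zpowers t : Subgroup G) : Set G) := by
  intro h hh
  refine centralizer_le_normalizer _ (mem_centralizer_iff.2 ?_)
  intro y hy
  obtain ⟨n, rfl⟩ := mem_zpowers_iff.1 hy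
  exact (((show Commute h t from mem_Cent.1 hh).zpow_right n).eq).symm

omit [Finite G] in
theorem zpowers_t {y : G} (hy : y ∈ zpowers t) : y = 1 ∨ y = t := by
  obtain ⟨n, rfl⟩ := mem_zpowers_iff.1 hy
  rw [← zpow_mod_orderOf, hc.ot]
  rcases Int.emod_two_eq_zero_or_one n with e | e
  · exact Or.inl (by norm_num [e])
  · exact Or.inr (by norm_num [e])

/-- The order of `E`. -/
theorem card_E (hch : CharTwo t) : Nat.card ↥(E t) = 8192 := by
  classical
  obtain ⟨a, ha⟩ := exists_Nc hc
  set T : Subgroup G := zpowers t with hTdef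
  have hTE : T ≤ E t := zpowers_le.2 (t_mem_E hc)
  haveI : (T.subgroupOf (E t)).Normal := normal_of_norm ((E_le t).trans (H_le_norm_t hc))
  have hi : ∀ b, Nc x b → Nat.card ↥(img t b T) = 16 := by
    intro b hb
    have h := card_img hc (d := b) hTE
    have h2 : Nat.card ↥(T ⊓ Cent b : Subgroup G) = 2 := by
      rw [hTdef, inf_eq_left.2 (zpowers_le.2 (t_mem_Ca hb hc)), Nat.card_zpowers, hc.ot]
    rw [h2, fix_card hc hch hb] at h
    omega
  have hquot : Nat.card (↥(E t) ⧸ T.subgroupOf (E t)) = 4096 := by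
    refine le_antisymm ?_ ?_
    · refine (card_quot_le hc ha T (fun e he f hf => comm_E hc hch he hf) (mem_zpowers t)).trans ?_
      rw [hi a ha, hi _ (Nc_mul hc ha).1, hi _ (Nc_mul hc ha).2]
    · letI : CommGroup (↥(E t) ⧸ T.subgroupOf (E t)) :=
        { mul_comm := fun p q => by
            obtain ⟨e, rfl⟩ := QuotientGroup.mk_surjective p
            obtain ⟨f, rfl⟩ := QuotientGroup.mk_surjective q
            rw [← QuotientGroup.mk_mul, ← QuotientGroup.mk_mul]
            refine QuotientGroup.eq.2 (mem_subgroupOf.2 ?_)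
            show (e.1 * f.1)⁻¹ * (f.1 * e.1) ∈ T
            have h := comm_E hc hch (inv_mem f.2) (inv_mem e.2)
            rwa [inv_inv, inv_inv,
              show f.1⁻¹ * e.1⁻¹ * f.1 * e.1 = (e.1 * f.1)⁻¹ * (f.1 * e.1) by group] at h }
      let Q := ↥(E t) ⧸ T.subgroupOf (E t)
      have htwo : ∀ q : Q, q * q = 1 := fun q => by
        obtain ⟨e, rfl⟩ := QuotientGroup.mk_surjective q
        rw [← QuotientGroup.mk_mul]
        exact (QuotientGroup.eq_one_iff _).2 (mem_subgroupOf.2 (sq_E hc hch e.2))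
      have hinv : ∀ q : Q, q⁻¹ = q := fun q => inv_eq_of_mul_eq_one_right (htwo q)
      -- conjugation by an element of `C(x)` on the quotient
      let cj : ∀ c ∈ Cent x, Q →* Q := fun c hcC =>
        QuotientGroup.map (T.subgroupOf (E t)) (T.subgroupOf (E t))
          ((E t).normalizerMonoidHom ⟨c, Cx_le_norm_E hc hcC⟩).toMonoidHom
          (fun e he => mem_comap.2 (mem_subgroupOf.2 ((mem_normalizer_iff.1 (H_le_norm_t hc (Cx_le_H hc hcC)) e.1).1
            (mem_subgroupOf.1 he))))
      let f := cj x x_mem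
      let αa := cj a ha.2.1
      have hfa : ∀ q : Q, αa (f q) = f (αa q) := fun q => by
        obtain ⟨e, rfl⟩ := QuotientGroup.mk_surjective q
        refine congrArg QuotientGroup.mk (Subtype.ext ?_)
        show a * (x * e.1 * x⁻¹) * a⁻¹ = x * (a * e.1 * a⁻¹) * x⁻¹
        rw [show a * (x * e.1 * x⁻¹) * a⁻¹ = a * x * e.1 * (a * x)⁻¹ by group, ha.comm]
        group
      have hf3 : ∀ q : Q, f (f (f q)) = q := fun q => by
        obtain ⟨e, rfl⟩ := QuotientGroup.mk_surjective q
        refine congrArg QuotientGroup.mk (Subtype.ext ?_)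
        show x * (x * (x * e.1 * x⁻¹) * x⁻¹) * x⁻¹ = e.1
        rw [show x * (x * (x * e.1 * x⁻¹) * x⁻¹) * x⁻¹ = x ^ 3 * e.1 * (x ^ 3)⁻¹ by
          simp only [pow_succ, pow_zero, one_mul]; group, pow_three_eq hc.ox]
        group
      have hfree : ∀ q : Q, f q = q → q = 1 := fun q hq => by
        obtain ⟨e, rfl⟩ := QuotientGroup.mk_surjective q
        have h0 := QuotientGroup.eq.1 hq.symm
        have h1 : e.1⁻¹ * (x * e.1 * x⁻¹) ∈ T := h0
        have hcop : (Nat.card ↥(zpowers x)).Coprime (Nat.card ↥T) := by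
          rw [hTdef, Nat.card_zpowers, Nat.card_zpowers, hc.ox, hc.ot]
          norm_num
        obtain ⟨n, hn, hce⟩ := Coprime.exists_fixed_mem_leftCoset (A := zpowers x) (N := T) (k := e.1)
          (zpowers_le.2 (H_le_norm_t hc (Cx_le_H hc x_mem))) hcop
          (Or.inl (Group.isSolvable_of_comm fun p q => Subtype.ext (by
            obtain ⟨i, hi⟩ := mem_zpowers_iff.1 p.2
            obtain ⟨j, hj⟩ := mem_zpowers_iff.1 q.2
            rw [coe_mul, coe_mul, ← hi, ← hj, ← zpow_add, ← zpow_add, add_comm])))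
          (fun y hy => by
            rcases zpowers_three hc.ox hy with rfl | rfl | rfl
            · simp
            · exact h1
            · have h2 := (mem_normalizer_iff.1 (H_le_norm_t hc (Cx_le_H hc (inv_mem x_mem))) _).1 h1
              have h3 : e.1⁻¹ * (x⁻¹ * e.1 * x⁻¹⁻¹) = (x⁻¹ * (e.1⁻¹ * (x * e.1 * x⁻¹)) * x⁻¹⁻¹)⁻¹ := by group
              rw [h3]
              exact inv_mem h2)
        have hen : e.1 * n ∈ Cent x := mem_Cent.2 (mem_centralizer_iff.1 hce x (mem_zpowers x)).symm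
        refine (QuotientGroup.eq_one_iff _).2 (mem_subgroupOf.2 ?_)
        have h4 : e.1 * n ∈ T := by
          rcases fix_x hc (mul_mem e.2 (hTE hn)) hen with h | h <;> rw [h]
          · exact one_mem _
          · exact mem_zpowers t
        have := mul_mem h4 (inv_mem hn)
        rwa [mul_inv_cancel_right] at this
      have hnorm : ∀ q : Q, f (f q) = q * f q := fun q => by
        have h : q * f q * f (f q) = 1 := hfree _ (by
          rw [map_mul, map_mul, hf3]
          rw [mul_comm (f q * f (f q)) q, mul_assoc])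
        have := eq_inv_of_mul_eq_one_right h
        rwa [hinv] at this
      have ha1 : ∀ m ∈ img t a T, αa m = m := by
        rintro _ ⟨e, he, rfl⟩
        refine congrArg QuotientGroup.mk (Subtype.ext ?_)
        show a * e.1 * a⁻¹ = e.1
        rw [← mem_Cent.1 (mem_subgroupOf.1 he).2, mul_inv_cancel_right]
      have ha2 : ∀ m ∈ img t (a * x) T, αa m = f (f m) ∧ f m ∈ img t (a * x) T := by
        rintro _ ⟨e, he, rfl⟩
        have h := mem_Cent.1 (mem_subgroupOf.1 he).2
        refine ⟨?_, ⟨⟨x * e.1 * x⁻¹, E_conj (Cx_le_H hc x_mem) e.2⟩, mem_subgroupOf.2 ?_, rfl⟩⟩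
        · refine congrArg QuotientGroup.mk (Subtype.ext ?_)
          show a * e.1 * a⁻¹ = x * (x * e.1 * x⁻¹) * x⁻¹
          rw [show a * e.1 * a⁻¹ = x⁻¹ * (x * a * e.1) * a⁻¹ by group, ← ha.comm, ← h,
            show x⁻¹ * (e.1 * (a * x)) * a⁻¹ = x⁻¹ * e.1 * (a * x * a⁻¹) by group, ha.comm,
            mul_inv_cancel_right, show x * (x * e.1 * x⁻¹) * x⁻¹ = x ^ 3 * (x⁻¹ * e.1 * x) * (x ^ 3)⁻¹ by
              simp only [pow_succ, pow_zero, one_mul]; group, pow_three_eq hc.ox]
          group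
        · refine ⟨E_conj (Cx_le_H hc x_mem) e.2, ?_⟩
          have h' := (conj_mem_Cent_iff x (a * x) e.1).1 (mem_subgroupOf.1 he).2
          rwa [show x * (a * x) * x⁻¹ = x * a by group, ← ha.comm] at h'
      have ha3 : ∀ m ∈ img t (a * x * x) T, αa m = f m := by
        rintro _ ⟨e, he, rfl⟩
        have h := mem_Cent.1 (mem_subgroupOf.1 he).2
        refine congrArg QuotientGroup.mk (Subtype.ext ?_)
        show a * e.1 * a⁻¹ = x * e.1 * x⁻¹
        have hax : a * x * x = x * x * a := by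
          rw [ha.comm, mul_assoc, ha.comm, ← mul_assoc]
        rw [hax] at h
        have h3 : x * x * x = 1 := by
          rw [← pow_two, ← pow_succ]; exact pow_three_eq hc.ox
        calc a * e.1 * a⁻¹ = (x * x * x) * a * e.1 * a⁻¹ := by rw [h3, one_mul]
          _ = x * ((x * x * a) * e.1) * a⁻¹ := by group
          _ = x * (e.1 * (x * x * a)) * a⁻¹ := by rw [h]
          _ = x * e.1 * ((x * x * x) * x⁻¹) := by group
          _ = x * e.1 * x⁻¹ := by rw [h3, one_mul]
      let φ : ↥(img t a T) × ↥(img t (a * x) T) × ↥(img t (a * x * x) T) →* Q :=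
        { toFun := fun p => p.1.1 * p.2.1.1 * p.2.2.1
          map_one' := by simp
          map_mul' := fun p q => by
            simp only [Prod.fst_mul, Prod.snd_mul, coe_mul]
            rw [mul_mul_mul_comm p.1.1, mul_mul_mul_comm (p.1.1 * p.2.1.1)] }
      have hinj : Function.Injective φ := by
        refine (injective_iff_map_eq_one φ).2 ?_
        rintro ⟨⟨m1, h1⟩, ⟨s, h2⟩, ⟨r, h3⟩⟩ he
        have e1 : m1 * s * r = 1 := he
        have em : m1 = s * r := by
          have := eq_inv_of_mul_eq_one_left (show m1 * (s * r) = 1 by rw [← mul_assoc, e1])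
          rwa [hinv] at this
        have e2 : m1 * f (f s) * f r = 1 := by
          have := congrArg αa e1
          rwa [map_mul, map_mul, map_one, ha1 m1 h1, (ha2 s h2).1, ha3 r h3] at this
        have e3 : f r = s := by
          -- from `f² s · f r = s r`
          have e4 : f (f s) * f r = s * r := by
            have := eq_inv_of_mul_eq_one_right (show m1 * (f (f s) * f r) = 1 by rw [← mul_assoc, e2])
            rwa [hinv, em] at this
          rw [hnorm, mul_assoc] at e4
          have e5 : f s * f r = r := mul_left_cancel e4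
          have e6 : f (f s) * f (f r) = f r := by rw [← map_mul, e5]
          rw [hnorm, hnorm, mul_mul_mul_comm, e5] at e6
          calc f r = s * r * r := e6.symm
            _ = s := by rw [mul_assoc, htwo, mul_one]
        have e7 : f (f s) = f (f r) := by
          have := hfa r
          rw [e3, (ha2 s h2).1, ha3 r h3] at this
          exact this
        have hfinj : Function.Injective f := fun p q h => by rw [← hf3 p, h, hf3]
        have e8 : s = r := hfinj (hfinj e7)
        have hr : r = 1 := hfree r (e3.trans e8)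
        have hs : s = 1 := e8.trans hr
        have hm : m1 = 1 := by rw [em, hs, hr, one_mul]
        subst hr hs hm
        rfl
      have h := Nat.card_le_card_of_injective φ hinj
      rw [Nat.card_prod, Nat.card_prod, hi a ha, hi _ (Nc_mul hc ha).1, hi _ (Nc_mul hc ha).2] at h
      exact h
  have h := card_eq_card_quotient_mul_card_subgroup (T.subgroupOf (E t))
  rw [hquot, Nat.card_congr (subgroupOfEquivOfLe hTE).toEquiv, hTdef, Nat.card_zpowers, hc.ot] at h
  exact h

/-- `E` is not abelian. -/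
theorem not_comm_E (hch : CharTwo t) : ¬ ∀ e ∈ E t, ∀ f ∈ E t, e * f = f * e := by
  intro hab
  haveI : Fact (Nat.Prime 2) := ⟨Nat.prime_two⟩
  obtain ⟨a, ha⟩ := exists_Nc hc
  obtain ⟨g, hg⟩ := ha.exists_g hc
  by_cases hsq : ∀ e ∈ E t, e * e = 1
  · obtain ⟨D, hD, -, hD2⟩ := image_EC hc ha hg hch
    exact no_elementary_32 D (hD.trans (fix_card hc hch ha)) (hD2 fun e he => hsq e he.1)
  -- the elements of square one form a subgroup `K`, containing all fixed points of `x`
  let K : Subgroup G :=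
    { carrier := {e | e ∈ E t ∧ e * e = 1}
      one_mem' := ⟨one_mem _, one_mul 1⟩
      mul_mem' := fun {p q} hp hq => ⟨mul_mem hp.1 hq.1, by
        rw [show p * q * (p * q) = p * (q * p) * q by group, hab q hq.1 p hp.1,
          show p * (p * q) * q = p * p * (q * q) by group, hp.2, hq.2, one_mul]⟩
      inv_mem' := fun {p} hp => ⟨inv_mem hp.1, by rw [← mul_inv_rev, hp.2, inv_one]⟩ }
  apply hsq
  intro e he
  by_contra hne
  have he2 : e * e = t := (zpowers_t hc (sq_E hc hch he)).resolve_left hne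
  have hmove : ∀ m ∈ E t, m * m = t → x * m * x⁻¹ * m⁻¹ ∈ K := by
    intro m hm hm2
    have hxm : x * m * x⁻¹ ∈ E t := E_conj (Cx_le_H hc x_mem) hm
    refine ⟨mul_mem hxm (inv_mem hm), ?_⟩
    rw [show x * m * x⁻¹ * m⁻¹ * (x * m * x⁻¹ * m⁻¹) = x * m * x⁻¹ * (m⁻¹ * (x * m * x⁻¹)) * m⁻¹ by group,
      hab _ (inv_mem hm) _ hxm,
      show x * m * x⁻¹ * (x * m * x⁻¹ * m⁻¹) * m⁻¹ = x * (m * m) * x⁻¹ * (m * m)⁻¹ by group, hm2,
      ← mem_Cent.1 hc.tx, mul_inv_cancel_right, mul_inv_cancel]
  have hKle : K ≤ E t := fun p hp => hp.1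
  have hxK : zpowers x ≤ normalizer (K : Set G) := by
    refine zpowers_le.2 (mem_normalizer_iff.2 fun p => ?_)
    have e1 : x * p * x⁻¹ * (x * p * x⁻¹) = x * (p * p) * x⁻¹ := by group
    constructor
    · rintro ⟨hp, hp2⟩
      exact ⟨E_conj (Cx_le_H hc x_mem) hp, by rw [e1, hp2, mul_one, mul_inv_cancel]⟩
    · rintro ⟨hp, hp2⟩
      refine ⟨?_, ?_⟩
      · have h' := E_conj (inv_mem (Cx_le_H hc x_mem)) hp
        rwa [show x⁻¹ * (x * p * x⁻¹) * x⁻¹⁻¹ = p by group] at h'
      · rw [e1, mul_inv_eq_one, mul_eq_left] at hp2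
        exact hp2
  have hcop : (Nat.card ↥(zpowers x)).Coprime (Nat.card ↥K) := by
    obtain ⟨i, hi⟩ := ((E_isPGroup t).to_le hKle).exists_card_eq
    rw [Nat.card_zpowers, hc.ox, hi]
    exact Nat.Coprime.pow_right i (by norm_num)
  have hxe : x * e * x⁻¹ ∈ E t := E_conj (Cx_le_H hc x_mem) he
  have h1 : e⁻¹ * (x * e * x⁻¹) ∈ K := by
    rw [hab _ (inv_mem he) _ hxe]
    exact hmove e he he2
  have hxx : x * x * e * (x * x)⁻¹ ∈ E t := E_conj (Cx_le_H hc (mul_mem x_mem x_mem)) he
  obtain ⟨n, hn, hce⟩ := Coprime.exists_fixed_mem_leftCoset (A := zpowers x) (N := K) (k := e) hxK hcop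
    (Or.inl (Group.isSolvable_of_comm fun p q => Subtype.ext (by
      obtain ⟨i, hi⟩ := mem_zpowers_iff.1 p.2
      obtain ⟨j, hj⟩ := mem_zpowers_iff.1 q.2
      rw [coe_mul, coe_mul, ← hi, ← hj, ← zpow_add, ← zpow_add, add_comm])))
    (fun y hy => by
      rcases zpowers_three hc.ox hy with rfl | rfl | rfl
      · simp
      · exact h1
      · have h2 := (mem_normalizer_iff.1 (inv_mem (hxK (mem_zpowers x))) _).1 h1
        have h3 : e⁻¹ * (x⁻¹ * e * x⁻¹⁻¹) = (x⁻¹ * (e⁻¹ * (x * e * x⁻¹)) * x⁻¹⁻¹)⁻¹ := by group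
        rw [h3]
        exact inv_mem h2)
  have hen : e * n ∈ Cent x := mem_Cent.2 (mem_centralizer_iff.1 hce x (mem_zpowers x)).symm
  have hen1 : e * n * (e * n) = t := by
    rw [show e * n * (e * n) = e * (n * e) * n by group, hab n hn.1 e he,
      show e * (e * n) * n = e * e * (n * n) by group, he2, hn.2, mul_one]
  rcases fix_x hc (mul_mem he hn.1) hen with h | h <;> rw [h] at hen1
  · rw [one_mul] at hen1
    exact t_ne hc hen1.symm
  · rw [tt hc] at hen1
    exact t_ne hc hen1.symm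

/-- The centre of `E` is `⟨t⟩`. -/
theorem centre_E (hch : CharTwo t) {z : G} (hz : z ∈ E t) (hc' : ∀ e ∈ E t, z * e = e * z) :
    z ∈ zpowers t := by
  classical
  let Z : Subgroup G := E t ⊓ centralizer (E t : Set G)
  have hzZ : z ∈ Z := ⟨hz, mem_centralizer_iff.2 fun e he => (hc' e he).symm⟩
  have hHZ : Cent t ≤ normalizer (Z : Set G) :=
    Coprime.le_normalizer_inf (Cent_le_normalizer_E t)
      (Coprime.le_normalizer_centralizer (Cent_le_normalizer_E t))
  have htZ : t ∈ Z := ⟨t_mem_E hc, mem_centralizer_iff.2 fun e he => mem_Cent.1 (E_le t he)⟩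
  obtain ⟨a, ha⟩ := exists_Nc hc
  have hsame : ∀ b, Nc x b → Nat.card ↥(Z ⊓ Cent b : Subgroup G) = Nat.card ↥(Z ⊓ Cent a : Subgroup G) := by
    intro b hb
    obtain ⟨c, hcC, he⟩ := ha.isConj hc hb
    exact (card_fix_conj hc hcC he _ hHZ).symm
  have h3 := card_cases hc hch ha (Z ⊓ Cent a) (inf_le_inf_right _ inf_le_left) ⟨htZ, t_mem_Ca ha hc⟩
    (fun d hd => ⟨(mem_normalizer_iff.1 (hHZ (Cx_le_H hc x_mem)) d).1 hd.1,
      (Cent a).mul_mem ((Cent a).mul_mem (x_mem_Ca ha) hd.2) ((Cent a).inv_mem (x_mem_Ca ha))⟩)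
  by_cases h32 : Nat.card ↥(Z ⊓ Cent a : Subgroup G) = 32
  · refine absurd ?_ (not_comm_E hc hch)
    have hle : E t ≤ Z := by
      refine gen_Pr hc ha (E_isPGroup t) ((Pr_le x_mem ha.2.1).trans (Cx_le_norm_E hc)) ?_ ?_
      · rintro e ⟨he, hex⟩
        rcases fix_x hc he hex with rfl | rfl
        · exact one_mem _
        · exact htZ
      · intro d _ hd
        have e : Z ⊓ Cent d = E t ⊓ Cent d := eq_of_le_of_card_ge (inf_le_inf_right _ inf_le_left)
          (by rw [hsame d hd, h32, fix_card hc hch hd])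
        exact e ▸ inf_le_left
    intro e he f hf
    exact (mem_centralizer_iff.1 (hle he).2 f hf).symm
  -- otherwise `Z / ⟨t⟩` is small, so centralised by `x`
  have htriv : ∀ k ∈ Z, k ∈ zpowers t := by
    haveI : ((zpowers t).subgroupOf Z).Normal := normal_of_norm ((inf_le_left.trans (E_le t)).trans (H_le_norm_t hc))
    haveI : Fact (Nat.Prime 2) := ⟨Nat.prime_two⟩
    haveI : Fact (Nat.Prime 3) := ⟨Nat.prime_three⟩
    have hZ2 : IsPGroup 2 ↥Z := (E_isPGroup t).to_le inf_le_left
    have h8 : Nat.card ↥(Z ⊓ Cent a : Subgroup G) ≤ 8 := by omega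
    -- `Z` is the product of its three fixed subgroups
    haveI : ((zpowers t).subgroupOf (E t)).Normal := normal_of_norm ((E_le t).trans (H_le_norm_t hc))
    let im : G → Subgroup (↥(E t) ⧸ (zpowers t).subgroupOf (E t)) := fun d =>
      ((Z ⊓ Cent d).subgroupOf (E t)).map (QuotientGroup.mk' _)
    have him : ∀ d, Nc x d → Nat.card ↥(im d) ≤ 4 := by
      intro d hd
      let f : ↥(Z ⊓ Cent d : Subgroup G) →* ↥(E t) ⧸ (zpowers t).subgroupOf (E t) :=
        (QuotientGroup.mk' _).comp (inclusion (inf_le_left.trans inf_le_left))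
      have h := card_eq_card_quotient_mul_card_subgroup f.ker
      rw [Nat.card_congr (QuotientGroup.quotientKerEquivRange f).toEquiv] at h
      have hr : f.range = im d := by
        ext q
        constructor
        · rintro ⟨e, rfl⟩
          exact ⟨inclusion (inf_le_left.trans inf_le_left) e, mem_subgroupOf.2 e.2, rfl⟩
        · rintro ⟨e, he, rfl⟩
          exact ⟨⟨e.1, mem_subgroupOf.1 he⟩, rfl⟩
      have hk : 2 ≤ Nat.card f.ker := by
        refine Finite.one_lt_card_iff_nontrivial.2 ⟨⟨⟨⟨t, htZ, t_mem_Ca hd hc⟩, MonoidHom.mem_ker.2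
          ((QuotientGroup.eq_one_iff (⟨t, t_mem_E hc⟩ : ↥(E t))).2 (mem_subgroupOf.2 (mem_zpowers t)))⟩, 1,
          fun e => t_ne hc (congrArg (fun q : f.ker => (q.1.1 : G)) e)⟩⟩
      rw [hr] at h
      have h8' := hsame d hd ▸ h8
      rw [h] at h8'
      nlinarith
    letI : CommGroup (↥(E t) ⧸ (zpowers t).subgroupOf (E t)) :=
      { mul_comm := fun p q => by
          obtain ⟨e, rfl⟩ := QuotientGroup.mk_surjective p
          obtain ⟨f, rfl⟩ := QuotientGroup.mk_surjective q
          rw [← QuotientGroup.mk_mul, ← QuotientGroup.mk_mul]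
          refine QuotientGroup.eq.2 (mem_subgroupOf.2 ?_)
          show (e.1 * f.1)⁻¹ * (f.1 * e.1) ∈ zpowers t
          have h := comm_E hc hch (inv_mem f.2) (inv_mem e.2)
          rwa [inv_inv, inv_inv,
            show f.1⁻¹ * e.1⁻¹ * f.1 * e.1 = (e.1 * f.1)⁻¹ * (f.1 * e.1) by group] at h }
    let S := im a ⊔ im (a * x) ⊔ im (a * x * x)
    have hle : Z ≤ (S.comap (QuotientGroup.mk' _)).map (E t).subtype := by
      refine gen_Pr hc ha hZ2 ((Pr_le x_mem ha.2.1).trans ((Cx_le_H hc).trans hHZ)) ?_ ?_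
      · rintro e ⟨he, hex⟩
        refine ⟨⟨e, he.1⟩, ?_, rfl⟩
        have heT : e ∈ zpowers t := by
          rcases fix_x hc he.1 hex with rfl | rfl
          · exact one_mem _
          · exact mem_zpowers _
        show (QuotientGroup.mk (⟨e, he.1⟩ : ↥(E t)) : ↥(E t) ⧸ _) ∈ S
        rw [(QuotientGroup.eq_one_iff (⟨e, he.1⟩ : ↥(E t))).2 (mem_subgroupOf.2 heT)]
        exact one_mem _
      · rintro d hd hn e ⟨he, hed⟩
        refine ⟨⟨e, he.1⟩, ?_, rfl⟩
        rcases Pr_three hc ha hd hn with h | h | h <;> rw [h] at hed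
        · exact mem_sup_left (mem_sup_left ⟨⟨e, he.1⟩, mem_subgroupOf.2 ⟨he, hed⟩, rfl⟩)
        · exact mem_sup_left (mem_sup_right ⟨⟨e, he.1⟩, mem_subgroupOf.2 ⟨he, hed⟩, rfl⟩)
        · exact mem_sup_right ⟨⟨e, he.1⟩, mem_subgroupOf.2 ⟨he, hed⟩, rfl⟩
    have hS : Nat.card ↥S ≤ 64 := by
      let f : ↥(im a) × ↥(im (a * x)) × ↥(im (a * x * x)) → ↥S := fun p => ⟨p.1.1 * p.2.1.1 * p.2.2.1,
        mul_mem (mul_mem (mem_sup_left (mem_sup_left p.1.2)) (mem_sup_left (mem_sup_right p.2.1.2)))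
          (mem_sup_right p.2.2.2)⟩
      have hf : Function.Surjective f := by
        rintro ⟨q, hq⟩
        obtain ⟨p, hp, r, hr, rfl⟩ := Subgroup.mem_sup.1 hq
        obtain ⟨p1, hp1, p2, hp2, rfl⟩ := Subgroup.mem_sup.1 hp
        exact ⟨⟨⟨p1, hp1⟩, ⟨p2, hp2⟩, ⟨r, hr⟩⟩, rfl⟩
      refine (Nat.card_le_card_of_surjective f hf).trans ?_
      rw [Nat.card_prod, Nat.card_prod]
      exact (Nat.mul_le_mul (him a ha) (Nat.mul_le_mul (him _ (Nc_mul hc ha).1)
        (him _ (Nc_mul hc ha).2))).trans (by norm_num)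
    have hQ : Nat.card (↥Z ⧸ (zpowers t).subgroupOf Z) ≤ 64 := by
      let g : ↥Z ⧸ (zpowers t).subgroupOf Z → ↥(E t) ⧸ (zpowers t).subgroupOf (E t) :=
        QuotientGroup.map ((zpowers t).subgroupOf Z) ((zpowers t).subgroupOf (E t)) (inclusion inf_le_left)
          (fun q hq => mem_comap.2 (mem_subgroupOf.2 (show (q : G) ∈ zpowers t from mem_subgroupOf.1 hq)))
      have hg : Function.Injective g := by
        intro p q
        obtain ⟨p, rfl⟩ := QuotientGroup.mk_surjective p
        obtain ⟨q, rfl⟩ := QuotientGroup.mk_surjective q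
        intro h
        exact QuotientGroup.eq.2 (mem_subgroupOf.2 (mem_subgroupOf.1 (QuotientGroup.eq.1 h) :))
      refine le_trans ?_ hS
      refine Nat.card_le_card_of_injective (fun p => ⟨g p, ?_⟩) fun p q h => hg (congrArg Subtype.val h)
      obtain ⟨p, rfl⟩ := QuotientGroup.mk_surjective p
      obtain ⟨e', he', hee⟩ := hle p.2
      have : e' = inclusion inf_le_left p := Subtype.ext hee
      rw [this] at he'
      exact he'
    obtain ⟨j, hj⟩ := (hZ2.to_quotient ((zpowers t).subgroupOf Z)).exists_card_eq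
    have hj6 : j ≤ 6 := by
      by_contra h
      have := Nat.pow_le_pow_right (show 0 < 2 by norm_num) (show 7 ≤ j by omega)
      norm_num at this
      omega
    intro k hk
    have hxk : ∀ k ∈ Z, k⁻¹ * (x * k * x⁻¹) ∈ zpowers t := fun k hk =>
      section_trivial hc Z (zpowers t) ((Cx_le_H hc).trans hHZ) ((Cx_le_H hc).trans (H_le_norm_t hc)) hj6 hj hk
    -- an element moved only inside `⟨t⟩` is fixed by `x`
    have h1 := hxk k hk
    have hfix : k⁻¹ * (x * k * x⁻¹) = 1 := by
      refine (zpowers_t hc h1).resolve_right fun e => ?_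
      have hxt : x * t * x⁻¹ = t := by rw [← mem_Cent.1 hc.tx, mul_inv_cancel_right]
      have e1 : x * k * x⁻¹ = k * t := by rw [← e, mul_inv_cancel_left]
      have e2 : x * x * x * k * (x * x * x)⁻¹ = k * t * t * t := by
        rw [show x * x * x * k * (x * x * x)⁻¹ = x * (x * (x * k * x⁻¹) * x⁻¹) * x⁻¹ by group, e1,
          show x * (k * t) * x⁻¹ = x * k * x⁻¹ * (x * t * x⁻¹) by group, e1, hxt,
          show x * (k * t * t) * x⁻¹ = x * k * x⁻¹ * (x * t * x⁻¹) * (x * t * x⁻¹) by group, e1, hxt]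
      rw [show x * x * x = 1 by rw [← pow_two, ← pow_succ]; exact pow_three_eq hc.ox, one_mul, inv_one,
        mul_one, mul_assoc (k * t), tt hc, mul_one, left_eq_mul] at e2
      exact t_ne hc e2
    have hkx : k ∈ Cent x := mem_Cent.2 (by
      rw [inv_mul_eq_one] at hfix
      calc k * x = x * k * x⁻¹ * x := by rw [← hfix]
        _ = x * k := by group)
    rcases fix_x hc hk.1 hkx with rfl | rfl
    · exact one_mem _
    · exact mem_zpowers _
  exact htriv z hzZ

/-- `E` is extraspecial of order `2 ^ 13`. -/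
theorem extraspecial_E (hch : CharTwo t) : IsExtraspecial 2 ↥(E t) := by
  haveI : Fact (Nat.Prime 2) := ⟨Nat.prime_two⟩
  haveI := (E_isPGroup t).isNilpotent
  set tE : ↥(E t) := ⟨t, t_mem_E hc⟩ with htE
  have hcen : center ↥(E t) = zpowers tE := by
    refine le_antisymm (fun z hz => ?_) (zpowers_le.2 (mem_center_iff.2 fun e => Subtype.ext
      (mem_Cent.1 (E_le t e.2))))
    rcases zpowers_t hc (centre_E hc hch z.2 fun e he =>
      (congrArg Subtype.val (mem_center_iff.1 hz ⟨e, he⟩)).symm) with h | h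
    · rw [show z = 1 from Subtype.ext h]; exact one_mem _
    · rw [show z = tE from Subtype.ext h]; exact mem_zpowers _
  have hsub : ∀ z : ↥(E t), z.1 ∈ zpowers t → z ∈ zpowers tE := fun z hz => by
    rcases zpowers_t hc hz with h | h
    · rw [show z = 1 from Subtype.ext h]; exact one_mem _
    · rw [show z = tE from Subtype.ext h]; exact mem_zpowers _
  have hfr : frattini ↥(E t) ≤ zpowers tE := fun z hz => hsub z (by
    rw [← T0_eq hc hch]
    exact mem_sup_left ⟨z, hz, rfl⟩)
  have hcomm : commutator ↥(E t) ≤ zpowers tE := Core.commutator_le_frattini.trans hfr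
  have htc : tE ∈ commutator ↥(E t) := by
    obtain ⟨e, he, f, hf, hne⟩ : ∃ e ∈ E t, ∃ f ∈ E t, e * f ≠ f * e := by
      by_contra h
      push Not at h
      exact not_comm_E hc hch h
    have h := commutator_mem_commutator (G := ↥(E t)) (mem_top ⟨e, he⟩) (mem_top ⟨f, hf⟩)
    rcases zpowers_t hc (comm_E hc hch he hf) with e1 | e1
    · exact absurd (mul_inv_eq_iff_eq_mul.1 (mul_inv_eq_one.1 e1)) hne
    · rwa [show ⁅(⟨e, he⟩ : ↥(E t)), ⟨f, hf⟩⁆ = tE from Subtype.ext e1] at h
  have hcomm' : commutator ↥(E t) = zpowers tE := le_antisymm hcomm (zpowers_le.2 htc)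
  have hfr' : frattini ↥(E t) = zpowers tE :=
    le_antisymm hfr (hcomm' ▸ Core.commutator_le_frattini)
  refine ⟨⟨E_isPGroup t, hfr'.trans hcen.symm, hcomm'.trans hcen.symm⟩, ?_⟩
  rw [hcen, Nat.card_zpowers, ← Subgroup.orderOf_coe, htE, hc.ot]

end Cfsg.Agent.J4Local
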