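import Cfsg.Agent.J4Local.FourData

/-!
# Fixed-point-free elements of order three next to a commuting pair, in dimension four

Such an element is a power of the scalar, or commutes with one of the pair, or generates with the pair a
group in which the scalar is conjugate to the second element or its square.
-/

set_option autoImplicit false
set_option maxRecDepth 100000

namespace Cfsg.Agent.J4Local

open Cfsg.Agent.J4Type.Rep

/-- The auxiliary basis vector next to `1` and `a`. -/
noncomputable def e2 (a : ℕ) : ℕ := cond (Nat.beq a 2 || Nat.beq a 3) 4 2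

/-- The four vectors and their images. -/
noncomputable def domL (a c : ℕ) : List ℕ := [1, a, e2 a, c]

/-- The images of the four vectors. -/
noncomputable def imgL (a c : ℕ) : List ℕ := [a, Nat.xor a 1, c, Nat.xor c (e2 a)]

/-- The four digits of a code. -/
def digits (m : ℕ) : List ℕ := [m % 16, m / 16 % 16, m / 256 % 16, m / 4096]

/-- The image code of the basis. -/
noncomputable def candM (a c m : ℕ) : List ℕ := (digits m).map (app (imgL a c))

/-- Whether two maps agree on the basis of the four-dimensional space. -/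
noncomputable def same4 (f g : ℕ → ℕ) : Bool :=
  (List.range 4).all fun i => Nat.beq (f (2 ^ i)) (g (2 ^ i))

/-- The generator with the given number. -/
noncomputable def genM (M : List ℕ) (i : ℕ) : List ℕ :=
  cond (Nat.beq i 0) X4 (cond (Nat.beq i 1) B4m M)

/-- A word of generators applied to a code. -/
noncomputable def wordApp (M : List ℕ) (w : List ℕ) (r : ℕ) : ℕ :=
  List.rec (motive := fun _ => ℕ) r (fun i _ acc => app (genM M i) acc) w

/-- The test of a witness. -/
noncomputable def witOK (a c : ℕ) (t : ℕ × ℕ × List ℕ) : Bool :=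
  if t.1 = 1 then Nat.beq (app (domL a c) t.2.1) 0 && !(Nat.beq (app (imgL a c) t.2.1) 0)
  else
    ((List.range 4).all fun i => Nat.beq (app (domL a c) ((digits t.2.1).getD i 0)) (2 ^ i)) &&
    (if t.1 = 2 then same4 (app (candM a c t.2.1)) (app X4) ||
        same4 (app (candM a c t.2.1)) (fun r => app X4 (app X4 r))
    else if t.1 = 3 then same4 (fun r => app (candM a c t.2.1) (app B4m r))
        (fun r => app B4m (app (candM a c t.2.1) r))
    else if t.1 = 5 then same4 (fun r => app (candM a c t.2.1) (app X4 r))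
        (fun r => app X4 (app (candM a c t.2.1) r))
    else same4 (fun r => wordApp (candM a c t.2.1) t.2.2 (app X4 r))
          (fun r => app B4m (wordApp (candM a c t.2.1) t.2.2 r)) ||
        same4 (fun r => wordApp (candM a c t.2.1) t.2.2 (app X4 r))
          (fun r => app B4m (app B4m (wordApp (candM a c t.2.1) t.2.2 r))))

theorem wit_check : ((List.range 16).all fun a => (List.range 16).all fun c =>
    Nat.blt a 2 || witOK a c (witnesses.getD (16 * a + c) (0, 0, []))) = true := by
  decide +kernel

variable {V : Type*} [AddCommGroup V]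

theorem lin_mem_of_four (B : List V) (hB : B.length = 4) : ∀ r, ∃ r', r' < 16 ∧ lin B r = lin B r' := by
  intro r
  refine ⟨r % 16, Nat.mod_lt _ (by norm_num), ?_⟩
  obtain ⟨a, b, c, d, rfl⟩ : ∃ a b c d, B = [a, b, c, d] := by
    match B, hB with
    | [a, b, c, d], _ => exact ⟨a, b, c, d, rfl⟩
  simp only [lin_cons, lin_nil]
  have h1 : r % 16 % 2 = r % 2 := by omega
  have h2 : r % 16 / 2 % 2 = r / 2 % 2 := by omega
  have h3 : r % 16 / 2 / 2 % 2 = r / 2 / 2 % 2 := by omega
  have h4 : r % 16 / 2 / 2 / 2 % 2 = r / 2 / 2 / 2 % 2 := by omega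
  rw [h1, h2, h3, h4]

theorem eq_of_same4 {B : List V} (hB : B.length = 4) {f g : ℕ → ℕ}
    {S T : V →+ V} (hf : ∀ r, S (lin B r) = lin B (f r)) (hg : ∀ r, T (lin B r) = lin B (g r))
    (h : same4 f g = true) : ∀ r, S (lin B r) = T (lin B r) := by
  intro r
  have hi : ∀ i, ∀ hi : i < B.length, S B[i] = T B[i] := by
    intro i hi
    rw [← lin_two_pow B i hi, hf, hg,
      Nat.eq_of_beq_eq_true (List.all_eq_true.1 h i (List.mem_range.2 (hB ▸ hi)))]
  rw [map_lin S, map_lin T]
  congr 1
  refine List.ext_getElem (by simp) fun i h1 h2 => ?_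
  rw [List.getElem_map, List.getElem_map]
  exact hi i (by simpa using h1)

/-- A product of the generators on the span. -/
inductive Word (X b y : AddMonoid.End V) : AddMonoid.End V → Prop where
  | one : Word X b y 1
  | x {T} : Word X b y T → Word X b y (X * T)
  | b {T} : Word X b y T → Word X b y (b * T)
  | y {T} : Word X b y T → Word X b y (y * T)

theorem exists_word {B : List V} {X b y : AddMonoid.End V} {M : List ℕ} (hX : Acts B X X4)
    (hb : Acts B b B4m) (hy : Acts B y M) : ∀ w : List ℕ, ∃ T, Word X b y T ∧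
      ∀ r, T (lin B r) = lin B (wordApp M w r)
  | [] => ⟨1, .one, fun r => rfl⟩
  | i :: w => by
    obtain ⟨T, hT, hTr⟩ := exists_word hX hb hy w
    have key : ∀ r, wordApp M (i :: w) r = app (genM M i) (wordApp M w r) := fun r => rfl
    match i with
    | 0 => exact ⟨X * T, hT.x, fun r => by
        rw [key, AddMonoid.End.coe_mul, Function.comp_apply, hTr, hX]; rfl⟩
    | 1 => exact ⟨b * T, hT.b, fun r => by
        rw [key, AddMonoid.End.coe_mul, Function.comp_apply, hTr, hb]; rfl⟩
    | n + 2 => exact ⟨y * T, hT.y, fun r => by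
        rw [key, AddMonoid.End.coe_mul, Function.comp_apply, hTr, hy]; rfl⟩

/-- **The lemma.** -/
theorem four (h2 : ∀ v : V, v + v = 0) {B : List V} (hB : B.length = 4)
    (hinj : ∀ r s, r < 16 → s < 16 → lin B r = lin B s → r = s) {X b y : AddMonoid.End V}
    (hX : Acts B X X4) (hb : Acts B b B4m) (hy : ∀ r, ∃ r', y (lin B r) = lin B r')
    (hfree : ∀ r, y (lin B r) = lin B r → lin B r = 0)
    (hy3 : ∀ r, y (y (y (lin B r))) = lin B r) :
    (∀ r, y (lin B r) = X (lin B r)) ∨ (∀ r, y (lin B r) = X (X (lin B r))) ∨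
    (∀ r, y (b (lin B r)) = b (y (lin B r))) ∨ (∀ r, y (X (lin B r)) = X (y (lin B r))) ∨
    ∃ T, Word X b y T ∧ ((∀ r, T (X (lin B r)) = b (T (lin B r))) ∨
      (∀ r, T (X (lin B r)) = b (b (T (lin B r))))) := by
  have hlin : ∀ (M : List ℕ) (r : ℕ), lin B (app M r) = lin (M.map (lin B)) r := lin_app h2 B
  have hy' : ∀ r, ∃ r', r' < 16 ∧ y (lin B r) = lin B r' := fun r => by
    obtain ⟨r', hr'⟩ := hy r
    obtain ⟨q, hq, hq'⟩ := lin_mem_of_four B hB r'
    exact ⟨q, hq, hr'.trans hq'⟩
  -- the relation `y² + y + 1 = 0`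
  have hnorm : ∀ r, y (y (lin B r)) = y (lin B r) + lin B r := by
    intro r
    obtain ⟨r1, -, e1⟩ := hy' r
    obtain ⟨r2, -, e2⟩ := hy' r1
    have hs : lin B r + y (lin B r) + y (y (lin B r)) = 0 := by
      have e : lin B r + y (lin B r) + y (y (lin B r)) = lin B (r ^^^ r1 ^^^ r2) := by
        rw [lin_xor h2, lin_xor h2, e1, e2]
      rw [e]
      refine hfree _ ?_
      rw [← e, map_add, map_add, hy3 r]
      abel
    have := eq_neg_of_add_eq_zero_right hs
    rw [this, neg_eq_of_add_eq_zero_right (h2 _), add_comm]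
  obtain ⟨a, ha, ea⟩ := hy' 1
  have h0 : lin B 0 = 0 := lin_zero B
  have hone : lin B 1 ≠ 0 := fun e => absurd (hinj 1 0 (by norm_num) (by norm_num) (e.trans h0.symm)) one_ne_zero
  have ha1 : ¬ a < 2 := by
    intro h
    interval_cases a
    · refine hone ?_
      have := hy3 1
      rw [ea, h0, map_zero, map_zero] at this
      exact this.symm
    · exact hone (hfree 1 ea)
  obtain ⟨c, hc, ec⟩ := hy' (e2 a)
  have hmap : ∀ m, y (lin B (app (domL a c) m)) = lin B (app (imgL a c) m) := by
    intro m
    rw [hlin, hlin]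
    refine (map_lin (y : V →+ V) _ m).trans (congrArg (fun L => lin L m) ?_)
    rw [List.map_map]
    simp only [domL, imgL, List.map_cons, List.map_nil, Function.comp_apply, List.cons.injEq, and_true]
    refine ⟨ea, ?_, ec, ?_⟩
    · show y (lin B a) = lin B (a ^^^ 1)
      rw [lin_xor h2, ← ea, hnorm]
    · show y (lin B c) = lin B (c ^^^ e2 a)
      rw [lin_xor h2, ← ec, hnorm]
  have hw := List.all_eq_true.1 (List.all_eq_true.1 wit_check a (List.mem_range.2 ha)) c (List.mem_range.2 hc)
  have hnb : Nat.blt a 2 = false := by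
    rw [Bool.eq_false_iff]
    simpa [Nat.blt] using ha1
  rw [hnb, Bool.false_or] at hw
  revert hw
  generalize witnesses.getD (16 * a + c) (0, 0, []) = t
  obtain ⟨k, m, w⟩ := t
  intro hw
  unfold witOK at hw
  split_ifs at hw with h1 h2' h3 h5
  · exfalso
    simp only [Bool.and_eq_true, Nat.beq_eq, Bool.not_eq_true'] at hw
    have h := hmap m
    rw [hw.1, h0, map_zero] at h
    obtain ⟨q, hq, hq'⟩ := lin_mem_of_four B hB (app (imgL a c) m)
    have hlt : app (imgL a c) m < 16 := by
      refine app_lt (n := 4) ?_ m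
      intro d hd
      simp only [imgL, List.mem_cons, List.not_mem_nil, or_false] at hd
      rcases hd with rfl | rfl | rfl | rfl
      · exact ha
      · exact Nat.xor_lt_two_pow (n := 4) ha (by norm_num)
      · exact hc
      · exact Nat.xor_lt_two_pow (n := 4) hc (by unfold e2; cases Nat.beq a 2 || Nat.beq a 3 <;> norm_num)
    have hz := hinj _ 0 hlt (by norm_num) (h.symm.trans h0.symm)
    have hne := hw.2
    rw [hz] at hne
    exact absurd hne (by decide)
  all_goals
    simp only [Bool.and_eq_true, Bool.or_eq_true] at hw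
    have hM : Acts B y (candM a c m) := by
      refine acts_of_map h2 (List.ext_getElem (by simp [candM, digits, hB]) fun i hi₁ hi₂ => ?_)
      have hi : i < 4 := by simpa [hB] using hi₁
      have e := Nat.eq_of_beq_eq_true (List.all_eq_true.1 hw.1 i (List.mem_range.2 hi))
      have hd : i < (digits m).length := by simpa [digits] using hi
      rw [List.getElem_map, List.getElem_map, ← lin_two_pow B i (hB ▸ hi), ← e, hmap,
        List.getD_eq_getElem _ _ hd]
      simp only [candM, List.getElem_map]
  · rcases hw.2 with h | h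
    · exact Or.inl (eq_of_same4 hB (S := (y : V →+ V)) (T := (X : V →+ V)) hM hX h)
    · refine Or.inr (Or.inl (eq_of_same4 hB (S := (y : V →+ V))
        (T := ((X * X : AddMonoid.End V) : V →+ V)) hM (fun r => ?_) h))
      show X (X (lin B r)) = _
      rw [hX, hX]
  · refine Or.inr (Or.inr (Or.inl (eq_of_same4 hB (S := ((y * b : AddMonoid.End V) : V →+ V))
      (T := ((b * y : AddMonoid.End V) : V →+ V)) (fun r => ?_) (fun r => ?_) hw.2)))
    · show y (b (lin B r)) = _
      rw [hb, hM]
    · show b (y (lin B r)) = _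
      rw [hM, hb]
  · refine Or.inr (Or.inr (Or.inr (Or.inl (eq_of_same4 hB (S := ((y * X : AddMonoid.End V) : V →+ V))
      (T := ((X * y : AddMonoid.End V) : V →+ V)) (fun r => ?_) (fun r => ?_) hw.2))))
    · show y (X (lin B r)) = _
      rw [hX, hM]
    · show X (y (lin B r)) = _
      rw [hM, hX]
  · obtain ⟨T, hT, hTr⟩ := exists_word hX hb hM w
    refine Or.inr (Or.inr (Or.inr (Or.inr ⟨T, hT, ?_⟩)))
    rcases hw.2 with h | h
    · refine Or.inl (eq_of_same4 hB (S := ((T * X : AddMonoid.End V) : V →+ V))
        (T := ((b * T : AddMonoid.End V) : V →+ V)) (fun r => ?_) (fun r => ?_) h)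
      · show T (X (lin B r)) = _
        rw [hX, hTr]
      · show b (T (lin B r)) = _
        rw [hTr, hb]
    · refine Or.inr (eq_of_same4 hB (S := ((T * X : AddMonoid.End V) : V →+ V))
        (T := ((b * b * T : AddMonoid.End V) : V →+ V)) (fun r => ?_) (fun r => ?_) h)
      · show T (X (lin B r)) = _
        rw [hX, hTr]
      · show b (b (T (lin B r))) = _
        rw [hTr, hb, hb]

end Cfsg.Agent.J4Local
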