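import Cfsg.Agent.J4Type.Rep.Code

/-!
# The witnesses for the fixed-point-free elements of order three of a four-dimensional space

For the pair of images of the first vector and of the second: the kind of case, a code, a word.
-/

set_option autoImplicit false

namespace Cfsg.Agent.J4Local

/-- The scalar on the four-dimensional space. -/
def X4 : List ℕ := [6, 11, 12, 4]

/-- The second element of order three. -/
def B4m : List ℕ := [10, 7, 8, 12]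

/-- The witnesses. -/
def witnesses : List (ℕ × ℕ × List ℕ) := [
  (0, 0, []), (0, 0, []), (0, 0, []), (0, 0, []),
  (0, 0, []), (0, 0, []), (0, 0, []), (0, 0, []),
  (0, 0, []), (0, 0, []), (0, 0, []), (0, 0, []),
  (0, 0, []), (0, 0, []), (0, 0, []), (0, 0, []),
  (0, 0, []), (0, 0, []), (0, 0, []), (0, 0, []),
  (0, 0, []), (0, 0, []), (0, 0, []), (0, 0, []),
  (0, 0, []), (0, 0, []), (0, 0, []), (0, 0, []),
  (0, 0, []), (0, 0, []), (0, 0, []), (0, 0, []),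
  (1, 8, []), (1, 9, []), (1, 10, []), (1, 11, []),
  (1, 12, []), (1, 13, []), (1, 14, []), (1, 15, []),
  (5, 33825, []), (4, 37921, [2, 1, 2, 0, 1, 2, 0, 2]), (4, 42017, [2, 0, 1, 1, 2, 0, 2]), (4, 46113, [2, 0, 1, 2, 0, 1, 2]),
  (3, 50209, []), (4, 54305, [2, 0, 0, 1, 2, 1, 2]), (4, 58401, [2, 1, 2, 0, 1, 2, 0, 2]), (4, 62497, [2, 0, 1, 2, 0, 1, 2]),
  (1, 8, []), (1, 9, []), (1, 11, []), (1, 10, []),
  (1, 12, []), (1, 13, []), (1, 15, []), (1, 14, []),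
  (3, 33841, []), (4, 37937, [2, 0, 1, 2, 1, 2]), (4, 46129, [2, 0, 1, 2, 0, 1, 2]), (4, 42033, [2, 1, 2, 0, 1, 2, 0, 2]),
  (5, 50225, []), (4, 54321, [2, 0, 1, 2, 0, 1, 2]), (4, 62513, [2, 0, 1, 2, 0, 2]), (4, 58417, [2, 1, 2, 0, 1, 2, 0, 2]),
  (1, 8, []), (1, 9, []), (1, 12, []), (1, 13, []),
  (1, 10, []), (1, 11, []), (1, 14, []), (1, 15, []),
  (4, 33345, [2, 0, 1, 2, 0, 1, 2]), (5, 37441, []), (3, 49729, []), (4, 53825, [2, 0, 1, 2, 1, 2]),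
  (4, 41537, [2, 0, 1, 1, 2, 0, 2]), (4, 45633, [2, 1, 2, 0, 1, 2, 0, 2]), (4, 57921, [2, 1, 2, 0, 1, 2, 0, 2]), (4, 62017, [2, 0, 1, 2, 0, 1, 2]),
  (1, 8, []), (1, 9, []), (1, 12, []), (1, 13, []),
  (1, 11, []), (1, 10, []), (1, 15, []), (1, 14, []),
  (3, 33601, []), (4, 37697, [2, 0, 0, 1, 2, 1, 2]), (4, 49985, [2, 1, 2, 0, 1, 2, 0, 2]), (5, 54081, []),
  (4, 45889, [2, 0, 1, 2, 0, 1, 2]), (4, 41793, [2, 1, 2, 0, 1, 2, 0, 2]), (4, 62273, [2, 0, 1, 2, 0, 2]), (4, 58177, [2, 0, 1, 2, 0, 1, 2]),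
  (1, 8, []), (1, 9, []), (1, 12, []), (1, 13, []),
  (1, 14, []), (1, 15, []), (1, 10, []), (1, 11, []),
  (5, 34369, []), (5, 38465, []), (4, 50753, [2, 0, 1, 2, 1, 2]), (2, 54849, []),
  (4, 58945, [2, 0, 1, 2, 1, 2]), (4, 63041, [2, 0, 1, 2, 1, 2]), (5, 42561, []), (5, 46657, []),
  (1, 8, []), (1, 9, []), (1, 12, []), (1, 13, []),
  (1, 15, []), (1, 14, []), (1, 11, []), (1, 10, []),
  (4, 34625, [2, 0, 0, 1, 2, 1, 2]), (2, 38721, []), (5, 51009, []), (5, 55105, []),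
  (5, 63297, []), (5, 59201, []), (4, 46913, [2, 0, 0, 1, 2, 1, 2]), (4, 42817, [2, 0, 0, 1, 2, 1, 2]),
  (1, 8, []), (1, 9, []), (1, 12, []), (1, 13, []),
  (4, 10305, [2, 1, 2, 0, 1, 2, 0, 2]), (3, 10561, []), (5, 11329, []), (4, 11585, [2, 0, 1, 2, 0, 2]),
  (1, 10, []), (1, 11, []), (1, 14, []), (1, 15, []),
  (4, 10817, [2, 0, 0, 1, 2, 1, 2]), (4, 11073, [2, 0, 1, 2, 0, 1, 2]), (4, 11841, [2, 0, 1, 2, 0, 1, 2]), (4, 12097, [2, 1, 2, 0, 1, 2, 0, 2]),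
  (1, 8, []), (1, 9, []), (1, 12, []), (1, 13, []),
  (5, 14401, []), (4, 14657, [2, 0, 1, 1, 2, 0, 2]), (4, 15425, [2, 0, 1, 2, 0, 1, 2]), (3, 15681, []),
  (1, 11, []), (1, 10, []), (1, 15, []), (1, 14, []),
  (4, 15169, [2, 1, 2, 0, 1, 2, 0, 2]), (4, 14913, [2, 0, 1, 2, 0, 1, 2]), (4, 16193, [2, 0, 1, 2, 1, 2]), (4, 15937, [2, 1, 2, 0, 1, 2, 0, 2]),
  (1, 8, []), (1, 9, []), (1, 12, []), (1, 13, []),
  (3, 26689, []), (3, 26945, []), (4, 27713, [2, 0, 1, 2, 0, 2]), (3, 27969, []),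
  (1, 14, []), (1, 15, []), (1, 10, []), (1, 11, []),
  (4, 28225, [2, 0, 1, 2, 0, 2]), (4, 28481, [2, 0, 1, 2, 0, 2]), (3, 27201, []), (3, 27457, []),
  (1, 8, []), (1, 9, []), (1, 12, []), (1, 13, []),
  (4, 30785, [2, 0, 1, 1, 2, 0, 2]), (3, 31041, []), (3, 31809, []), (3, 32065, []),
  (1, 15, []), (1, 14, []), (1, 11, []), (1, 10, []),
  (3, 32577, []), (3, 32321, []), (4, 31553, [2, 0, 1, 1, 2, 0, 2]), (4, 31297, [2, 0, 1, 1, 2, 0, 2]),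
  (1, 8, []), (1, 9, []), (1, 12, []), (1, 13, []),
  (4, 43073, [2, 0, 1, 2, 1, 2]), (4, 47425, [2, 0, 1, 1, 2, 0, 2]), (4, 60481, [2, 1, 2, 0, 1, 2, 0, 2]), (3, 64833, []),
  (4, 35393, [2, 0, 1, 2, 0, 2]), (4, 39745, [2, 0, 0, 1, 2, 1, 2]), (4, 52801, [2, 0, 1, 2, 0, 1, 2]), (5, 57153, []),
  (1, 10, []), (1, 11, []), (1, 14, []), (1, 15, []),
  (1, 8, []), (1, 9, []), (1, 12, []), (1, 13, []),
  (4, 47169, [2, 0, 1, 2, 0, 1, 2]), (3, 43329, []), (4, 64577, [2, 0, 0, 1, 2, 1, 2]), (4, 60737, [2, 0, 1, 2, 0, 2]),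
  (4, 35649, [2, 1, 2, 0, 1, 2, 0, 2]), (5, 39489, []), (4, 53057, [2, 0, 1, 1, 2, 0, 2]), (4, 56897, [2, 0, 1, 2, 1, 2]),
  (1, 11, []), (1, 10, []), (1, 15, []), (1, 14, []),
  (1, 8, []), (1, 9, []), (1, 12, []), (1, 13, []),
  (4, 59457, [2, 0, 1, 2, 0, 1, 2]), (4, 63809, [2, 0, 1, 1, 2, 0, 2]), (4, 44097, [2, 0, 1, 2, 0, 1, 2]), (3, 48449, []),
  (4, 36417, [2, 1, 2, 0, 1, 2, 0, 2]), (4, 40769, [2, 0, 0, 1, 2, 1, 2]), (4, 51777, [2, 1, 2, 0, 1, 2, 0, 2]), (5, 56129, []),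
  (1, 14, []), (1, 15, []), (1, 10, []), (1, 11, []),
  (1, 8, []), (1, 9, []), (1, 12, []), (1, 13, []),
  (4, 63553, [2, 1, 2, 0, 1, 2, 0, 2]), (3, 59713, []), (4, 48193, [2, 1, 2, 0, 1, 2, 0, 2]), (4, 44353, [2, 0, 1, 2, 0, 2]),
  (4, 36673, [2, 0, 1, 2, 0, 1, 2]), (5, 40513, []), (4, 52033, [2, 0, 1, 2, 0, 1, 2]), (4, 55873, [2, 0, 1, 2, 1, 2]),
  (1, 15, []), (1, 14, []), (1, 11, []), (1, 10, [])]

end Cfsg.Agent.J4Local
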