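import Cfsg.Agent.J4Local.Setup

/-!
# The hypotheses of the statements give a `Cover`
-/

set_option autoImplicit false
set_option linter.style.haveILetI false

open Subgroup Cfsg
open scoped Pointwise

namespace Cfsg.Agent.J4Local

universe u

variable {G : Type u} [Group G] [Finite G]

theorem exists_cover (x : G) (hx : orderOf x = 3)
    (hperf : ⁅(⊤ : Subgroup ↥(Cent x)), (⊤ : Subgroup ↥(Cent x))⁆ = ⊤)
    (hZ : IsCyclic ↥(center ↥(Cent x))) (hZc : Nat.card ↥(center ↥(Cent x)) = 6)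
    (e : ↥(Cent x) ⧸ center ↥(Cent x) ≃* ↥Spor.M22) (S : Sylow 3 G) (g : G)
    (hng : ((center ↥(S : Subgroup G)).map (S : Subgroup G).subtype).map (MulAut.conj g).toMonoidHom ≤
      (S : Subgroup G))
    (hne : ((center ↥(S : Subgroup G)).map (S : Subgroup G).subtype).map (MulAut.conj g).toMonoidHom ≠
      (center ↥(S : Subgroup G)).map (S : Subgroup G).subtype) :
    ∃ (t : G) (π : ↥(Cent x) →* ↥Spor.M22), Cover x t π := by
  classical
  haveI : Fact (Nat.Prime 3) := ⟨Nat.prime_three⟩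
  haveI := hZ
  obtain ⟨tc, htc⟩ := exists_prime_orderOf_dvd_card' (G := ↥(center ↥(Cent x))) 2 (hp := ⟨Nat.prime_two⟩)
    (by rw [hZc]; norm_num)
  set t : G := tc.1.1 with ht
  have hot : orderOf t = 2 := by rw [ht, Subgroup.orderOf_coe, Subgroup.orderOf_coe, htc]
  let π : ↥(Cent x) →* ↥Spor.M22 := e.toMonoidHom.comp (QuotientGroup.mk' (center ↥(Cent x)))
  have hπs : Function.Surjective π := e.surjective.comp (QuotientGroup.mk'_surjective _)
  have hker : π.ker = center ↥(Cent x) := by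
    rw [MonoidHom.ker_comp_of_injective _ _ e.injective, QuotientGroup.ker_mk']
  have hperf' : commutator ↥(Cent x) = ⊤ := by rw [_root_.commutator_def]; exact hperf
  haveI : IsSimpleGroup ↥Spor.M22 := Compute.isSimpleGroup_m22
  -- a Sylow 3-subgroup of the centraliser is one of `G`
  obtain ⟨R, hR⟩ : ∃ R : Sylow 3 ↥(Cent x), True := ⟨default, trivial⟩
  have hxC : (⟨x, x_mem⟩ : ↥(Cent x)) ∈ π.ker := by
    rw [hker, mem_center_iff]
    exact fun y => Subtype.ext (mem_Cent.1 y.2)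
  have hcs := J4Type.coverSylow (J4Type.threeFacts_of_card (M := ↥Spor.M22) (hc := Compute.card_m22)) π hπs
    (le_of_eq hker) (hker ▸ hZc) (p := (⟨x, x_mem⟩ : ↥(Cent x))) (by rw [Subgroup.orderOf_mk, hx]) hxC
    (hperf' ▸ mem_top _) R
  set R' : Subgroup G := (R : Subgroup ↥(Cent x)).map (Cent x).subtype with hR'
  have hR'3 : IsPGroup 3 ↥R' := R.isPGroup'.map _
  obtain ⟨P, hP⟩ := hR'3.exists_le_sylow
  have hcen : ∀ y ∈ R', (∀ z ∈ R', y * z = z * y) → y ∈ zpowers x := by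
    rintro _ ⟨y, hy, rfl⟩ h
    have hm : (y : ↥(Cent x)) ∈ (center ↥(R : Subgroup ↥(Cent x))).map (R : Subgroup ↥(Cent x)).subtype :=
      ⟨⟨y, hy⟩, mem_center_iff.2 fun z => Subtype.ext (Subtype.ext (h z.1.1 ⟨z.1, z.2, rfl⟩).symm), rfl⟩
    rw [hcs.center, mem_zpowers_iff] at hm
    obtain ⟨n, hn⟩ := hm
    exact mem_zpowers_iff.2 ⟨n, by rw [← hn]; rfl⟩
  have hxR : x ∈ R' := by
    have h : (⟨x, x_mem⟩ : ↥(Cent x)) ∈ (center ↥(R : Subgroup ↥(Cent x))).map (R : Subgroup ↥(Cent x)).subtype := by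
      rw [hcs.center]; exact mem_zpowers _
    obtain ⟨z, -, hz⟩ := h
    exact ⟨z.1, z.2, congrArg Subtype.val hz⟩
  have hR'C : R' ≤ Cent x := map_subtype_le _
  have hPR : R' = (P : Subgroup G) := by
    by_contra hne'
    have hlt : R'.subgroupOf (P : Subgroup G) < ⊤ := lt_top_iff_ne_top.2 fun h =>
      hne' (le_antisymm hP (subgroupOf_eq_top.1 h))
    haveI := P.isPGroup'.isNilpotent
    have hlt' := Group.normalizerCondition_of_isNilpotent (R'.subgroupOf (P : Subgroup G)) hlt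
    obtain ⟨y, hy, hyR⟩ := SetLike.exists_of_lt hlt'
    have hyn : ∀ z ∈ R', y.1 * z * y.1⁻¹ ∈ R' := fun z hz =>
      (mem_normalizer_iff.1 hy ⟨z, hP hz⟩).1 hz
    have hyx : y.1 * x * y.1⁻¹ ∈ zpowers x := by
      refine hcen _ (hyn x hxR) fun z hz => ?_
      obtain ⟨n, hn⟩ := P.isPGroup' y
      have hz' : y.1⁻¹ * z * y.1 ∈ R' := by
        have h := (mem_normalizer_iff''.1 hy ⟨z, hP hz⟩).1 hz
        exact h
      have hc' : (y.1⁻¹ * z * y.1) * x = x * (y.1⁻¹ * z * y.1) := mem_Cent.1 (hR'C hz')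
      calc y.1 * x * y.1⁻¹ * z = y.1 * (x * (y.1⁻¹ * z * y.1)) * y.1⁻¹ := by group
        _ = y.1 * ((y.1⁻¹ * z * y.1) * x) * y.1⁻¹ := by rw [hc']
        _ = z * (y.1 * x * y.1⁻¹) := by group
    have hyC : y.1 ∈ Cent x := by
      rcases zpowers_three hx hyx with e1 | e1 | e1
      · exact absurd e1 (by
          intro h1
          have := (orderOf_conj y.1 x).trans hx
          rw [h1, orderOf_one] at this
          norm_num at this)
      · exact mem_Cent.2 (mul_inv_eq_iff_eq_mul.1 e1)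
      · -- an element of odd order cannot invert `x`
        exfalso
        obtain ⟨n, hn⟩ := P.isPGroup' y
        have hn' : y.1 ^ (3 ^ n) = 1 := by
          have := congrArg Subtype.val hn
          simpa using this
        have hodd : ∀ m : ℕ, y.1 ^ m * x * (y.1 ^ m)⁻¹ = if Even m then x else x⁻¹ := by
          intro m
          induction m with
          | zero => simp
          | succ m ih =>
            rw [pow_succ', show y.1 * y.1 ^ m * x * (y.1 * y.1 ^ m)⁻¹ = y.1 * (y.1 ^ m * x * (y.1 ^ m)⁻¹) * y.1⁻¹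
              by group, ih]
            by_cases hm : Even m
            · rw [if_pos hm, if_neg (by rw [Nat.even_add_one]; exact not_not_intro hm), e1]
            · rw [if_neg hm, if_pos (Nat.even_add_one.2 hm), ← conj_inv, e1, inv_inv]
        have h := hodd (3 ^ n)
        rw [hn', one_mul, inv_one, mul_one, if_neg (Nat.not_even_iff_odd.2 (Odd.pow (by decide)))] at h
        have h2 := orderOf_dvd_of_pow_eq_one (show x ^ 2 = 1 by rw [pow_two]; nth_rw 2 [h]; exact mul_inv_cancel x)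
        rw [hx] at h2
        norm_num at h2
    have h3 : IsPGroup 3 ↥(((P : Subgroup G) ⊓ Cent x).subgroupOf (Cent x)) :=
      (P.isPGroup'.to_le inf_le_left).of_equiv (subgroupOfEquivOfLe inf_le_right).symm
    have hle : (R : Subgroup ↥(Cent x)) ≤ ((P : Subgroup G) ⊓ Cent x).subgroupOf (Cent x) :=
      fun z hz => mem_subgroupOf.2 ⟨hP ⟨z, hz, rfl⟩, z.2⟩
    have heq := R.is_maximal' h3 hle
    have hyR' : (⟨y.1, hyC⟩ : ↥(Cent x)) ∈ (R : Subgroup ↥(Cent x)) := by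
      rw [← heq]
      exact mem_subgroupOf.2 ⟨y.2, hyC⟩
    exact hyR (mem_subgroupOf.2 ⟨⟨y.1, hyC⟩, hyR', rfl⟩)
  obtain ⟨h, hh⟩ := MulAction.exists_smul_eq G P S
  have hS : ∀ z, z ∈ (S : Subgroup G) ↔ h⁻¹ * z * h ∈ R' := fun z => by
    rw [← hh, Sylow.coe_subgroup_smul, hPR, Subgroup.mem_pointwise_smul_iff_inv_smul_mem, ← map_inv,
      MulAut.smul_def, MulAut.conj_apply, inv_inv]
  have hxS : h * x * h⁻¹ ∈ (S : Subgroup G) := (hS _).2 (by
    rw [show h⁻¹ * (h * x * h⁻¹) * h = x by group]; exact hxR)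
  have hZS : (center ↥(S : Subgroup G)).map (S : Subgroup G).subtype = zpowers (h * x * h⁻¹) := by
    refine le_antisymm ?_ (zpowers_le.2 ⟨⟨_, hxS⟩, mem_center_iff.2 fun z => Subtype.ext ?_, rfl⟩)
    · rintro _ ⟨z, hz, rfl⟩
      have hz' : h⁻¹ * z.1 * h ∈ zpowers x := by
        refine hcen _ ((hS _).1 z.2) fun w hw => ?_
        have hwS : h * w * h⁻¹ ∈ (S : Subgroup G) := (hS _).2 (by
          rw [show h⁻¹ * (h * w * h⁻¹) * h = w by group]; exact hw)
        have hcm : h * w * h⁻¹ * z.1 = z.1 * (h * w * h⁻¹) :=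
          congrArg Subtype.val (mem_center_iff.1 hz ⟨_, hwS⟩)
        calc h⁻¹ * z.1 * h * w = h⁻¹ * (z.1 * (h * w * h⁻¹)) * h := by group
          _ = h⁻¹ * (h * w * h⁻¹ * z.1) * h := by rw [hcm]
          _ = w * (h⁻¹ * z.1 * h) := by group
      obtain ⟨i, hi⟩ := mem_zpowers_iff.1 hz'
      exact mem_zpowers_iff.2 ⟨i, by rw [conj_zpow, hi]; simp [mul_assoc]⟩
    · have hw := hR'C ((hS _).1 z.2)
      have hcm := mem_Cent.1 hw
      show z.1 * (h * x * h⁻¹) = h * x * h⁻¹ * z.1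
      calc z.1 * (h * x * h⁻¹) = h * ((h⁻¹ * z.1 * h) * x) * h⁻¹ := by group
        _ = h * (x * (h⁻¹ * z.1 * h)) * h⁻¹ := by rw [hcm]
        _ = h * x * h⁻¹ * z.1 := by group
  set k : G := h⁻¹ * g * h with hk
  refine ⟨t, π, ⟨hx, hot, tc.1.2, fun c hcC => ?_, hπs, hker, hker ▸ hZc, hperf', k, ?_, ?_⟩⟩
  · exact congrArg Subtype.val (mem_center_iff.1 tc.2 ⟨c, hcC⟩)
  · have hm : g * (h * x * h⁻¹) * g⁻¹ ∈ (S : Subgroup G) := hng ⟨h * x * h⁻¹, by
      rw [SetLike.mem_coe, hZS]; exact mem_zpowers _, rfl⟩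
    have := hR'C ((hS _).1 hm)
    rwa [hk, show h⁻¹ * g * h * x * (h⁻¹ * g * h)⁻¹ = h⁻¹ * (g * (h * x * h⁻¹) * g⁻¹) * h by group]
  · intro hkx
    refine hne ?_
    rw [hZS, MonoidHom.map_zpowers]
    have hmem : g * (h * x * h⁻¹) * g⁻¹ ∈ zpowers (h * x * h⁻¹) := by
      obtain ⟨i, hi⟩ := mem_zpowers_iff.1 hkx
      refine mem_zpowers_iff.2 ⟨i, ?_⟩
      rw [conj_zpow, hi, hk]
      group
    refine eq_of_le_of_card_ge (zpowers_le.2 hmem) ?_
    rw [Nat.card_zpowers, Nat.card_zpowers]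
    exact le_of_eq ((MulAut.conj g).orderOf_eq _).symm

end Cfsg.Agent.J4Local
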