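import Mathlib

/-!
# A counting argument

`L` has a subgroup `C` of index two with 1155 involutions, conjugate in `L`, whose centralisers lie in `L`; no
outer involution of `L` centralises fewer than three elements of `C`; `L` meets no other conjugate of itself in an
element of order three.  Then `L` is the whole group.
-/

set_option autoImplicit false
set_option linter.style.haveILetI false

open Subgroup
open scoped Pointwise

namespace Cfsg.Agent.J4Local

universe u

variable {X : Type u} [Group X] [Finite X]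

/-- The hypotheses of the counting argument. -/
structure GlobalData (L C : Subgroup X) (z : X) : Prop where
  le : C ≤ L
  two : ∀ u ∈ L, u ∉ C → ∀ v ∈ L, v ∉ C → u * v ∈ C
  normal : ∀ l ∈ L, ∀ c ∈ C, l * c * l⁻¹ ∈ C
  card : Nat.card C = 1330560
  z_mem : z ∈ C
  z_order : orderOf z = 3
  z_comm : ∀ c ∈ C, c * z = z * c
  conj : ∀ u ∈ C, ∀ v ∈ C, orderOf u = 2 → orderOf v = 2 → ∃ l ∈ L, l * u * l⁻¹ = v
  count : Nat.card {q : X // q ∈ C ∧ orderOf q = 2} = 1155
  cent : ∀ s ∈ C, orderOf s = 2 → ∀ q : X, q * s = s * q → q ∈ L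
  cent_primes : ∀ s ∈ C, orderOf s = 2 → ∀ v ∈ C, v * s = s * v → ∀ p : ℕ, p.Prime → p ∣ orderOf v → p = 2 ∨ p = 3
  outer : ∀ u ∈ L, u ∉ C → orderOf u = 2 → 3 ≤ Nat.card {c : X // c ∈ C ∧ c * u = u * c}
  three : ∀ g v : X, v ∈ L → orderOf v = 3 → g⁻¹ * v * g ∈ L → g ∈ L

variable {L C : Subgroup X} {z : X} (D : GlobalData L C z)
include D

theorem GlobalData.exists_inv : ∃ s ∈ C, orderOf s = 2 := by
  have : Nonempty {q : X // q ∈ C ∧ orderOf q = 2} := Nat.card_pos_iff.1 (D.count ▸ by norm_num) |>.1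
  exact ⟨this.some.1, this.some.2⟩

/-- An odd-order subgroup of `C` without elements of order three has order at most 385. -/
theorem GlobalData.odd_le (T : Subgroup X) (hT : T ≤ C) (h2 : ∀ v ∈ T, orderOf v ≠ 2)
    (h3 : ∀ v ∈ T, orderOf v ≠ 3) : Nat.card T ≤ 385 := by
  have hd : Nat.card T ∣ 3456 * 385 := by
    have := card_dvd_of_le hT
    rwa [D.card] at this
  have hcop : (Nat.card T).Coprime 3456 := by
    rw [show (3456 : ℕ) = 2 ^ 7 * 3 ^ 3 by norm_num]
    refine Nat.Coprime.mul_right (Nat.Coprime.pow_right _ ?_) (Nat.Coprime.pow_right _ ?_)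
    · rw [Nat.coprime_comm, Nat.Prime.coprime_iff_not_dvd Nat.prime_two]
      intro h
      obtain ⟨v, hv⟩ := exists_prime_orderOf_dvd_card' (G := T) 2 (hp := ⟨Nat.prime_two⟩) h
      exact h2 v.1 v.2 ((Subgroup.orderOf_coe v).trans hv)
    · rw [Nat.coprime_comm, Nat.Prime.coprime_iff_not_dvd Nat.prime_three]
      intro h
      obtain ⟨v, hv⟩ := exists_prime_orderOf_dvd_card' (G := T) 3 (hp := ⟨Nat.prime_three⟩) h
      exact h3 v.1 v.2 ((Subgroup.orderOf_coe v).trans hv)
  exact Nat.le_of_dvd (by norm_num) (hcop.dvd_of_dvd_mul_left hd)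

/-- No outer involution of `L` is conjugate to an involution of `C`. -/
theorem GlobalData.no_outer {s u g : X} (hs : s ∈ C) (hs2 : orderOf s = 2) (hu : u ∈ L)
    (hg : g * s * g⁻¹ = u) : u ∈ C := by
  classical
  by_contra huC
  have hgL : g ∉ L := fun h => huC (hg ▸ D.normal g h s hs)
  have hu2 : orderOf u = 2 := by rw [← hg, ← MulAut.conj_apply, (MulAut.conj g).orderOf_eq, hs2]
  let T : Subgroup X := C ⊓ centralizer ({u} : Set X)
  have hTcard : Nat.card {c : X // c ∈ C ∧ c * u = u * c} = Nat.card T := Nat.card_congr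
    (Equiv.subtypeEquivRight fun c => and_congr_right' mem_centralizer_singleton_iff.symm)
  have h3T : 3 ≤ Nat.card T := hTcard ▸ D.outer u hu huC hu2
  -- the elements centralising `u` lie in the conjugate of `L`
  have hmem : ∀ c ∈ T, g⁻¹ * c * g ∈ L := fun c hc => by
    refine D.cent s hs hs2 _ ?_
    have h := mem_centralizer_singleton_iff.1 hc.2
    rw [← hg] at h
    calc g⁻¹ * c * g * s = g⁻¹ * (c * (g * s * g⁻¹)) * g := by group
      _ = g⁻¹ * (g * s * g⁻¹ * c) * g := by rw [h]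
      _ = s * (g⁻¹ * c * g) := by group
  let T' : Subgroup X := T ⊓ C.comap (MulAut.conj g⁻¹).toMonoidHom
  have hT'mem : ∀ c, c ∈ T' ↔ c ∈ T ∧ g⁻¹ * c * g ∈ C := fun c => by
    simp [T', Subgroup.mem_inf, MulAut.conj_apply]
  have hT' : T' = ⊥ := by
    rw [Subgroup.eq_bot_iff_forall]
    intro c hc
    obtain ⟨hcT, hcC⟩ := (hT'mem c).1 hc
    by_contra hne
    obtain ⟨p, hp, hpd⟩ := Nat.exists_prime_and_dvd (show orderOf c ≠ 1 from fun e => hne (orderOf_eq_one_iff.1 e))
    have ho : orderOf (g⁻¹ * c * g) = orderOf c := by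
      have h := (MulAut.conj g⁻¹).orderOf_eq c
      rwa [MulAut.conj_apply, inv_inv] at h
    have hcs : g⁻¹ * c * g * s = s * (g⁻¹ * c * g) := by
      have h := mem_centralizer_singleton_iff.1 hcT.2
      rw [← hg] at h
      calc g⁻¹ * c * g * s = g⁻¹ * (c * (g * s * g⁻¹)) * g := by group
        _ = g⁻¹ * (g * s * g⁻¹ * c) * g := by rw [h]
        _ = s * (g⁻¹ * c * g) := by group
    have hp' := D.cent_primes s hs hs2 _ hcC hcs p hp (ho.symm ▸ hpd)
    set w := c ^ (orderOf c / p) with hw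
    have hwo : orderOf w = p := orderOf_pow_orderOf_div (orderOf_pos c).ne' hpd
    have hwC : w ∈ C := pow_mem hcT.1 _
    have hwC' : g⁻¹ * w * g ∈ C := by
      have : g⁻¹ * w * g = (g⁻¹ * c * g) ^ (orderOf c / p) := by
        rw [hw]
        have h := map_pow (MulAut.conj g⁻¹) c (orderOf c / p)
        simp only [MulAut.conj_apply, inv_inv] at h
        exact h
      rw [this]
      exact pow_mem hcC _
    rcases hp' with rfl | rfl
    · -- an involution: `z` would lie in both conjugates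
      have hzg : g⁻¹ * z * g ∈ L := by
        refine D.cent (g⁻¹ * w * g) hwC' ?_ _ ?_
        · have h := (MulAut.conj g⁻¹).orderOf_eq w
          rw [MulAut.conj_apply, inv_inv] at h
          exact h.trans hwo
        · calc g⁻¹ * z * g * (g⁻¹ * w * g) = g⁻¹ * (z * w) * g := by group
            _ = g⁻¹ * (w * z) * g := by rw [D.z_comm w hwC]
            _ = g⁻¹ * w * g * (g⁻¹ * z * g) := by group
      exact hgL (D.three g z (D.le D.z_mem) D.z_order hzg)
    · exact hgL (D.three g w (D.le hwC) hwo (D.le hwC'))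
  -- so at most two elements of `C` centralise `u`
  have hle : Nat.card T ≤ 2 := by
    by_contra h
    obtain ⟨a, b, hab, ha1, hb1⟩ : ∃ a b : T, a ≠ b ∧ a ≠ 1 ∧ b ≠ 1 := by
      haveI : Nontrivial T := Finite.one_lt_card_iff_nontrivial.1 (by omega)
      obtain ⟨a, ha⟩ := exists_ne (1 : T)
      by_contra hcon
      push Not at hcon
      have hall : ∀ b : T, b = 1 ∨ b = a := fun b => by
        by_cases hb : b = 1
        · exact Or.inl hb
        · right
          by_contra hba
          exact hb (hcon a b (Ne.symm hba) ha)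
      have h2 : Nat.card T ≤ 2 := by
        refine (Nat.card_le_card_of_surjective (fun i : Fin 2 => if i = 0 then (1 : T) else a) fun b => ?_).trans
          (le_of_eq (by simp))
        rcases hall b with e | e
        · exact ⟨0, by simp [e]⟩
        · exact ⟨1, by simp [e]⟩
      exact h h2
    have hout : ∀ c : T, c ≠ 1 → g⁻¹ * c.1 * g ∉ C := fun c hc hC => by
      have : c.1 ∈ T' := (hT'mem _).2 ⟨c.2, hC⟩
      rw [hT', Subgroup.mem_bot] at this
      exact hc (Subtype.ext this)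
    have hmem' : a.1 * b.1⁻¹ ∈ T' := by
      refine (hT'mem _).2 ⟨mul_mem a.2 (inv_mem b.2), ?_⟩
      have h' := D.two _ (hmem a a.2) (hout a ha1) _ (inv_mem (hmem b b.2))
        (fun h => hout b hb1 (inv_mem_iff.1 h))
      rwa [show g⁻¹ * a.1 * g * (g⁻¹ * b.1 * g)⁻¹ = g⁻¹ * (a.1 * b.1⁻¹) * g by group] at h'
    rw [hT', Subgroup.mem_bot, mul_inv_eq_one] at hmem'
    exact hab (Subtype.ext hmem')
  omega

/-- **`L` is the whole group.** -/
theorem GlobalData.eq_top : L = ⊤ := by
  classical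
  haveI := Fintype.ofFinite X
  by_contra hne
  obtain ⟨s, hs, hs2⟩ := D.exists_inv
  have hconjI : ∀ v, IsConj s v → ∃ g, g * s * g⁻¹ = v := fun v h => isConj_iff.1 h
  let I : Finset X := Finset.univ.filter fun v => IsConj s v
  have hinI : ∀ v ∈ I, v ∈ L → v ∈ C := fun v hv hvL => by
    obtain ⟨g, hg⟩ := hconjI v (Finset.mem_filter.1 hv).2
    exact D.no_outer hs hs2 hvL hg
  have hcardI : I.card = L.index * 1155 := by
    have h1 : I.card = (centralizer ({s} : Set X)).index := by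
      rw [← Fintype.card_subtype, ← Nat.card_eq_fintype_card]
      rw [index_eq_card]
      refine (Nat.card_congr (Equiv.ofBijective (Quotient.lift
        (fun g : X => (⟨g * s * g⁻¹, isConj_iff.2 ⟨g, rfl⟩⟩ : {v : X // IsConj s v})) ?_) ⟨?_, ?_⟩)).symm
      · intro a b hab
        have h := mem_centralizer_singleton_iff.1 (QuotientGroup.leftRel_apply.1 hab)
        refine Subtype.ext ?_
        show a * s * a⁻¹ = b * s * b⁻¹
        calc a * s * a⁻¹ = a * (s * (a⁻¹ * b)) * b⁻¹ := by group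
          _ = a * ((a⁻¹ * b) * s) * b⁻¹ := by rw [h]
          _ = b * s * b⁻¹ := by group
      · rintro ⟨a⟩ ⟨b⟩ h
        refine Quotient.sound (QuotientGroup.leftRel_apply.2 (mem_centralizer_singleton_iff.2 ?_))
        have h' : a * s * a⁻¹ = b * s * b⁻¹ := congrArg Subtype.val h
        calc a⁻¹ * b * s = a⁻¹ * (b * s * b⁻¹) * b := by group
          _ = a⁻¹ * (a * s * a⁻¹) * b := by rw [h']
          _ = s * (a⁻¹ * b) := by group
      · rintro ⟨v, hv⟩
        obtain ⟨g, hg⟩ := hconjI v hv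
        exact ⟨Quotient.mk'' g, Subtype.ext hg⟩
    have hsub : centralizer ({s} : Set X) ≤ L := fun q hq =>
      D.cent s hs hs2 q (mem_centralizer_singleton_iff.1 hq)
    have h2 := relIndex_mul_index hsub
    have h3 : (centralizer ({s} : Set X)).relIndex L = 1155 := by
      rw [← D.count, Subgroup.relIndex, index_eq_card]
      refine Nat.card_congr (Equiv.ofBijective (Quotient.lift
        (fun l : L => (⟨l.1 * s * l.1⁻¹, D.normal l l.2 s hs,
          by rw [← MulAut.conj_apply, (MulAut.conj l.1).orderOf_eq, hs2]⟩ : {q : X // q ∈ C ∧ orderOf q = 2}))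
          ?_) ⟨?_, ?_⟩)
      · intro a b hab
        have h := mem_centralizer_singleton_iff.1 (mem_subgroupOf.1 (QuotientGroup.leftRel_apply.1 hab))
        refine Subtype.ext ?_
        show a.1 * s * a.1⁻¹ = b.1 * s * b.1⁻¹
        calc a.1 * s * a.1⁻¹ = a.1 * (s * (a.1⁻¹ * b.1)) * b.1⁻¹ := by group
          _ = a.1 * ((a.1⁻¹ * b.1) * s) * b.1⁻¹ := by rw [show a.1⁻¹ * b.1 * s = s * (a.1⁻¹ * b.1) from h]
          _ = b.1 * s * b.1⁻¹ := by group
      · rintro ⟨a⟩ ⟨b⟩ h
        refine Quotient.sound (QuotientGroup.leftRel_apply.2 (mem_subgroupOf.2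
          (mem_centralizer_singleton_iff.2 ?_)))
        have h' : a.1 * s * a.1⁻¹ = b.1 * s * b.1⁻¹ := congrArg Subtype.val h
        show a.1⁻¹ * b.1 * s = s * (a.1⁻¹ * b.1)
        calc a.1⁻¹ * b.1 * s = a.1⁻¹ * (b.1 * s * b.1⁻¹) * b.1 := by group
          _ = a.1⁻¹ * (a.1 * s * a.1⁻¹) * b.1 := by rw [h']
          _ = s * (a.1⁻¹ * b.1) := by group
      · rintro ⟨q, hq, hq2⟩
        obtain ⟨l, hl, hlq⟩ := D.conj s hs q hq hs2 hq2
        exact ⟨Quotient.mk'' (⟨l, hl⟩ : L), Subtype.ext hlq⟩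
    rw [h1, ← h2, h3, mul_comm]
  -- the members outside `L` fall into `index - 1` cosets
  haveI := Fintype.ofFinite (X ⧸ L)
  have hidx : Fintype.card (X ⧸ L) = L.index := by rw [index_eq_card, Nat.card_eq_fintype_card]
  have h2le : 2 ≤ L.index := one_lt_index_of_ne_top hne
  let f : X → X ⧸ L := QuotientGroup.mk
  let cosets : Finset (X ⧸ L) := Finset.univ.erase (f 1)
  have hIL : (I.filter fun v => v ∈ L).card ≤ 1155 := by
    rw [← D.count, Nat.card_eq_fintype_card, Fintype.card_subtype]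
    refine Finset.card_le_card fun v hv => ?_
    obtain ⟨hvI, hvL⟩ := Finset.mem_filter.1 hv
    obtain ⟨g, hg⟩ := hconjI v (Finset.mem_filter.1 hvI).2
    exact Finset.mem_filter.2 ⟨Finset.mem_univ _, hinI v hvI hvL,
      by rw [← hg, ← MulAut.conj_apply, (MulAut.conj g).orderOf_eq, hs2]⟩
  obtain ⟨q, hq, hbig⟩ : ∃ q ∈ cosets, 1155 ≤ ((I.filter fun v => v ∉ L).filter fun v => f v = q).card := by
    refine Finset.exists_le_card_fiber_of_mul_le_card_of_maps_to (fun v hv => ?_) ?_ ?_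
    · refine Finset.mem_erase.2 ⟨fun e => (Finset.mem_filter.1 hv).2 ?_, Finset.mem_univ _⟩
      have := QuotientGroup.eq.1 (e.symm : f 1 = f v)
      rwa [inv_one, one_mul] at this
    · refine Finset.card_pos.1 ?_
      rw [Finset.card_erase_of_mem (Finset.mem_univ _), Finset.card_univ, hidx]
      omega
    · rw [Finset.card_erase_of_mem (Finset.mem_univ _), Finset.card_univ, hidx]
      have h := Finset.card_filter_add_card_filter_not (s := I) (fun v => v ∈ L)
      rw [hcardI] at h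
      have hmul : L.index * 1155 = (L.index - 1) * 1155 + 1155 := by
        obtain ⟨m, hm⟩ : ∃ m, L.index = m + 1 := ⟨L.index - 1, by omega⟩
        rw [hm, Nat.add_sub_cancel, add_mul, one_mul]
      omega
  obtain ⟨g, rfl⟩ := QuotientGroup.mk_surjective q
  have hgL : g ∉ L := fun h => (Finset.mem_erase.1 hq).1 (QuotientGroup.eq.2 (by simpa using h))
  let T : Subgroup X := L ⊓ L.comap (MulAut.conj g⁻¹).toMonoidHom
  have hT : 1155 ≤ Nat.card T := by
    obtain ⟨v1, hv1⟩ := Finset.card_pos.1 (lt_of_lt_of_le (by norm_num : 0 < 1155) hbig)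
    have hmem : ∀ v ∈ ((I.filter fun v => v ∉ L).filter fun v => f v = f g), g⁻¹ * v ∈ L ∧ v * v = 1 := by
      intro v hv
      obtain ⟨hv', hvq⟩ := Finset.mem_filter.1 hv
      obtain ⟨a, ha⟩ := hconjI v (Finset.mem_filter.1 (Finset.mem_filter.1 hv').1).2
      refine ⟨QuotientGroup.eq.1 hvq.symm, ?_⟩
      rw [← ha, show a * s * a⁻¹ * (a * s * a⁻¹) = a * (s * s) * a⁻¹ by group, ← pow_two,
        show s ^ 2 = 1 by rw [← hs2]; exact pow_orderOf_eq_one s, mul_one, mul_inv_cancel]
    obtain ⟨h1L, h1sq⟩ := hmem v1 hv1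
    refine hbig.trans ?_
    rw [Nat.card_eq_fintype_card, Fintype.card_subtype]
    refine Finset.card_le_card_of_injOn (fun v => v1 * v) (fun v hv => ?_) (fun a _ b _ h => mul_left_cancel h)
    obtain ⟨hL, hsq⟩ := hmem v hv
    have hinv : v⁻¹ = v := inv_eq_of_mul_eq_one_right hsq
    have hinv1 : v1⁻¹ = v1 := inv_eq_of_mul_eq_one_right h1sq
    have hL' : v * g ∈ L := by
      have := inv_mem hL
      rwa [mul_inv_rev, inv_inv, hinv] at this
    have h1L' : v1 * g ∈ L := by
      have := inv_mem h1L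
      rwa [mul_inv_rev, inv_inv, hinv1] at this
    refine Finset.mem_filter.2 ⟨Finset.mem_univ _, ⟨?_, ?_⟩⟩
    · show v1 * v ∈ L
      rw [show v1 * v = v1 * g * (g⁻¹ * v) by group]
      exact mul_mem h1L' hL
    · show g⁻¹ * (v1 * v) * g⁻¹⁻¹ ∈ L
      rw [inv_inv, show g⁻¹ * (v1 * v) * g = g⁻¹ * v1 * (v * g) by group]
      exact mul_mem h1L hL'
  have hT' : Nat.card (T ⊓ C : Subgroup X) ≤ 385 := by
    refine D.odd_le _ inf_le_right (fun v hv h => ?_) fun v hv h => ?_
    · obtain ⟨⟨-, hvg⟩, hvC⟩ := hv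
      have hvg' : g⁻¹ * v * g ∈ L := by simpa [MulAut.conj_apply] using hvg
      have ho : orderOf (g⁻¹ * v * g) = 2 := by
        have h' := (MulAut.conj g⁻¹).orderOf_eq v
        rw [MulAut.conj_apply, inv_inv] at h'
        exact h'.trans h
      have hw : g⁻¹ * v * g ∈ C := by
        obtain ⟨l, -, hl⟩ := D.conj s hs v hvC hs2 h
        exact D.no_outer hs hs2 hvg' (g := g⁻¹ * l) (by rw [← hl]; group)
      refine hgL (D.three g z (D.le D.z_mem) D.z_order (D.cent _ hw ho _ ?_))
      calc g⁻¹ * z * g * (g⁻¹ * v * g) = g⁻¹ * (z * v) * g := by group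
        _ = g⁻¹ * (v * z) * g := by rw [D.z_comm v hvC]
        _ = g⁻¹ * v * g * (g⁻¹ * z * g) := by group
    · obtain ⟨⟨hvL, hvg⟩, -⟩ := hv
      exact hgL (D.three g v hvL h (by simpa [MulAut.conj_apply] using hvg))
  have hT2 : Nat.card T ≤ 770 := by
    have h := ((T ⊓ C).subgroupOf T).card_mul_index
    rw [Nat.card_congr (subgroupOfEquivOfLe inf_le_left).toEquiv] at h
    have hi : ((T ⊓ C).subgroupOf T).index ≤ 2 := by
      rw [index_eq_card]
      by_contra hlt
      haveI := Fintype.ofFinite (↥T ⧸ (T ⊓ C).subgroupOf T)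
      rw [Nat.card_eq_fintype_card] at hlt
      obtain ⟨a, b, c, hab, hac, hbc⟩ := Fintype.two_lt_card_iff.1 (Nat.lt_of_not_le hlt)
      obtain ⟨a, rfl⟩ := QuotientGroup.mk_surjective a
      obtain ⟨b, rfl⟩ := QuotientGroup.mk_surjective b
      obtain ⟨c, rfl⟩ := QuotientGroup.mk_surjective c
      have key : ∀ p q : ↥T, ¬ (p.1⁻¹ * q.1 ∈ C) →
          ∀ r : ↥T, ¬ (q.1⁻¹ * r.1 ∈ C) → p.1⁻¹ * r.1 ∈ C := by
        intro p q hpq r hqr
        rw [show p.1⁻¹ * r.1 = (p.1⁻¹ * q.1) * (q.1⁻¹ * r.1) by group]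
        exact D.two _ (L.mul_mem (L.inv_mem p.2.1) q.2.1) hpq _ (L.mul_mem (L.inv_mem q.2.1) r.2.1) hqr
      have hm : ∀ p q : ↥T, p.1⁻¹ * q.1 ∈ C →
          (QuotientGroup.mk p : ↥T ⧸ (T ⊓ C).subgroupOf T) = QuotientGroup.mk q := fun p q h =>
        QuotientGroup.eq.2 (mem_subgroupOf.2 ⟨T.mul_mem (T.inv_mem p.2) q.2, h⟩)
      exact hac (hm a c (key a b (fun h => hab (hm a b h)) c fun h => hbc (hm b c h)))
    have := Nat.mul_le_mul hT' hi
    omega
  omega

end Cfsg.Agent.J4Local
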