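import Cfsg.Agent.J4Local.Quot

/-!
# The centraliser of an involution of `C'` lies in `L`
-/

set_option autoImplicit false
set_option linter.style.haveILetI false

open Subgroup Cfsg
open scoped Pointwise commutatorElement

namespace Cfsg.Agent.J4Local

open Cfsg.Agent.J4Type.Rep
open Cfsg.Agent.J4Type.Base (bar act_bar bar_surjective)

universe u

theorem four_check : (((List.range 3).all fun i => (List.range 3).all fun j =>
      (Nat.beq i 0 && Nat.beq j 0) ||
        !(same4 (fun r => it X4 i (it B4m j r)) id)) &&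
    ((List.range 16).all fun r => !(Nat.beq (app X4 r) r) || Nat.beq r 0)) = true := by
  decide +kernel

variable {G : Type u} [Group G] [Finite G] {x t : G} {π : ↥(Cent x) →* ↥Spor.M22} (hc : Cover x t π)
  (hch : CharTwo t)
include hc hch

omit hch in
theorem conj_zpow_x {b : G} (hb : Nc x b) {z : Xq t} (hz : z ∈ zpowers (qC hc ⟨b, hb.2.1⟩)) (h1 : z ≠ 1) :
    ∃ d, ∃ hd : Nc x d, qC hc ⟨d, hd.2.1⟩ = z := by
  have ho : orderOf (qC hc ⟨b, hb.2.1⟩) = 3 := by
    refine orderOf_eq_prime (hp := ⟨Nat.prime_three⟩) ?_ fun e => ?_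
    · rw [← map_pow, show (⟨b, hb.2.1⟩ : ↥(Cent x)) ^ 3 = 1 from Subtype.ext (pow_three_eq hb.1), map_one]
    · have h := qC_inj_three hc (d := ⟨b, hb.2.1⟩) (e := 1) (pow_three_eq hb.1) (one_pow 3) (by simp)
        (e.trans (map_one _).symm)
      exact hb.2.2 (by rw [show b = 1 from congrArg Subtype.val h]; exact one_mem _)
  rcases zpowers_three ho hz with e | e | e
  · exact absurd e h1
  · exact ⟨b, hb, e.symm⟩
  · exact ⟨b⁻¹, hb.inv, by rw [e, ← map_inv]; rfl⟩

/-- The centraliser in `X` of one special involution of `C'` lies in `L`. -/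
theorem exists_inv_cent : ∃ s : ↥(Cent x), π s ≠ 1 ∧ qC hc s * qC hc s = 1 ∧
    centralizer ({qC hc s} : Set (Xq t)) ≤ Lq hc := by
  classical
  haveI : Fact (Nat.Prime 3) := ⟨Nat.prime_three⟩
  obtain ⟨s, b, w, B, hw, hπs, hs2, hb3, hbx, hsb, hBlen, hinj, hX4, hB4, himg, hpre⟩ := exists_pair hc hch
  have h2 := two_V hc hch
  have hbN : Nc x b.1 := ⟨hb3, b.2, hbx⟩
  set S := qC hc s with hS
  set wb := qC hc w with hwb
  set bb := qC hc b with hbb
  set K := centralizer ({S} : Set (Xq t)) with hK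
  have hS2 : S * S = 1 := by
    rw [hS, ← map_mul]
    exact mk_eq_one.2 hs2
  refine ⟨s, hπs, hS2, ?_⟩
  have hEker : (E t).subgroupOf (Cent t) ≤ (actV t).ker := by
    intro e he
    refine MonoidHom.mem_ker.2 (AddMonoidHom.ext fun v => ?_)
    obtain ⟨f, rfl⟩ := bar_surjective t v
    show bar (⟨e.1 * f.1 * e.1⁻¹, E_conj e.2 f.2⟩ : ↥(E t)) = bar f
    refine (bar_eq hc hch).2 ?_
    show (e.1 * f.1 * e.1⁻¹)⁻¹ * f.1 ∈ zpowers t
    have h := comm_E hc hch (mem_subgroupOf.1 he) (inv_mem f.2)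
    rwa [inv_inv, show e.1 * f.1⁻¹ * e.1⁻¹ * f.1 = (e.1 * f.1 * e.1⁻¹)⁻¹ * f.1 by group] at h
  let act : Xq t →* AddMonoid.End (J4Type.Base.V t) := QuotientGroup.lift _ (actV t) hEker
  have hactC : ∀ c : ↥(Cent x), act (qC hc c) = actV t ⟨c.1, Cx_le_H hc c.2⟩ := fun c => rfl
  have act_mul : ∀ p q : Xq t, ∀ v, act (p * q) v = act p (act q v) := fun p q v => by
    rw [map_mul, AddMonoid.End.coe_mul, Function.comp_apply]
  have hW : ∀ k ∈ K, ∀ r, ∃ r', act k (lin B r) = lin B r' := by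
    intro k hk r
    obtain ⟨v, hv⟩ := hpre r
    obtain ⟨r', hr'⟩ := himg (act k v)
    refine ⟨r', ?_⟩
    rw [← hr', hv, ← hactC, map_add, ← act_mul, mem_centralizer_singleton_iff.1 hk, act_mul]
  have hwK : wb ∈ K := mem_centralizer_singleton_iff.2 (by
    rw [hwb, hS, ← map_mul, ← map_mul]
    refine congrArg _ (Subtype.ext ?_)
    show w.1 * s.1 = s.1 * w.1
    rcases hw with e | e <;> rw [e]
    · exact (mem_Cent.1 s.2).symm
    · exact ((show Commute s.1 x from mem_Cent.1 s.2).inv_right).symm.eq)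
  have hbK : bb ∈ K := mem_centralizer_singleton_iff.2 (by
    have h : qC hc (s * b * s⁻¹ * b⁻¹) = 1 := mk_eq_one.2 hsb
    rw [map_mul, map_mul, map_mul, map_inv, map_inv, mul_inv_eq_one, mul_inv_eq_iff_eq_mul] at h
    exact h.symm)
  have hxw : xb hc = wb ∨ xb hc = wb⁻¹ := by
    rcases hw with e | e
    · exact Or.inl (congrArg (qC hc) (Subtype.ext e.symm : (⟨x, x_mem⟩ : ↥(Cent x)) = w))
    · refine Or.inr ?_
      rw [hwb, ← map_inv]
      exact congrArg (qC hc) (Subtype.ext (show x = w.1⁻¹ by rw [e, inv_inv]))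
  have hxK : xb hc ∈ K := by
    rcases hxw with e | e <;> rw [e]
    · exact hwK
    · exact inv_mem hwK
  have hcomm : wb * bb = bb * wb := by
    rcases hxw with e | e
    · rw [← e]; exact (qC_central hc b).symm
    · have h : Commute bb wb⁻¹ := e ▸ qC_central hc b
      have h' := h.inv_right
      rw [inv_inv] at h'
      exact h'.eq.symm
  have how : orderOf wb = 3 := by
    rcases hxw with e | e
    · rw [← e]; exact xb_order hc
    · rw [show wb = (xb hc)⁻¹ by rw [e, inv_inv], orderOf_inv]; exact xb_order hc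
  have hob : orderOf bb = 3 := by
    refine orderOf_eq_prime ?_ fun e => ?_
    · rw [hbb, ← map_pow, show b ^ 3 = 1 from Subtype.ext (pow_three_eq hb3), map_one]
    · have h := qC_inj_three hc (d := b) (e := 1) (pow_three_eq hb3) (one_pow 3) (by simp)
        (e.trans (map_one _).symm)
      exact hbx (by rw [h]; exact one_mem _)
  -- the kernel on the four-dimensional space
  let K0 : Subgroup (Xq t) :=
    { carrier := {k | k ∈ K ∧ ∀ r, act k (lin B r) = lin B r}
      one_mem' := ⟨one_mem K, fun r => by rw [map_one]; rfl⟩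
      mul_mem' := fun {p q} hp hq => ⟨mul_mem hp.1 hq.1, fun r => by rw [act_mul, hq.2, hp.2]⟩
      inv_mem' := fun {p} hp => ⟨inv_mem hp.1, fun r => by
        conv_lhs => rw [← hp.2 r]
        rw [← act_mul, inv_mul_cancel, map_one]
        rfl⟩ }
  have hK0le : K0 ≤ K := fun k hk => hk.1
  have hKn : K ≤ normalizer (K0 : Set (Xq t)) := by
    have key : ∀ k ∈ K, ∀ n ∈ K0, k * n * k⁻¹ ∈ K0 := by
      rintro k hk n ⟨hn, hn'⟩
      refine ⟨mul_mem (mul_mem hk hn) (inv_mem hk), fun r => ?_⟩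
      obtain ⟨r', hr'⟩ := hW k⁻¹ (inv_mem hk) r
      rw [act_mul, act_mul, hr', hn', ← hr', ← act_mul, mul_inv_cancel, map_one]
      rfl
    intro k hk
    refine mem_normalizer_iff.2 fun n => ⟨key k hk n, fun h => ?_⟩
    have h' := key k⁻¹ (inv_mem hk) _ h
    rwa [show k⁻¹ * (k * n * k⁻¹) * k⁻¹⁻¹ = n by group] at h'
  have hcheck := four_check
  simp only [Bool.and_eq_true] at hcheck
  obtain ⟨hfaith, hfree4⟩ := hcheck
  -- `⟨x, b⟩` is faithful on the space
  have hfaithful : ∀ i j, i < 3 → j < 3 → wb ^ i * bb ^ j ∈ K0 → i = 0 ∧ j = 0 := by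
    intro i j hi hj h
    have e : same4 (fun r => it X4 i (it B4m j r)) id = true := by
      refine List.all_eq_true.2 fun q hq => ?_
      rw [Nat.beq_eq]
      have hq' : 2 ^ q < 2 ^ 4 := Nat.pow_lt_pow_right (by norm_num) (List.mem_range.1 hq)
      have hlt : ∀ (M : List ℕ), (∀ a ∈ M, a < 2 ^ 4) → ∀ n r, r < 2 ^ 4 → it M n r < 2 ^ 4 := by
        intro M hM n
        induction n with
        | zero => exact fun r hr => hr
        | succ n ih => exact fun r _ => app_lt hM _
      refine hinj _ _ (hlt X4 (by decide) i _ (hlt B4m (by decide) j _ hq')) hq' ?_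
      have h' := h.2 (2 ^ q)
      rw [act_mul, map_pow, map_pow, hbb, hwb, hactC, hactC, hB4.it, hX4.it] at h'
      exact h'
    have hh := List.all_eq_true.1 (List.all_eq_true.1 hfaith i (List.mem_range.2 hi)) j (List.mem_range.2 hj)
    rw [e] at hh
    simpa using hh
  -- `K0` has order prime to three
  have hK03 : ¬ 3 ∣ Nat.card K0 := by
    intro hdvd
    let A : Subgroup (Xq t) := Pr wb bb
    have hAK : A ≤ K := Pr_le hwK hbK
    have hw3 := pow_three_eq how
    have hb3' := pow_three_eq hob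
    have hA3 : IsPGroup 3 ↥A := fun d =>
      ⟨1, Subtype.ext (by rw [pow_one]; exact Pr_cube hcomm.symm hw3 hb3' d.1 d.2)⟩
    obtain ⟨P, hP⟩ := (hA3.of_equiv (subgroupOfEquivOfLe hAK).symm).exists_le_sylow
    haveI : (K0.subgroupOf K).Normal := normal_subgroupOf_of_le_normalizer hKn
    have hne : (P : Subgroup ↥K) ⊓ K0.subgroupOf K ≠ ⊥ := by
      obtain ⟨r, hr⟩ := exists_prime_orderOf_dvd_card' (G := ↥(K0.subgroupOf K)) 3
        (by rwa [Nat.card_congr (subgroupOfEquivOfLe hK0le).toEquiv])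
      obtain ⟨Q, hQ⟩ := (IsPGroup.of_card (n := 1) (p := 3) (show Nat.card (zpowers (r.1 : ↥K)) = 3 ^ 1 by
        rw [Nat.card_zpowers, Subgroup.orderOf_coe, hr, pow_one])).exists_le_sylow
      obtain ⟨g, hg⟩ := MulAction.exists_smul_eq ↥K Q P
      intro hbot
      have hmem : g * r.1 * g⁻¹ ∈ (P : Subgroup ↥K) ⊓ K0.subgroupOf K := by
        refine ⟨?_, (inferInstance : (K0.subgroupOf K).Normal).conj_mem _ r.2 g⟩
        rw [← hg, Sylow.coe_subgroup_smul]
        exact ⟨r.1, hQ (mem_zpowers _), rfl⟩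
      rw [hbot, Subgroup.mem_bot, mul_inv_eq_one, mul_eq_left] at hmem
      have : r = 1 := Subtype.ext hmem
      rw [this, orderOf_one] at hr
      norm_num at hr
    let T : Subgroup ↥(P : Subgroup ↥K) := (K0.subgroupOf K).subgroupOf (P : Subgroup ↥K)
    have hTne : T ≠ ⊥ := by
      intro h
      refine hne ((Subgroup.eq_bot_iff_forall _).2 fun p hp => ?_)
      have : (⟨p, hp.1⟩ : ↥(P : Subgroup ↥K)) ∈ T := hp.2
      rw [h, Subgroup.mem_bot] at this
      exact congrArg Subtype.val this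
    haveI : Nontrivial ↥T := (Subgroup.nontrivial_iff_ne_bot T).2 hTne
    haveI : Finite ↥T := inferInstance
    obtain ⟨z, hzT, hzc, hz1⟩ : ∃ z : ↥(P : Subgroup ↥K), z ∈ T ∧
        z ∈ center ↥(P : Subgroup ↥K) ∧ z ≠ 1 := by
      have hT3 : 3 ∣ Nat.card ↥T := by
        obtain ⟨n, hn, hcard⟩ := ((P.isPGroup').to_subgroup T).nontrivial_iff_card.1 inferInstance
        rw [hcard]
        exact dvd_pow_self 3 (by omega)
      have h1 : (1 : ↥T) ∈ MulAction.fixedPoints (ConjAct ↥(P : Subgroup ↥K)) ↥T := fun g => smul_one g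
      have hCA : IsPGroup 3 (ConjAct ↥(P : Subgroup ↥K)) :=
        P.isPGroup'.of_equiv ConjAct.toConjAct
      obtain ⟨z, hz, hne1⟩ := hCA.exists_fixed_point_of_prime_dvd_card_of_fixed_point ↥T hT3 h1
      refine ⟨z.1, z.2, mem_center_iff.2 fun g => ?_, fun e => hne1 (Subtype.ext e).symm⟩
      have h' : g * z.1 * g⁻¹ = z.1 := congrArg Subtype.val (hz (ConjAct.toConjAct g))
      exact mul_inv_eq_iff_eq_mul.1 h'
    obtain ⟨n, hn⟩ := P.isPGroup' z
    -- a power of order three
    obtain ⟨k, hk⟩ : ∃ k : ℕ, orderOf (z ^ k) = 3 := by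
      obtain ⟨m, hm, ho⟩ := (Nat.dvd_prime_pow Nat.prime_three).1 (orderOf_dvd_of_pow_eq_one hn)
      rcases m with _ | m
      · exact absurd (orderOf_eq_one_iff.1 (by simpa using ho)) hz1
      · refine ⟨3 ^ m, ?_⟩
        rw [orderOf_pow' z (pow_ne_zero m (by norm_num)), ho, Nat.gcd_eq_right (pow_dvd_pow 3 (Nat.le_succ m)),
          pow_succ, Nat.mul_div_cancel_left _ (pow_pos (by norm_num) m)]
    set y : Xq t := ((z ^ k : ↥(P : Subgroup ↥K)) : ↥K).1 with hy
    have hyo : orderOf y = 3 := by rw [hy, Subgroup.orderOf_coe, Subgroup.orderOf_coe, hk]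
    have hyK0 : y ∈ K0 := mem_subgroupOf.1 (mem_subgroupOf.1 (pow_mem hzT k))
    have hcen : ∀ q ∈ A, y * q = q * y := fun q hq =>
      congrArg (fun p : ↥(P : Subgroup ↥K) => ((p : ↥K) : Xq t))
        (mem_center_iff.1 (pow_mem hzc k) ⟨⟨q, hAK hq⟩, hP (mem_subgroupOf.2 hq)⟩).symm
    have hyx : y * xb hc = xb hc * y := hcen _ (by
      rcases hxw with e | e <;> rw [e]
      · exact mem_sup_left (mem_zpowers _)
      · exact inv_mem (mem_sup_left (mem_zpowers _)))
    obtain ⟨d, hd3, hdy⟩ := lift_three hc ((mem_Cq hc).2 hyx) (pow_three_eq hyo)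
    have hdb : d.1 * b.1 = b.1 * d.1 := by
      have h1 : qC hc (d * b * d⁻¹) = qC hc b := by
        rw [map_mul, map_mul, map_inv, hdy, hcen _ (mem_sup_right (mem_zpowers bb)), mul_inv_cancel_right]
      have h3 : (d.1 * b.1 * d.1⁻¹) ^ 3 = 1 := by rw [conj_pow, pow_three_eq hb3, mul_one, mul_inv_cancel]
      have hE : qC hc (b⁻¹ * (d * b * d⁻¹)) = 1 := by rw [map_mul, map_inv, h1, inv_mul_cancel]
      have hcm : Commute b.1 (b.1⁻¹ * (d.1 * b.1 * d.1⁻¹)) := by
        rcases zpowers_t hc ((qC_eq_one hc).1 hE) with e | e <;>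
          rw [show b.1⁻¹ * (d.1 * b.1 * d.1⁻¹) = _ from e]
        · exact Commute.one_right _
        · exact hc.central_t b.1 b.2
      have hbd : d.1 * b.1 * d.1⁻¹ * b.1 = b.1 * (d.1 * b.1 * d.1⁻¹) := by
        calc d.1 * b.1 * d.1⁻¹ * b.1 = b.1 * (b.1⁻¹ * (d.1 * b.1 * d.1⁻¹) * b.1) := by group
          _ = b.1 * (b.1 * (b.1⁻¹ * (d.1 * b.1 * d.1⁻¹))) := by rw [hcm.eq]
          _ = b.1 * (d.1 * b.1 * d.1⁻¹) := by rw [mul_inv_cancel_left]
      have e := qC_inj_three hc (d := d * b * d⁻¹) (e := b) h3 (pow_three_eq hb3) hbd h1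
      exact mul_inv_eq_iff_eq_mul.1 (congrArg Subtype.val e)
    obtain ⟨i, j, hij⟩ := Pr_exists hbN.comm (mem_Pr hc hbN d.2 hd3 hdb)
    have hyij : y = xb hc ^ i * bb ^ j := by
      rw [← hdy, show d = (⟨x, x_mem⟩ : ↥(Cent x)) ^ i * b ^ j from Subtype.ext hij, map_mul, map_zpow, map_zpow]
      rfl
    obtain ⟨i', hi', hxi⟩ : ∃ i' : ℕ, i' < 3 ∧ xb hc ^ i = wb ^ i' := by
      have hmem : xb hc ^ i ∈ zpowers wb := by
        rcases hxw with e | e <;> rw [e]
        · exact zpow_mem (mem_zpowers _) i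
        · exact zpow_mem (inv_mem (mem_zpowers _)) i
      rcases zpowers_three how hmem with e | e | e
      · exact ⟨0, by norm_num, by rw [e, pow_zero]⟩
      · exact ⟨1, by norm_num, by rw [e, pow_one]⟩
      · exact ⟨2, by norm_num, by
          rw [e, inv_eq_iff_mul_eq_one, ← pow_succ']
          exact pow_three_eq how⟩
    obtain ⟨j', hj', hbj⟩ : ∃ j' : ℕ, j' < 3 ∧ bb ^ j = bb ^ j' := by
      rcases zpowers_three hob (zpow_mem (mem_zpowers bb) j) with e | e | e
      · exact ⟨0, by norm_num, by rw [e, pow_zero]⟩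
      · exact ⟨1, by norm_num, by rw [e, pow_one]⟩
      · exact ⟨2, by norm_num, by
          rw [e, inv_eq_iff_mul_eq_one, ← pow_succ']
          exact pow_three_eq hob⟩
    rw [hxi, hbj] at hyij
    obtain ⟨rfl, rfl⟩ := hfaithful i' j' hi' hj' (hyij ▸ hyK0)
    rw [hyij, pow_zero, pow_zero, one_mul, orderOf_one] at hyo
    norm_num at hyo
  have hK0L : K0 ≤ Lq hc := signalizer hc hch hbN hK03 (hKn hxK) (hKn hbK)
  -- every element of `K` normalises `⟨x⟩` modulo `K0`
  intro k hk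
  set y := k * wb * k⁻¹ with hy
  have hyK : y ∈ K := mul_mem (mul_mem hk hwK) (inv_mem hk)
  have hyo : orderOf y = 3 := (orderOf_conj k wb).trans how
  have hfree : ∀ r, act y (lin B r) = lin B r → lin B r = 0 := by
    intro r h
    obtain ⟨r', hr'⟩ := hW k⁻¹ (inv_mem hk) r
    obtain ⟨q, hq, hq'⟩ := lin_mem_of_four B hBlen r'
    have h' : act wb (lin B q) = lin B q := by
      rw [← hq', ← hr', ← act_mul, show wb * k⁻¹ = k⁻¹ * y by rw [hy]; group, act_mul, h]
    rw [hwb, hactC, hX4] at h'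
    have e := hinj _ q (app_lt (n := 4) (by decide) _) hq h'
    have hh := List.all_eq_true.1 hfree4 q (List.mem_range.2 hq)
    rw [e] at hh
    have hq0 : q = 0 := by simpa using hh
    have h0 : act k⁻¹ (lin B r) = 0 := by rw [hr', hq', hq0, lin_zero]
    have h1 := congrArg (act k) h0
    rw [map_zero, ← act_mul, mul_inv_cancel, map_one] at h1
    exact h1
  have hy3 : ∀ r, act y (act y (act y (lin B r))) = lin B r := fun r => by
    rw [← act_mul, ← act_mul, show y * y * y = y ^ 3 by rw [pow_succ, pow_two], pow_three_eq hyo, map_one]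
    rfl
  -- a conjugate of `x` in `L` finishes
  have hfinish : ∀ g : Xq t, g * wb * g⁻¹ ∈ Lq hc → g ∈ Lq hc := fun g hg => by
    refine conj_mem_Lq hc hch ?_
    rcases hxw with e | e <;> rw [e]
    · exact hg
    · rw [← conj_inv]; exact inv_mem hg
  -- congruent modulo `K0` to an element of `L`
  have hmodL : ∀ d, d ∈ K → d ∈ Lq hc → (∀ r, act y (lin B r) = act d (lin B r)) → k ∈ Lq hc := by
    intro d hd hdL h
    refine hfinish k ?_
    have hm : d⁻¹ * y ∈ K0 := ⟨mul_mem (inv_mem hd) hyK, fun r => by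
      rw [act_mul, h, ← act_mul, inv_mul_cancel, map_one]
      rfl⟩
    have := mul_mem hdL (hK0L hm)
    rwa [mul_inv_cancel_left] at this
  -- commuting modulo `K0` with an element whose centraliser is in `L`
  have hcommL : ∀ d, d ∈ K → orderOf d = 3 → (∀ q, q * d = d * q → q ∈ Lq hc) →
      (∀ r, act y (act d (lin B r)) = act d (act y (lin B r))) → k ∈ Lq hc := by
    intro d hd hdo hcent h
    refine hfinish k ?_
    have hcop : (Nat.card ↥(zpowers d)).Coprime (Nat.card ↥K0) := by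
      rw [Nat.card_zpowers, hdo]
      exact (Nat.prime_three.coprime_iff_not_dvd).2 hK03
    have hk1 : y⁻¹ * (d * y * d⁻¹) ∈ K0 := by
      refine ⟨mul_mem (inv_mem hyK) (mul_mem (mul_mem hd hyK) (inv_mem hd)), fun r => ?_⟩
      obtain ⟨r', hr'⟩ := hW d⁻¹ (inv_mem hd) r
      rw [act_mul, act_mul, act_mul, hr', ← h, ← hr', ← act_mul d, mul_inv_cancel, map_one]
      show act y⁻¹ (act y (lin B r)) = lin B r
      rw [← act_mul, inv_mul_cancel, map_one]
      rfl
    have hdn := mem_normalizer_iff.1 (hKn hd)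
    obtain ⟨n, hn, hyn⟩ := Coprime.exists_fixed_mem_leftCoset (A := zpowers d) (N := K0) (k := y)
      (zpowers_le.2 (hKn hd)) hcop
      (Or.inl (Group.isSolvable_of_comm fun p q => Subtype.ext (by
        obtain ⟨i, hi⟩ := mem_zpowers_iff.1 p.2
        obtain ⟨j, hj⟩ := mem_zpowers_iff.1 q.2
        rw [coe_mul, coe_mul, ← hi, ← hj, ← zpow_add, ← zpow_add, add_comm])))
      (fun a ha => by
        rcases zpowers_three hdo ha with rfl | rfl | rfl
        · simp
        · exact hk1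
        · have h2 := (mem_normalizer_iff.1 (hKn (inv_mem hd)) _).1 hk1
          have e : y⁻¹ * (d⁻¹ * y * d⁻¹⁻¹) = (d⁻¹ * (y⁻¹ * (d * y * d⁻¹)) * d⁻¹⁻¹)⁻¹ := by group
          rw [e]
          exact inv_mem h2)
    have hL := hcent (y * n) (mem_centralizer_iff.1 hyn d (mem_zpowers d)).symm
    have := mul_mem hL (inv_mem (hK0L hn))
    rwa [mul_inv_cancel_right] at this
  have hwL : wb ∈ Lq hc := Cq_le_Lq hc ⟨w, rfl⟩
  have hwcent : ∀ q, q * wb = wb * q → q ∈ Lq hc := fun q hq => Cq_le_Lq hc ((mem_Cq hc).2 (by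
    rcases hxw with e | e <;> rw [e]
    · exact hq
    · exact ((show Commute q wb from hq).inv_right).eq))
  have hbcent : ∀ q, q * bb = bb * q → q ∈ Lq hc := fun q hq =>
    hbN.centX_le hc hch (mem_centralizer_singleton_iff.2 hq)
  rcases four h2 hBlen hinj (X := act wb) (b := act bb) (y := act y) hX4 hB4 (hW y hyK) hfree hy3 with
    h | h | h | h | ⟨T, hT, h⟩
  · exact hmodL wb hwK hwL h
  · exact hmodL (wb * wb) (mul_mem hwK hwK) (mul_mem hwL hwL) fun r => by rw [h r, act_mul]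
  · exact hcommL bb hbK hob hbcent h
  · exact hcommL wb hwK how hwcent h
  · exfalso
    -- the word lifts to an element of `K`
    obtain ⟨g, hgK, hgT⟩ : ∃ g ∈ K, act g = T := by
      clear h
      induction hT with
      | one => exact ⟨1, one_mem K, map_one act⟩
      | x _ ih =>
        obtain ⟨g, hg, e⟩ := ih
        exact ⟨wb * g, mul_mem hwK hg, by rw [map_mul, e]⟩
      | b _ ih =>
        obtain ⟨g, hg, e⟩ := ih
        exact ⟨bb * g, mul_mem hbK hg, by rw [map_mul, e]⟩
      | y _ ih =>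
        obtain ⟨g, hg, e⟩ := ih
        exact ⟨y * g, mul_mem hyK hg, by rw [map_mul, e]⟩
    obtain ⟨d, hdK, hdm, hd1, hd⟩ : ∃ d ∈ K, d ∈ zpowers bb ∧ d ≠ 1 ∧
        ∀ r, act (g * wb) (lin B r) = act (d * g) (lin B r) := by
      rcases h with h | h
      · exact ⟨bb, hbK, mem_zpowers _, fun e => by rw [e, orderOf_one] at hob; norm_num at hob,
          fun r => by rw [act_mul, act_mul, hgT]; exact h r⟩
      · refine ⟨bb * bb, mul_mem hbK hbK, mul_mem (mem_zpowers _) (mem_zpowers _), fun e => ?_,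
          fun r => by rw [act_mul, act_mul, act_mul, hgT]; exact h r⟩
        have h2 := orderOf_dvd_of_pow_eq_one (show bb ^ 2 = 1 by rw [pow_two, e])
        rw [hob] at h2
        norm_num at h2
    set z := g * wb * g⁻¹ with hz
    have hzK : z ∈ K := mul_mem (mul_mem hgK hwK) (inv_mem hgK)
    have hzd : d⁻¹ * z ∈ K0 := ⟨mul_mem (inv_mem hdK) hzK, fun r => by
      obtain ⟨r', hr'⟩ := hW g⁻¹ (inv_mem hgK) r
      rw [hz, ← mul_assoc, act_mul, hr', act_mul d⁻¹, hd r', ← act_mul, ← hr', ← act_mul,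
        show d⁻¹ * (d * g) * g⁻¹ = 1 by group, map_one]
      rfl⟩
    have hdo : orderOf d = 3 := by
      have h' := orderOf_dvd_of_mem_zpowers hdm
      rw [hob, Nat.dvd_prime Nat.prime_three, orderOf_eq_one_iff] at h'
      exact h'.resolve_left hd1
    have hzo : orderOf z = 3 := (orderOf_conj g wb).trans how
    have hle : zpowers z ≤ K0 ⊔ zpowers d := by
      refine zpowers_le.2 ?_
      rw [show z = (d * (d⁻¹ * z) * d⁻¹) * d by group]
      exact mul_mem (mem_sup_left ((mem_normalizer_iff.1 (hKn hdK) _).1 hzd))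
        (mem_sup_right (mem_zpowers d))
    obtain ⟨n, hn, hne⟩ := Coprime.exists_conj_eq (A := zpowers d) (K := K0) (B := zpowers z)
      (zpowers_le.2 (hKn hdK))
      (by rw [Nat.card_zpowers, hdo]; exact (Nat.prime_three.coprime_iff_not_dvd).2 hK03)
      (Or.inl (Group.isSolvable_of_comm fun p q => Subtype.ext (by
        obtain ⟨i, hi⟩ := mem_zpowers_iff.1 p.2
        obtain ⟨j, hj⟩ := mem_zpowers_iff.1 q.2
        rw [coe_mul, coe_mul, ← hi, ← hj, ← zpow_add, ← zpow_add, add_comm])))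
      hle (by rw [Nat.card_zpowers, Nat.card_zpowers, hzo, hdo])
    -- so `x` is conjugate to a noncentral element
    have hmem : n * z * n⁻¹ ∈ zpowers d := by
      rw [← hne]
      exact ⟨z, mem_zpowers z, rfl⟩
    have hmem' : n * g * xb hc * (n * g)⁻¹ ∈ zpowers bb := by
      have h1 : n * z * n⁻¹ ∈ zpowers bb := zpowers_le.2 hdm hmem
      rcases hxw with e | e <;> rw [e]
      · rwa [show n * g * wb * (n * g)⁻¹ = n * z * n⁻¹ by rw [hz]; group]
      · rw [show n * g * wb⁻¹ * (n * g)⁻¹ = (n * z * n⁻¹)⁻¹ by rw [hz]; group]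
        exact inv_mem h1
    obtain ⟨e, he, hee⟩ := conj_zpow_x hc hbN hmem' (fun e => by
      have h' := (orderOf_conj (n * g) (xb hc)).trans (xb_order hc)
      rw [e, orderOf_one] at h'
      norm_num at h')
    exact he.not_conj hc hch (n * g) hee.symm

end Cfsg.Agent.J4Local
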