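import Cfsg.Agent.M22Order.Facts
import Cfsg.Agent.M22Order.Three
import Cfsg.Agent.M22Order.Invol
import Cfsg.Agent.J4Type.Sylow3
import Cfsg.Agent.Compute.FixedCounts
import Cfsg.Agent.Compute.Mathieu
import Cfsg.Agent.J4Type.Rep.Eleven

/-!
# Small facts about M22

Centralisers of involutions and of elements of order three, no elementary abelian subgroup of order 32, and
an automorphism of order two fixes at least three elements.
-/

set_option autoImplicit false
set_option linter.style.haveILetI false

open Subgroup Cfsg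
open scoped Pointwise

namespace Cfsg.Agent.J4Local

local notation "M" => Subtype (fun x => x ∈ Cfsg.Spor.M22)

theorem m22Facts : ∃ _ : Fintype M, ∃ hF : M22Order.Facts M, Nonempty (M22Order.Chars M) := by
  haveI : Finite M := Nat.finite_of_card_ne_zero (by rw [Compute.card_m22]; norm_num)
  haveI := Fintype.ofFinite M
  haveI : IsSimpleGroup M := Compute.isSimpleGroup_m22
  have hF := M22Order.facts (Compute.card_m22)
  obtain ⟨K⟩ := hF.exists_chars
  exact ⟨inferInstance, hF, ⟨K⟩⟩

instance m22_finite : Finite M := Nat.finite_of_card_ne_zero (by rw [Compute.card_m22]; norm_num)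

theorem card_cent_two {u : M} (hu : orderOf u = 2) : Nat.card (centralizer ({u} : Set M)) = 384 := by
  obtain ⟨_, hF, ⟨K⟩⟩ := m22Facts
  exact (hF.involution K hu).1

theorem conj_two {u v : M} (hu : orderOf u = 2) (hv : orderOf v = 2) : IsConj u v := by
  obtain ⟨_, hF, ⟨K⟩⟩ := m22Facts
  exact hF.isConj_involution K hu hv

theorem card_cent_three {w : M} (hw : orderOf w = 3) : Nat.card (centralizer ({w} : Set M)) = 36 := by
  obtain ⟨_, hF, ⟨K⟩⟩ := m22Facts
  exact hF.card_centralizer_three K hw

theorem conj_three {u v : M} (hu : orderOf u = 3) (hv : orderOf v = 3) : IsConj u v := by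
  obtain ⟨_, hF, ⟨K⟩⟩ := m22Facts
  exact hF.isConj_three K hu hv

theorem card_two_elts : Nat.card {g : M // orderOf g = 2} = 1155 := by
  obtain ⟨_, hF, ⟨K⟩⟩ := m22Facts
  exact hF.card_involutions K

theorem card_three_elts : Nat.card {g : M // orderOf g = 3} = 12320 := by
  obtain ⟨_, hF, ⟨K⟩⟩ := m22Facts
  exact hF.card_three K

/-- The fixed points of a permutation in M22 among the 24 points. -/
theorem card_fixed_involution {u : M} (hu : orderOf u = 2) :
    Nat.card (MulAction.fixedBy GolayPt (u : Equiv.Perm GolayPt)) = 8 := by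
  classical
  have hg : (u : Equiv.Perm GolayPt) ∈ M24 := u.2.1.1
  have h2 : orderOf (u : Equiv.Perm GolayPt) = 2 := by rw [Subgroup.orderOf_coe, hu]
  have hnone : (u : Equiv.Perm GolayPt) none = none := MulAction.mem_stabilizer_iff.1 u.2.1.2
  rcases Compute.involution_cases hg h2 with ⟨h, -⟩ | ⟨h, -⟩
  · rw [Nat.card_eq_fintype_card, Fintype.card_subtype]
    simpa [MulAction.mem_fixedBy] using h
  · exact absurd hnone (h none)

/-- No elementary abelian subgroup of order 32: the number of orbits would not be an integer. -/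
theorem no_elementary_32 (D : Subgroup M) (hD : Nat.card D = 32) (h2 : ∀ d ∈ D, d * d = 1) : False := by
  classical
  haveI := Fintype.ofFinite D
  let φ : D →* Equiv.Perm GolayPt := Spor.M22.subtype.comp D.subtype
  letI : MulAction D GolayPt := MulAction.compHom GolayPt φ
  haveI := Fintype.ofFinite (MulAction.orbitRel.Quotient D GolayPt)
  have hb := MulAction.sum_card_fixedBy_eq_card_orbits_mul_card_group D GolayPt
  have hfix : ∀ d : D, Fintype.card (MulAction.fixedBy GolayPt d) = if d = 1 then 24 else 8 := by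
    intro d
    split_ifs with h
    · subst h
      rw [← Nat.card_eq_fintype_card, MulAction.fixedBy_one_eq_univ, Nat.card_coe_set_eq, Set.ncard_univ,
        Nat.card_eq_fintype_card]
      decide
    · have hd : orderOf (d : M) = 2 := by
        refine orderOf_eq_prime (hp := ⟨Nat.prime_two⟩) (by rw [sq]; exact h2 _ d.2) ?_
        exact fun e => h (Subtype.ext e)
      rw [← Nat.card_eq_fintype_card, ← card_fixed_involution hd]
      rfl
  simp only [hfix] at hb
  rw [← Finset.add_sum_erase _ _ (Finset.mem_univ (1 : D)), if_pos rfl,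
    Finset.sum_congr rfl fun d hd => if_neg (Finset.ne_of_mem_erase hd), Finset.sum_const,
    Finset.card_erase_of_mem (Finset.mem_univ _), Finset.card_univ, ← Nat.card_eq_fintype_card, hD] at hb
  simp at hb
  omega

/-- The elements inverted by an involutory automorphism with a single pair of fixed points would be too many. -/
theorem three_le_card_fixed (α : MulAut M) (hα : α * α = 1) : 3 ≤ Nat.card {m : M // α m = m} := by
  classical
  haveI := Fintype.ofFinite M
  by_contra hlt
  have hk : Nat.card {m : M // α m = m} ≤ 2 := by omega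
  have hN : Fintype.card M = 443520 := by rw [← Nat.card_eq_fintype_card, Compute.card_m22]
  have hαα : ∀ m, α (α m) = m := fun m => by rw [← MulAut.mul_apply, hα, MulAut.one_apply]
  let T : Finset M := Finset.univ.filter fun m => α m = m⁻¹
  let f : M → M := fun m => m⁻¹ * α m
  -- the fibres of `f` are at most as large as the fixed subgroup
  have himg : ∀ m, f m ∈ T := fun m => Finset.mem_filter.2 ⟨Finset.mem_univ _, by
    show α (m⁻¹ * α m) = (m⁻¹ * α m)⁻¹
    rw [map_mul, map_inv, hαα, mul_inv_rev, inv_inv]⟩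
  have hT : 221760 ≤ T.card := by
    have h1 : (Finset.univ : Finset M).card ≤ 2 * T.card := by
      refine Finset.card_le_mul_card_image_of_maps_to (f := f) (fun m _ => himg m) 2 fun y _ => ?_
      rcases (Finset.univ.filter fun m => f m = y).eq_empty_or_nonempty with e | ⟨m₀, hm₀⟩
      · rw [e]; simp
      refine le_trans ?_ hk
      rw [Nat.card_eq_fintype_card, Fintype.card_subtype]
      refine Finset.card_le_card_of_injOn (fun m => m * m₀⁻¹) (fun m hm => ?_)
        (fun a _ b _ h => mul_right_cancel h)
      simp only [Finset.coe_filter, Finset.mem_univ, true_and, Set.mem_setOf_eq, Finset.mem_filter] at hm hm₀ ⊢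
      have e : m⁻¹ * α m = m₀⁻¹ * α m₀ := hm.trans hm₀.symm
      rw [map_mul, map_inv, show α m = m * (m₀⁻¹ * α m₀) by rw [← e, mul_inv_cancel_left]]
      group
    rw [Finset.card_univ, hN] at h1
    omega
  -- some inverted element has order at least three
  have hbig : ∃ y ∈ T, y ≠ 1 ∧ y * y ≠ 1 := by
    by_contra h
    push Not at h
    have h1 : T ⊆ insert 1 (Finset.univ.filter fun g : M => orderOf g = 2) := fun y hy => by
      by_cases e : y = 1
      · simp [e]
      · exact Finset.mem_insert_of_mem (Finset.mem_filter.2 ⟨Finset.mem_univ _,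
          orderOf_eq_prime (hp := ⟨Nat.prime_two⟩) (by rw [sq]; exact h y hy e) e⟩)
    have h2 := (Finset.card_le_card h1).trans (Finset.card_insert_le _ _)
    have h3 : (Finset.univ.filter fun g : M => orderOf g = 2).card = 1155 := by
      rw [← card_two_elts, Nat.card_eq_fintype_card, Fintype.card_subtype]
    omega
  obtain ⟨y, hy, hy1, hy2⟩ := hbig
  have hcent : ∀ z : M, z ≠ 1 → z ∈ T → (T ∩ (T.image (z * ·))).card ≤ 63360 := by
    intro z hz hzT
    have hsub : T ∩ T.image (z * ·) ⊆ Finset.univ.filter fun g => g ∈ centralizer ({z} : Set M) := by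
      intro g hg
      obtain ⟨hgT, hgi⟩ := Finset.mem_inter.1 hg
      obtain ⟨c, hc, rfl⟩ := Finset.mem_image.1 hgi
      refine Finset.mem_filter.2 ⟨Finset.mem_univ _, mem_centralizer_singleton_iff.2 ?_⟩
      have e1 := (Finset.mem_filter.1 hgT).2
      have e2 := (Finset.mem_filter.1 hc).2
      have e3 := (Finset.mem_filter.1 hzT).2
      rw [map_mul, e2, e3, ← mul_inv_rev, inv_inj] at e1
      show z * c * z = z * (z * c)
      rw [mul_assoc, e1]
    have h1 := Finset.card_le_card hsub
    rw [← Fintype.card_subtype, ← Nat.card_eq_fintype_card] at h1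
    have hne : centralizer ({z} : Set M) ≠ ⊤ := by
      intro e
      have hzc : z ∈ center M := mem_center_iff.2 fun g =>
        mem_centralizer_singleton_iff.1 (e ▸ mem_top g : g ∈ centralizer ({z} : Set M))
      haveI : IsSimpleGroup M := Compute.isSimpleGroup_m22
      rcases (inferInstance : (center M).Normal).eq_bot_or_eq_top with hb | ht
      · rw [hb, Subgroup.mem_bot] at hzc
        exact hz hzc
      · letI : CommGroup M := { mul_comm := fun a b => (mem_center_iff.1 (ht ▸ mem_top b) a) }
        have := IsSimpleGroup.prime_card (α := M)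
        rw [Compute.card_m22] at this
        norm_num at this
    have h2 := (centralizer ({z} : Set M)).card_mul_index
    rw [Compute.card_m22] at h2
    have h3 : 7 ≤ (centralizer ({z} : Set M)).index := by
      by_contra h7
      haveI : IsSimpleGroup M := Compute.isSimpleGroup_m22
      have hker : (MulAction.toPermHom M (M ⧸ centralizer ({z} : Set M))).ker = ⊥ := by
        rw [← Subgroup.normalCore_eq_ker]
        rcases ((centralizer ({z} : Set M)).normalCore_normal).eq_bot_or_eq_top with e | e
        · exact e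
        · exact absurd (top_le_iff.1 (e ▸ normalCore_le _)) hne
      have hd := card_dvd_of_injective _ ((MonoidHom.ker_eq_bot_iff _).1 hker)
      rw [Nat.card_perm, ← Subgroup.index_eq_card, Compute.card_m22] at hd
      have := Nat.le_of_dvd (Nat.factorial_pos _) hd
      have h8 := Nat.factorial_le (show (centralizer ({z} : Set M)).index ≤ 7 by omega)
      rw [show Nat.factorial 7 = 5040 from rfl] at h8
      omega
    have : Nat.card (centralizer ({z} : Set M)) * 7 ≤ 443520 := h2 ▸ Nat.mul_le_mul_left _ h3
    omega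
  have hyy : y * y ∈ T := by
    have e := (Finset.mem_filter.1 hy).2
    refine Finset.mem_filter.2 ⟨Finset.mem_univ _, ?_⟩
    rw [map_mul, e, mul_inv_rev]
  have c1 := hcent y hy1 hy
  have c2 := hcent (y * y) hy2 hyy
  set A := T.image (y * ·) with hA
  set B := T.image (y * y * ·) with hB
  have hBA : B = A.image (y * ·) := by
    rw [hA, hB, Finset.image_image]
    exact Finset.image_congr fun g _ => mul_assoc y y g
  have c3 : (A ∩ B).card ≤ 63360 := by
    rw [hBA, hA, ← Finset.image_inter _ _ (mul_right_injective y),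
      Finset.card_image_of_injective _ (mul_right_injective y)]
    exact c1
  have hcA : A.card = T.card := Finset.card_image_of_injective _ (mul_right_injective y)
  have hcB : B.card = T.card := Finset.card_image_of_injective _ (mul_right_injective _)
  have u1 := Finset.card_union_add_card_inter T A
  have u2 := Finset.card_union_add_card_inter (T ∪ A) B
  have u3 : ((T ∪ A) ∩ B).card ≤ (T ∩ B).card + (A ∩ B).card := by
    rw [Finset.union_inter_distrib_right]
    exact Finset.card_union_le _ _
  have u4 := Finset.card_le_univ (T ∪ A ∪ B)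
  rw [hN] at u4
  omega

/-- A 2-subgroup of the centraliser of an involution `u`, containing `u` and normalised by an element of
order three with no fixed point outside `⟨u⟩`, has order at most 32. -/
theorem two_sub_le {u w : M} (hu : orderOf u = 2) (hw : orderOf w = 3) (huw : u * w = w * u)
    (D : Subgroup M) (hD2 : IsPGroup 2 D) (hDu : D ≤ centralizer ({u} : Set M)) (huD : u ∈ D)
    (hwD : ∀ d ∈ D, w * d * w⁻¹ ∈ D) (hfix : ∀ d ∈ D, d * w = w * d → d = 1 ∨ d = u) :
    Nat.card D ≤ 32 := by
  classical
  haveI : Fact (Nat.Prime 2) := ⟨Nat.prime_two⟩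
  haveI : Fact (Nat.Prime 3) := ⟨Nat.prime_three⟩
  obtain ⟨k, hk⟩ := hD2.exists_card_eq
  have hdvd : 2 ^ k ∣ 384 := hk ▸ card_cent_two hu ▸ card_dvd_of_le hDu
  have hk7 : k ≤ 7 := by
    by_contra h
    exact absurd ((pow_dvd_pow 2 (show 8 ≤ k by omega)).trans hdvd) (by norm_num)
  have hu1 : u ≠ 1 := fun e => by rw [e, orderOf_one] at hu; omega
  have hw3 : w * w * w = 1 := by
    rw [← pow_orderOf_eq_one w, hw, pow_succ, pow_two]
  -- the fixed points of `w` on `D`
  let f : D → D := fun d => ⟨w * d.1 * w⁻¹, hwD d.1 d.2⟩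
  have hf : f^[3] = id := by
    funext d
    apply Subtype.ext
    show w * (w * (w * d.1 * w⁻¹) * w⁻¹) * w⁻¹ = d.1
    rw [show w * (w * (w * d.1 * w⁻¹) * w⁻¹) * w⁻¹ = w * w * w * d.1 * (w * w * w)⁻¹ by group, hw3,
      one_mul, inv_one, mul_one]
  have hcard : Nat.card {d : D // f d = d} = 2 := by
    refine Nat.card_eq_two_iff.2 ⟨⟨⟨1, one_mem D⟩, Subtype.ext (by simp [f])⟩,
      ⟨⟨u, huD⟩, Subtype.ext (show w * u * w⁻¹ = u by rw [← huw, mul_inv_cancel_right])⟩, ?_, ?_⟩
    · intro e
      exact hu1 (congrArg (fun q => (q.1.1 : M)) e).symm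
    · refine Set.eq_univ_of_forall fun d => ?_
      rcases hfix d.1.1 d.1.2 (mul_inv_eq_iff_eq_mul.1 (congrArg Subtype.val d.2)).symm with e | e
      · exact Or.inl (Subtype.ext (Subtype.ext e))
      · exact Or.inr (Subtype.ext (Subtype.ext e))
  have hmod := J4Type.Rep.card_fixed_modEq (p := 3) hf
  rw [hcard, hk] at hmod
  by_contra hlt
  have hk6 : 6 ≤ k := by
    by_contra h
    have h5 := Nat.pow_le_pow_right (show 0 < 2 by norm_num) (show k ≤ 5 by omega)
    norm_num at h5
    omega
  interval_cases k
  · exact absurd hmod (by decide)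
  -- the whole centraliser normalises `D`, so `D` has a third fixed point
  have hwC : w ∈ centralizer ({u} : Set M) := mem_centralizer_singleton_iff.2 huw.symm
  have hcyc : Nat.card (zpowers w) = 3 := by rw [Nat.card_zpowers, hw]
  have hwN : w ∈ normalizer (D : Set M) := by
    refine mem_normalizer_iff.2 fun d => ⟨hwD d, fun h => ?_⟩
    have h2 := hwD _ (hwD _ h)
    rwa [show w * (w * (w * d * w⁻¹) * w⁻¹) * w⁻¹ = w * w * w * d * (w * w * w)⁻¹ by group, hw3,
      one_mul, inv_one, mul_one] at h2
  have heq : D ⊔ zpowers w = centralizer ({u} : Set M) := by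
    refine eq_of_le_of_card_ge (sup_le hDu (zpowers_le.2 hwC)) ?_
    rw [card_cent_two hu]
    have h1 : Nat.card D ∣ Nat.card (D ⊔ zpowers w : Subgroup M) := card_dvd_of_le le_sup_left
    have h2 : Nat.card (zpowers w) ∣ Nat.card (D ⊔ zpowers w : Subgroup M) :=
      card_dvd_of_le le_sup_right
    rw [hk] at h1
    rw [hcyc] at h2
    exact Nat.le_of_dvd Nat.card_pos ((by norm_num : Nat.Coprime (2 ^ 7) 3).mul_dvd_of_dvd_of_dvd h1 h2)
  have hnorm : centralizer ({u} : Set M) ≤ normalizer (D : Set M) :=
    heq ▸ sup_le le_normalizer (zpowers_le.2 hwN)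
  obtain ⟨Q, hQ⟩ : ∃ Q : Subgroup (centralizer ({w} : Set M)), Nat.card Q = 2 ^ 2 ∧
      (zpowers (⟨u, mem_centralizer_singleton_iff.2 huw⟩ : centralizer ({w} : Set M))) ≤ Q :=
    Sylow.exists_subgroup_card_pow_prime_le 2 (n := 1) (m := 2)
      (by rw [card_cent_three hw]; norm_num) _
      (by rw [Nat.card_zpowers, Subgroup.orderOf_mk, hu, pow_one]) (by norm_num)
  obtain ⟨v, hvQ, hv1, hvu⟩ : ∃ v : centralizer ({w} : Set M), v ∈ Q ∧ v.1 ≠ 1 ∧ v.1 ≠ u := by
    by_contra h
    push Not at h
    have hle : Q ≤ zpowers (⟨u, mem_centralizer_singleton_iff.2 huw⟩ : centralizer ({w} : Set M)) := by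
      intro v hv
      by_cases e : v.1 = 1
      · rw [show v = 1 from Subtype.ext e]; exact one_mem _
      · rw [show v = ⟨u, _⟩ from Subtype.ext (h v hv e)]; exact mem_zpowers _
    have := Nat.card_le_card_of_injective _ (inclusion_injective hle)
    rw [hQ.1, Nat.card_zpowers, Subgroup.orderOf_mk, hu] at this
    norm_num at this
  haveI : IsMulCommutative Q :=
    ⟨⟨IsPGroup.commutative_of_card_eq_prime_sq (p := 2) hQ.1⟩⟩
  have hvc : v.1 ∈ centralizer ({u} : Set M) := mem_centralizer_singleton_iff.2
    (congrArg (fun q : Q => (q.1.1 : M))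
      (IsMulCommutative.is_comm.comm (⟨v, hvQ⟩ : Q) ⟨⟨u, _⟩, hQ.2 (mem_zpowers _)⟩))
  -- a 2-element normalising a Sylow 2-subgroup lies in it
  have hvD : v.1 ∈ D := by
    have hv2 : IsPGroup 2 (zpowers v.1) := by
      refine ((IsPGroup.of_card hQ.1).map (centralizer ({w} : Set M)).subtype).to_le (zpowers_le.2 ?_)
      exact ⟨v, hvQ, rfl⟩
    have hle : zpowers v.1 ≤ normalizer (D : Set M) := zpowers_le.2 (hnorm hvc)
    have hp : IsPGroup 2 (D ⊔ zpowers v.1 : Subgroup M) := hD2.to_sup_of_normal_left' hv2 hle
    obtain ⟨j, hj⟩ := hp.exists_card_eq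
    have hsup : D ⊔ zpowers v.1 ≤ centralizer ({u} : Set M) := sup_le hDu (zpowers_le.2 hvc)
    have hj7 : j ≤ 7 := by
      by_contra h
      have := (pow_dvd_pow 2 (show 8 ≤ j by omega)).trans (hj ▸ card_cent_two hu ▸ card_dvd_of_le hsup)
      norm_num at this
    have : D ⊔ zpowers v.1 = D := (eq_of_le_of_card_ge le_sup_left
      (by rw [hj, hk]; exact Nat.pow_le_pow_right (by norm_num) hj7)).symm
    exact this ▸ (le_sup_right : zpowers v.1 ≤ _) (mem_zpowers v.1)
  rcases hfix v.1 hvD (mem_centralizer_singleton_iff.1 v.2) with e | e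
  · exact hv1 e
  · exact hvu e

end Cfsg.Agent.J4Local
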