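import Cfsg.Agent.J4Local.Extra
import Cfsg.Agent.J4Local.Four
import Cfsg.Agent.J4Type.Base

/-!
# The module `E / ⟨t⟩`

`C(x) / ⟨t⟩` acts on `E / ⟨t⟩` as in the normal form of the triple cover of M22.  In it an involution and an
element of order three commute, and the commutator of the involution is a space of dimension four.
-/

set_option autoImplicit false
set_option linter.style.haveILetI false

open Subgroup Cfsg
open scoped Pointwise commutatorElement

namespace Cfsg.Agent.J4Local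

open Cfsg.Agent.J4Type.Rep Cfsg.Agent.J4Type.Base

universe u

/-- The element of order three commuting with the involution. -/
def bM : List ℕ := [160, 40, 288, 544, 33, 96, 32, 48, 991, 34, 1024, 2048]

/-- The involution. -/
def sM : List ℕ := [1, 5, 3, 257, 65, 129, 17, 33, 9, 1022, 1024, 2048]

/-- A basis of the commutator of the involution. -/
def wBasis : List ℕ := [7, 265, 81, 161]

/-- Whether two maps agree on the basis of the twelve-dimensional space. -/
noncomputable def same12 (f g : ℕ → ℕ) : Bool :=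
  (List.range 12).all fun i => Nat.beq (f (2 ^ i)) (g (2 ^ i))

/-- The product `y x f f x x x x` on codes. -/
noncomputable def bWord (r : ℕ) : ℕ := app Ym (app Xm (app F0 (app F0 (it Xm 4 r))))

theorem rep_check :
    (same12 (fun r => app F0 (app F0 r)) (app sM) && same12 (fun r => bWord (bWord r)) (app bM) &&
    same12 (fun r => app sM (app bM r)) (fun r => app bM (app sM r)) &&
    same12 (fun r => app bM (app bM (app bM r))) id &&
    same12 (fun r => app sM (app sM r)) id &&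
    !(same12 (app sM) id) && !(same12 (app bM) id) && !(same12 (app bM) (app Wm)) &&
    !(same12 (app bM) (fun r => app Wm (app Wm r))) &&
    ((List.range 12).all fun i => (List.range 16).any fun c =>
      Nat.beq (Nat.xor (app sM (2 ^ i)) (2 ^ i)) (app wBasis c)) &&
    (wBasis.all fun w => (List.range 4096).any fun v => Nat.beq (Nat.xor (app sM v) v) w) &&
    ((List.range 16).all fun c => (List.range 16).all fun d =>
      !(Nat.beq (app wBasis c) (app wBasis d)) || Nat.beq c d) &&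
    ((List.range 4).all fun i => Nat.beq (app Wm (app wBasis (2 ^ i))) (app wBasis (app X4 (2 ^ i))) &&
      Nat.beq (app bM (app wBasis (2 ^ i))) (app wBasis (app B4m (2 ^ i))))) = true := by
  decide +kernel

theorem app_two_pow : ∀ (M : List ℕ) (i : ℕ) (h : i < M.length), app M (2 ^ i) = M[i]
  | a :: M, 0, _ => by
    have hz : app M 0 = 0 := app_zero M
    rw [app_cons]; simp [hz]
  | a :: M, i + 1, h => by
    rw [app_cons, pow_succ, Nat.mul_div_cancel _ Nat.two_pos, app_two_pow M i (by simpa using h),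
      if_neg (by simp)]
    simp

variable {V : Type*} [AddCommGroup V]

theorem acts_of_same12 (h2 : ∀ v : V, v + v = 0) {B : List V} (hB : B.length = 12) {S : AddMonoid.End V}
    {f : ℕ → ℕ} {M : List ℕ} (hM : M.length = 12) (hS : ∀ r, S (lin B r) = lin B (f r))
    (h : same12 f (app M) = true) : Acts B S M := by
  refine acts_of_map h2 (List.ext_getElem (by simp [hB, hM]) fun i h₁ h₂ => ?_)
  have hi : i < 12 := by simpa [hB] using h₁
  rw [List.getElem_map, List.getElem_map, ← lin_two_pow B i (hB ▸ hi), hS,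
    Nat.eq_of_beq_eq_true (List.all_eq_true.1 h i (List.mem_range.2 hi))]
  congr 1
  exact app_two_pow M i (hM ▸ hi)

theorem eq_of_same12 {B : List V} (hB : B.length = 12) {f g : ℕ → ℕ} {S T : AddMonoid.End V}
    (hbij : ∀ v, ∃ r, v = lin B r) (hf : ∀ r, S (lin B r) = lin B (f r))
    (hg : ∀ r, T (lin B r) = lin B (g r)) (h : same12 f g = true) : S = T := by
  refine AddMonoidHom.ext fun v => ?_
  obtain ⟨r, rfl⟩ := hbij v
  refine (map_lin (S : V →+ V) B r).trans ((congrArg (fun L => lin L r) ?_).trans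
    (map_lin (T : V →+ V) B r).symm)
  refine List.ext_getElem (by simp) fun i h1 h2 => ?_
  have hi : i < B.length := by simpa using h1
  rw [List.getElem_map, List.getElem_map, ← lin_two_pow B i hi]
  show S (lin B (2 ^ i)) = T (lin B (2 ^ i))
  rw [hf, hg, Nat.eq_of_beq_eq_true (List.all_eq_true.1 h i (List.mem_range.2 (hB ▸ hi)))]

theorem lin_image (h2 : ∀ v : V, v + v = 0) {W : List V} (S : V →+ V) {L : List V}
    (hL : ∀ u ∈ L, ∃ c, S u = lin W c) : ∀ (M : List V), (∀ u ∈ M, u ∈ L) → ∀ r, ∃ c, S (lin M r) = lin W c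
  | [], _, _ => ⟨0, by rw [lin_nil, map_zero, lin_zero]⟩
  | a :: M, hM, r => by
    obtain ⟨c, hc⟩ := lin_image h2 S hL M (fun u hu => hM u (List.mem_cons_of_mem a hu)) (r / 2)
    obtain ⟨d, hd⟩ := hL a (hM a List.mem_cons_self)
    rw [lin_cons, map_add, hc]
    split
    · exact ⟨d ^^^ c, by rw [hd, lin_xor h2]⟩
    · exact ⟨c, by rw [map_zero, zero_add]⟩

theorem lin_preimage (S : V →+ V) : ∀ (W : List V), (∀ u ∈ W, ∃ v, u = S v) → ∀ r, ∃ v, lin W r = S v
  | [], _, _ => ⟨0, by rw [lin_nil, map_zero]⟩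
  | a :: W, hW, r => by
    obtain ⟨v, hv⟩ := lin_preimage S W (fun u hu => hW u (List.mem_cons_of_mem a hu)) (r / 2)
    obtain ⟨w, hw⟩ := hW a List.mem_cons_self
    rw [lin_cons, hv]
    split
    · exact ⟨w + v, by rw [hw, map_add]⟩
    · exact ⟨v, zero_add _⟩

variable {G : Type u} [Group G] [Finite G] {x t : G} {π : ↥(Cent x) →* ↥Spor.M22}

/-- The action of `C(t)` on `E / ⟨t⟩`. -/
abbrev actV (t : G) : ↥(Cent t) →* AddMonoid.End (J4Type.Base.V t) := J4Type.Base.act t

variable (hc : Cover x t π) (hch : CharTwo t)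
include hc hch

theorem bar_eq_zero {e : ↥(E t)} : bar e = 0 ↔ e.1 ∈ zpowers t := by
  have hcm : commutator ↥(E t) = (zpowers t).subgroupOf (E t) := by
    have hx := extraspecial_E hc hch
    refine eq_of_le_of_card_ge ?_ ?_
    · rw [_root_.commutator_def, commutator_le]
      intro a _ b _
      exact mem_subgroupOf.2 (comm_E hc hch a.2 b.2)
    · rw [Nat.card_congr (subgroupOfEquivOfLe (zpowers_le.2 (t_mem_E hc))).toEquiv, Nat.card_zpowers, hc.ot,
        hx.1.2.2, hx.2]
  rw [← mem_subgroupOf, ← hcm]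
  exact QuotientGroup.eq_one_iff e

theorem two_V (v : J4Type.Base.V t) : v + v = 0 := by
  obtain ⟨e, rfl⟩ := bar_surjective t v
  rw [← bar_mul, bar_eq_zero hc hch]
  exact sq_E hc hch e.2

theorem bar_eq {a b : ↥(E t)} : bar a = bar b ↔ a.1⁻¹ * b.1 ∈ zpowers t := by
  have e : bar b = bar a + bar (a⁻¹ * b) := by rw [← bar_mul, mul_inv_cancel_left]
  rw [e, left_eq_add, bar_eq_zero hc hch]
  rfl

theorem card_V : Nat.card (J4Type.Base.V t) = 4096 := by
  have h := card_eq_card_quotient_mul_card_subgroup (commutator ↥(E t))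
  have hx := extraspecial_E hc hch
  rw [card_E hc hch, hx.1.2.2, hx.2] at h
  show Nat.card (↥(E t) ⧸ commutator ↥(E t)) = 4096
  rw [hx.1.2.2]
  omega

theorem finite_V : Finite (J4Type.Base.V t) := Nat.finite_of_card_ne_zero (by rw [card_V hc hch]; norm_num)

/-- Only `E` centralises `E / ⟨t⟩`. -/
theorem mem_E_of_act {h : G} (hh : h ∈ Cent t) (hact : actV t ⟨h, hh⟩ = 1) : h ∈ E t := by
  have hsq : IsPGroup 2 ↥(actV t).ker := by
    rintro ⟨k, hk⟩
    have hkE : ∀ b ∈ E t, k.1 * b * k.1⁻¹ * b⁻¹ ∈ zpowers t := fun b hb => by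
      have e : bar (⟨b, hb⟩ : ↥(E t)) = bar ⟨k.1 * b * k.1⁻¹, E_conj k.2 hb⟩ := by
        have := act_bar k (⟨b, hb⟩ : ↥(E t))
        rw [MonoidHom.mem_ker.1 hk] at this
        exact this
      have h1 := (bar_eq hc hch).1 e
      have h2 := (mem_normalizer_iff.1 (H_le_norm_t hc (E_le t hb)) _).1 h1
      rwa [show b * (b⁻¹ * (k.1 * b * k.1⁻¹)) * b⁻¹ = k.1 * b * k.1⁻¹ * b⁻¹ by group] at h2
    have hk2 : k.1 * k.1 ∈ E t := by
      refine hch _ (mul_mem k.2 k.2) fun b hb => ?_
      rcases zpowers_t hc (hkE b hb) with h1 | h1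
      · have hcm : Commute k.1 b := mul_inv_eq_iff_eq_mul.1 (mul_inv_eq_one.1 h1)
        exact (hcm.mul_left hcm).eq
      · have e1 : k.1 * b * k.1⁻¹ = t * b := mul_inv_eq_iff_eq_mul.1 h1
        have e2 : k.1 * k.1 * b * (k.1 * k.1)⁻¹ = b := by
          rw [show k.1 * k.1 * b * (k.1 * k.1)⁻¹ = k.1 * (k.1 * b * k.1⁻¹) * k.1⁻¹ by group, e1,
            show k.1 * (t * b) * k.1⁻¹ = (k.1 * t * k.1⁻¹) * (k.1 * b * k.1⁻¹) by group, e1,
            mem_Cent.1 k.2, mul_inv_cancel_right, ← mul_assoc, tt hc, one_mul]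
        exact mul_inv_eq_iff_eq_mul.1 e2
    obtain ⟨m, hm⟩ := E_isPGroup t ⟨_, hk2⟩
    refine ⟨m + 1, Subtype.ext (Subtype.ext ?_)⟩
    have := congrArg Subtype.val hm
    simp only [SubgroupClass.coe_pow, OneMemClass.coe_one] at this ⊢
    rw [pow_succ', pow_mul, pow_two]
    exact this
  haveI : Fact (Nat.Prime 2) := ⟨Nat.prime_two⟩
  exact mem_map.2 ⟨⟨h, hh⟩, Core.le_pCore hsq (MonoidHom.mem_ker.2 hact), rfl⟩

/-- The special pair: an involution `s` and an element `b` of order three commuting with it, inside `C(x)`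
modulo `⟨t⟩`, and the four vectors spanning the commutator of `s`. -/
theorem exists_pair : ∃ (s b : ↥(Cent x)) (w : ↥(Cent x)) (B : List (J4Type.Base.V t)),
    (w.1 = x ∨ w.1 = x⁻¹) ∧ π s ≠ 1 ∧ s.1 * s.1 ∈ E t ∧ orderOf b.1 = 3 ∧ b.1 ∉ zpowers x ∧
    (s * b * s⁻¹ * b⁻¹).1 ∈ E t ∧ B.length = 4 ∧
    (∀ r q, r < 16 → q < 16 → lin B r = lin B q → r = q) ∧
    Acts B (actV t ⟨w.1, Cx_le_H hc w.2⟩) X4 ∧ Acts B (actV t ⟨b.1, Cx_le_H hc b.2⟩) B4m ∧
    (∀ v, ∃ r, actV t ⟨s.1, Cx_le_H hc s.2⟩ v + v = lin B r) ∧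
    (∀ r, ∃ v, lin B r = actV t ⟨s.1, Cx_le_H hc s.2⟩ v + v) := by
  haveI := finite_V hc hch
  haveI hZn : ((zpowers t).subgroupOf (Cent x)).Normal :=
    normal_of_norm ((Cx_le_H hc).trans (H_le_norm_t hc))
  let A : ↥(Cent x) →* AddMonoid.End (J4Type.Base.V t) := (actV t).comp (inclusion (Cx_le_H hc))
  have hA : ∀ c : ↥(Cent x), A c = 1 → c.1 ∈ zpowers t := fun c h => by
    rcases fix_x hc (mem_E_of_act hc hch (Cx_le_H hc c.2) h) c.2 with e | e <;> rw [e]
    · exact one_mem _
    · exact mem_zpowers _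
  have hAt : (zpowers t).subgroupOf (Cent x) ≤ A.ker := fun c hcz => by
    obtain ⟨n, hn⟩ := mem_zpowers_iff.1 (mem_subgroupOf.1 hcz)
    exact MonoidHom.mem_ker.2 (J4Type.Base.act_zpow t _ hn.symm)
  have hπt : (zpowers t).subgroupOf (Cent x) ≤ π.ker := fun c hcz => by
    obtain ⟨n, hn⟩ := mem_zpowers_iff.1 (mem_subgroupOf.1 hcz)
    refine MonoidHom.mem_ker.2 ((mem_ker hc).2 ?_)
    have ht : t ∈ zpowers (x * t) := (mem_ker hc).1 (pi_t hc)
    exact hn ▸ zpow_mem ht n
  let π' : ↥(Cent x) ⧸ (zpowers t).subgroupOf (Cent x) →* ↥Spor.M22 := QuotientGroup.lift _ π hπt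
  let ρ : ↥(Cent x) ⧸ (zpowers t).subgroupOf (Cent x) →* AddMonoid.End (J4Type.Base.V t) :=
    QuotientGroup.lift _ A hAt
  let xC : ↥(Cent x) := ⟨x, x_mem⟩
  have hxq : (QuotientGroup.mk xC : ↥(Cent x) ⧸ (zpowers t).subgroupOf (Cent x)) ≠ 1 := fun e => by
    have h := mem_subgroupOf.1 ((QuotientGroup.eq_one_iff xC).1 e)
    have h' := orderOf_dvd_of_mem_zpowers h
    rw [hc.ot, hc.ox] at h'
    norm_num at h'
  have C : CoverData π' (QuotientGroup.mk xC) ρ := by
    refine ⟨fun m => ?_, ?_, ?_, ?_, ?_, ?_, Compute.isSimpleGroup_m22⟩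
    · obtain ⟨c, rfl⟩ := hc.surj m
      exact ⟨QuotientGroup.mk c, rfl⟩
    · ext q
      obtain ⟨c, rfl⟩ := QuotientGroup.mk_surjective q
      rw [MonoidHom.mem_ker]
      show π c = 1 ↔ _
      constructor
      · intro h
        obtain ⟨y, hy, e⟩ := pi_eq_one_cases hc h
        obtain ⟨n, rfl⟩ := mem_zpowers_iff.1 hy
        refine mem_zpowers_iff.2 ⟨n, ?_⟩
        rw [← QuotientGroup.mk_zpow]
        refine QuotientGroup.eq.2 (mem_subgroupOf.2 ?_)
        show (x ^ n)⁻¹ * c.1 ∈ zpowers t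
        rcases e with e | e <;> rw [e]
        · rw [inv_mul_cancel]; exact one_mem _
        · rw [inv_mul_cancel_left]; exact mem_zpowers _
      · intro h
        obtain ⟨n, hn⟩ := mem_zpowers_iff.1 h
        have : π' (QuotientGroup.mk c) = 1 := by
          rw [← hn, map_zpow, show π' (QuotientGroup.mk xC) = π xC from rfl, pi_x hc, one_zpow]
        exact this
    · refine orderOf_eq_prime (hp := ⟨Nat.prime_three⟩) ?_ hxq
      rw [← QuotientGroup.mk_pow, show xC ^ 3 = 1 from Subtype.ext (pow_three_eq hc.ox), QuotientGroup.mk_one]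
    · rw [mem_center_iff]
      intro q
      obtain ⟨c, rfl⟩ := QuotientGroup.mk_surjective q
      rw [← QuotientGroup.mk_mul, ← QuotientGroup.mk_mul]
      exact congrArg _ (Subtype.ext (mem_Cent.1 c.2))
    · have h3 : (commutator ↥(Cent x)).map (QuotientGroup.mk' ((zpowers t).subgroupOf (Cent x))) ≤
          commutator (↥(Cent x) ⧸ (zpowers t).subgroupOf (Cent x)) := by
        rw [_root_.commutator_def, _root_.commutator_def, map_commutator]
        exact commutator_mono le_top le_top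
      exact h3 (mem_map_of_mem _ (hc.perfect ▸ mem_top xC))
    · intro v hv
      obtain ⟨e, rfl⟩ := bar_surjective t v
      have hv' : bar (⟨x * e.1 * x⁻¹, E_conj (Cx_le_H hc x_mem) e.2⟩ : ↥(E t)) = bar e := hv
      have h1 : e.1⁻¹ * (x * e.1 * x⁻¹) ∈ zpowers t := (bar_eq hc hch).1 hv'.symm
      refine (bar_eq_zero hc hch).2 ?_
      have hfix : e.1⁻¹ * (x * e.1 * x⁻¹) = 1 := by
        refine (zpowers_t hc h1).resolve_right fun e0 => ?_
        have hxt : x * t * x⁻¹ = t := by rw [← mem_Cent.1 hc.tx, mul_inv_cancel_right]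
        have e1 : x * e.1 * x⁻¹ = e.1 * t :=
          (mul_inv_cancel_left e.1 (x * e.1 * x⁻¹)).symm.trans (congrArg (e.1 * ·) e0)
        have e2 : x ^ 3 * e.1 * (x ^ 3)⁻¹ = e.1 * t * t * t := by
          rw [show x ^ 3 * e.1 * (x ^ 3)⁻¹ = x * (x * (x * e.1 * x⁻¹) * x⁻¹) * x⁻¹ by
              simp only [pow_succ, pow_zero, one_mul]; group, e1,
            show x * (e.1 * t) * x⁻¹ = x * e.1 * x⁻¹ * (x * t * x⁻¹) by group, e1, hxt,
            show x * (e.1 * t * t) * x⁻¹ = x * e.1 * x⁻¹ * (x * t * x⁻¹) * (x * t * x⁻¹) by group, e1, hxt]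
        rw [pow_three_eq hc.ox, one_mul, inv_one, mul_one, mul_assoc (e.1 * t), tt hc, mul_one,
          left_eq_mul] at e2
        exact t_ne hc e2
      have hex : e.1 ∈ Cent x := mem_Cent.2 (by
        rw [inv_mul_eq_one] at hfix
        calc e.1 * x = x * e.1 * x⁻¹ * x := by rw [← hfix]
          _ = x * e.1 := by group)
      rcases fix_x hc e.2 hex with e1 | e1 <;> rw [e1]
      · exact one_mem _
      · exact mem_zpowers _
  obtain ⟨qx, qy, qf, qw, B, -, -, -, -, -, -, hqw, -, hB, P, hF⟩ :=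
    C.normal_form (two_V hc hch) (card_V hc hch)
  obtain ⟨cx, rfl⟩ := QuotientGroup.mk_surjective qx
  obtain ⟨cy, rfl⟩ := QuotientGroup.mk_surjective qy
  obtain ⟨cf, rfl⟩ := QuotientGroup.mk_surjective qf
  let cb : ↥(Cent x) := cy * cx * cf * cf * cx ^ 4
  have hs : ∀ r, A (cf * cf) (lin B r) = lin B (app F0 (app F0 r)) := fun r => by
    rw [map_mul]
    show A cf (A cf (lin B r)) = _
    rw [show A cf = ρ (QuotientGroup.mk cf) from rfl, hF, hF]
  have hcb : ∀ r, A cb (lin B r) = lin B (bWord r) := fun r => by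
    simp only [cb, map_mul, map_pow]
    show A cy (A cx (A cf (A cf ((A cx ^ 4) (lin B r))))) = _
    rw [show A cx = ρ (QuotientGroup.mk cx) from rfl, P.x.it, show A cf = ρ (QuotientGroup.mk cf) from rfl,
      hF, hF, P.x, show A cy = ρ (QuotientGroup.mk cy) from rfl, P.y]
    rfl
  have hcheck := rep_check
  simp only [Bool.and_eq_true, Bool.not_eq_true'] at hcheck
  obtain ⟨⟨⟨⟨⟨⟨⟨⟨⟨⟨⟨⟨k1, k2⟩, k3⟩, k4⟩, k5⟩, k6⟩, k7⟩, k8⟩, k9⟩, k10⟩, k11⟩, k12⟩, k13⟩ := hcheck
  have h2 := two_V hc hch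
  have hbij : ∀ v, ∃ r, v = lin B r := fun v => by
    obtain ⟨r, -, hr⟩ := P.code v
    exact ⟨r, hr⟩
  let s : ↥(Cent x) := cf * cf
  let b₀ : ↥(Cent x) := cb * cb
  have hS : Acts B (A s) sM := acts_of_same12 h2 hB rfl hs k1
  have hb₀ : Acts B (A b₀) bM := acts_of_same12 h2 hB rfl (f := fun r => bWord (bWord r)) (fun r => by
    rw [map_mul]
    show A cb (A cb (lin B r)) = _
    rw [hcb, hcb]) k2
  -- move `b₀` by `⟨t⟩` to an element of order three
  have hb03 : A (b₀ * b₀ * b₀) = 1 := eq_of_same12 hB hbij (T := 1)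
    (f := fun r => app bM (app bM (app bM r))) (g := id) (fun r => by
      rw [map_mul, map_mul]
      show A b₀ (A b₀ (A b₀ (lin B r))) = _
      rw [hb₀, hb₀, hb₀]) (fun r => rfl) k4
  obtain ⟨b, hAb, hb3⟩ : ∃ b : ↥(Cent x), A b = A b₀ ∧ b.1 ^ 3 = 1 := by
    refine ⟨b₀ ^ 4, ?_, ?_⟩
    · rw [map_pow, show (A b₀) ^ 4 = A (b₀ * b₀ * b₀) * A b₀ by
          rw [map_mul A (b₀ * b₀), map_mul A b₀, pow_succ, pow_succ, pow_two], hb03, one_mul]
    · have h := hA _ hb03
      have h' : b₀.1 ^ 3 ∈ zpowers t := by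
        rw [pow_succ, pow_two]; exact h
      rcases zpowers_t hc h' with e | e
      · rw [SubgroupClass.coe_pow, ← pow_mul, mul_comm, pow_mul, e, one_pow]
      · rw [SubgroupClass.coe_pow, ← pow_mul, mul_comm, pow_mul, e, show 4 = 2 * 2 from rfl, pow_mul,
          pow_two t, tt hc, one_pow]
  have hbA : Acts B (A b) bM := hAb ▸ hb₀
  have hbne : ∀ (f : ℕ → ℕ) (T : AddMonoid.End (J4Type.Base.V t)), (∀ r, T (lin B r) = lin B (f r)) →
      (∀ i < 12, f (2 ^ i) < 4096) → same12 (app bM) f = false → A b ≠ T := by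
    intro f T hT hlt hne e
    have h : same12 (app bM) f = true := by
      refine List.all_eq_true.2 fun i hi => ?_
      rw [Nat.beq_eq]
      refine P.eq_code (app_lt (n := 12) (by decide) _) (hlt i (List.mem_range.1 hi)) ?_
      rw [← hbA, ← hT, e]
    rw [h] at hne
    exact Bool.noConfusion hne
  obtain ⟨w, hwx, hwW⟩ : ∃ w : ↥(Cent x), (w.1 = x ∨ w.1 = x⁻¹) ∧ Acts B (A w) Wm := by
    rcases hqw with e | e
    · exact ⟨xC, Or.inl rfl, fun r => by rw [← P.w r, e]; rfl⟩
    · refine ⟨xC * xC, Or.inr ?_, fun r => by rw [← P.w r, e, map_mul, map_mul]; rfl⟩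
      show x * x = x⁻¹
      rw [eq_inv_iff_mul_eq_one, ← pow_two, ← pow_succ]
      exact pow_three_eq hc.ox
  have hWlt : ∀ r, app Wm r < 2 ^ 12 := fun r => app_lt Wm_lt r
  have hbx : b.1 ∉ zpowers x := by
    intro h
    have hwb : b.1 ∈ zpowers w.1 := by
      rcases hwx with e | e <;> rw [e]
      · exact h
      · rwa [zpowers_inv]
    have how : orderOf w.1 = 3 := by rcases hwx with e | e <;> simp [e, hc.ox]
    rcases zpowers_three how hwb with e | e | e
    · refine hbne id 1 (fun r => rfl) (fun i hi => Nat.pow_lt_pow_right (by norm_num) hi) k7 ?_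
      rw [show b = 1 from Subtype.ext e, map_one]
    · refine hbne (app Wm) (A w) hwW (fun i _ => hWlt _) k8 ?_
      rw [show b = w from Subtype.ext e]
    · refine hbne (fun r => app Wm (app Wm r)) (A (w * w)) (fun r => ?_) (fun i _ => hWlt _) k9 ?_
      · rw [map_mul]
        show A w (A w (lin B r)) = _
        rw [hwW, hwW]
      · refine congrArg A (Subtype.ext ?_)
        rw [e, coe_mul, inv_eq_iff_mul_eq_one, ← pow_two, ← pow_succ']
        exact pow_three_eq how
  have hob : orderOf b.1 = 3 := orderOf_eq_prime (hp := ⟨Nat.prime_three⟩) hb3 fun e =>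
    hbx (by rw [e]; exact one_mem _)
  have hss : A (s * s) = 1 := eq_of_same12 hB hbij (T := 1) (f := fun r => app sM (app sM r)) (g := id)
    (fun r => by rw [map_mul]; show A s (A s (lin B r)) = _; rw [hS, hS]) (fun r => rfl) k5
  have hs2 : s.1 * s.1 ∈ zpowers t := hA _ hss
  have hπs : π s ≠ 1 := by
    intro h
    have h4 : s.1 ^ (2 ^ 2) = 1 := by
      rw [show 2 ^ 2 = 2 * 2 from rfl, pow_mul, pow_two s.1, pow_two]
      rcases zpowers_t hc hs2 with e | e <;> rw [e]
      · rw [one_mul]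
      · exact tt hc
    have hAs : A s = 1 := by
      rcases two_in_ker hc h h4 with e | e
      · rw [show s = 1 from Subtype.ext e, map_one]
      · exact MonoidHom.mem_ker.1 (hAt (mem_subgroupOf.2 (e ▸ mem_zpowers t)))
    have hs' : same12 (app sM) id = true := by
      refine List.all_eq_true.2 fun i hi => ?_
      rw [Nat.beq_eq]
      refine P.eq_code (app_lt (n := 12) (by decide) _)
        (Nat.pow_lt_pow_right (by norm_num) (List.mem_range.1 hi)) ?_
      rw [← hS, hAs]
      rfl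
    rw [hs'] at k6
    exact Bool.noConfusion k6
  have hsb : A (s * b) = A (b * s) := eq_of_same12 hB hbij (f := fun r => app sM (app bM r))
    (g := fun r => app bM (app sM r))
    (fun r => by rw [map_mul]; show A s (A b (lin B r)) = _; rw [hbA, hS])
    (fun r => by rw [map_mul]; show A b (A s (lin B r)) = _; rw [hS, hbA]) k3
  have hsbE : (s * b * s⁻¹ * b⁻¹).1 ∈ zpowers t := by
    refine hA _ ?_
    rw [show s * b * s⁻¹ * b⁻¹ = s * b * (b * s)⁻¹ by group, map_mul, hsb, ← map_mul, mul_inv_cancel, map_one]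
  have hBW : ∀ r, lin (wBasis.map (lin B)) r = lin B (app wBasis r) := fun r => (lin_app h2 B wBasis r).symm
  have hact4 : ∀ (T : AddMonoid.End (J4Type.Base.V t)) (M M4 : List ℕ), Acts B T M → M4.length = 4 →
      (∀ i < 4, Nat.beq (app M (app wBasis (2 ^ i))) (app wBasis (app M4 (2 ^ i))) = true) →
      Acts (wBasis.map (lin B)) T M4 := by
    intro T M M4 hT hlen h
    refine acts_of_map h2 (List.ext_getElem (by simp [wBasis, hlen]) fun i h₁ h₂ => ?_)
    have hi : i < 4 := by simpa [wBasis] using h₁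
    rw [List.getElem_map, show (M4.map (lin (wBasis.map (lin B))))[i] =
      lin (wBasis.map (lin B)) M4[i] from List.getElem_map _]
    rw [← lin_two_pow (wBasis.map (lin B)) i (by simpa [wBasis] using hi), hBW, hBW, hT,
      Nat.eq_of_beq_eq_true (h i hi), app_two_pow M4 i (hlen ▸ hi)]
  have k13' : ∀ i < 4, Nat.beq (app Wm (app wBasis (2 ^ i))) (app wBasis (app X4 (2 ^ i))) = true ∧
      Nat.beq (app bM (app wBasis (2 ^ i))) (app wBasis (app B4m (2 ^ i))) = true := fun i hi => by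
    have h := List.all_eq_true.1 k13 i (List.mem_range.2 hi)
    simpa [Bool.and_eq_true] using h
  refine ⟨s, b, w, wBasis.map (lin B), hwx, hπs, zpowers_le.2 (t_mem_E hc) hs2, hob, hbx,
    zpowers_le.2 (t_mem_E hc) hsbE, rfl, ?_, hact4 _ Wm X4 hwW rfl (fun i hi => (k13' i hi).1),
    hact4 _ bM B4m hbA rfl (fun i hi => (k13' i hi).2), ?_, ?_⟩
  · intro r q hr hq h
    rw [hBW, hBW] at h
    have e := P.eq_code (app_lt (n := 12) (by decide) _) (app_lt (n := 12) (by decide) _) h
    have hk := List.all_eq_true.1 (List.all_eq_true.1 k12 r (List.mem_range.2 hr)) q (List.mem_range.2 hq)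
    rw [e] at hk
    simpa using hk
  · intro v
    let S : J4Type.Base.V t →+ J4Type.Base.V t := AddMonoidHom.mk' (fun v => A s v + v) fun p q => by rw [map_add, add_add_add_comm]
    show ∃ r, S v = lin (wBasis.map (lin B)) r
    obtain ⟨r, rfl⟩ := hbij v
    refine lin_image h2 S (fun i hi => ?_) B (fun u hu => hu) r
    obtain ⟨j, hj, rfl⟩ := List.getElem_of_mem hi
    have hj' : j < 12 := hB ▸ hj
    obtain ⟨c, -, hc'⟩ := List.any_eq_true.1 (List.all_eq_true.1 k10 j (List.mem_range.2 hj'))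
    refine ⟨c, ?_⟩
    show A s B[j] + B[j] = _
    rw [hBW, ← Nat.eq_of_beq_eq_true hc', ← lin_two_pow B j hj, hS, ← lin_xor h2]
    rfl
  · intro r
    let S : J4Type.Base.V t →+ J4Type.Base.V t := AddMonoidHom.mk' (fun v => A s v + v) fun p q => by rw [map_add, add_add_add_comm]
    show ∃ v, lin (wBasis.map (lin B)) r = S v
    refine lin_preimage S _ (fun u hu => ?_) r
    obtain ⟨m, hm, rfl⟩ := List.mem_map.1 hu
    obtain ⟨v, -, hv⟩ := List.any_eq_true.1 (List.all_eq_true.1 k11 m hm)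
    refine ⟨lin B v, ?_⟩
    show _ = A s (lin B v) + lin B v
    rw [hS, ← lin_xor h2, ← Nat.eq_of_beq_eq_true hv]
    rfl

end Cfsg.Agent.J4Local
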