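import Cfsg.Agent.J4Local.Setup
import Cfsg.Agent.Coprime.Generation

/-!
# Pairs of elements of order three, and small sections for the cover

A noncentral element of order three spans with `x` an elementary abelian subgroup `A` of order nine, whose
centralisers generate every 2-group it normalises.  A section of order at most 64 normalised by `C(x)` is
centralised by `x`.
-/

set_option autoImplicit false
set_option linter.style.haveILetI false

open Subgroup Cfsg
open scoped Pointwise

namespace Cfsg.Agent.J4Local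

universe u

variable {G : Type u} [Group G]

/-- The subgroup generated by `x` and `a`. -/
abbrev Pr (x a : G) : Subgroup G := zpowers x ⊔ zpowers a

theorem Pr_comm {x a : G} (h : a * x = x * a) : ∀ c ∈ Pr x a, ∀ d ∈ Pr x a, c * d = d * c := by
  have h1 : Pr x a ≤ centralizer ({x, a} : Set G) := by
    refine sup_le (zpowers_le.2 (mem_centralizer_iff.2 ?_)) (zpowers_le.2 (mem_centralizer_iff.2 ?_))
    · rintro z (rfl | rfl)
      · rfl
      · exact h
    · rintro z (rfl | rfl)
      · exact h.symm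
      · rfl
  have h2 : Pr x a ≤ centralizer (Pr x a : Set G) := by
    refine sup_le (zpowers_le.2 (mem_centralizer_iff.2 fun d hd => ?_))
      (zpowers_le.2 (mem_centralizer_iff.2 fun d hd => ?_))
    · exact (mem_centralizer_iff.1 (h1 hd) x (by simp)).symm
    · exact (mem_centralizer_iff.1 (h1 hd) a (by simp)).symm
  intro c hc d hd
  exact (mem_centralizer_iff.1 (h2 hc) d hd).symm

theorem Pr_le {x a : G} {S : Subgroup G} (hx : x ∈ S) (ha : a ∈ S) : Pr x a ≤ S :=
  sup_le (zpowers_le.2 hx) (zpowers_le.2 ha)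

theorem Pr_cube {x a : G} (h : a * x = x * a) (hx : x ^ 3 = 1) (ha : a ^ 3 = 1) :
    ∀ d ∈ Pr x a, d ^ 3 = 1 := by
  intro d hd
  have hcl : Pr x a = closure ({x, a} : Set G) := by
    rw [show Pr x a = zpowers x ⊔ zpowers a from rfl, zpowers_eq_closure, zpowers_eq_closure, ← Subgroup.closure_union,
      Set.singleton_union]
  rw [hcl] at hd
  induction hd using closure_induction with
  | mem z hz => rcases hz with rfl | rfl <;> assumption
  | one => exact one_pow 3
  | mul y z hy hz ey ez =>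
    rw [(show Commute y z from Pr_comm h y (hcl ▸ hy) z (hcl ▸ hz)).mul_pow, ey, ez, one_mul]
  | inv y _ ey => rw [inv_pow, ey, inv_one]

variable [Finite G] {x t : G} {π : ↥(Cent x) →* ↥Spor.M22} (hc : Cover x t π)
include hc

omit [Finite G] hc in
theorem Nc.comm {a : G} (ha : Nc x a) : a * x = x * a := mem_Cent.1 ha.2.1

omit [Finite G] in
/-- The nonidentity elements of `A`. -/
theorem Pr_cases {a : G} (ha : Nc x a) {d : G} (hd : d ∈ Pr x a) : d ∈ zpowers x ∨ Nc x d := by
  by_cases h : d ∈ zpowers x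
  · exact Or.inl h
  refine Or.inr ⟨?_, Pr_le x_mem ha.2.1 hd, h⟩
  refine orderOf_eq_prime (hp := ⟨Nat.prime_three⟩)
    (Pr_cube ha.comm (hc.ox ▸ pow_orderOf_eq_one x) (ha.1 ▸ pow_orderOf_eq_one a) d hd) fun e => h ?_
  rw [e]
  exact one_mem _

omit [Finite G] in
theorem Pr_isPGroup {a : G} (ha : Nc x a) : IsPGroup 3 ↥(Pr x a) := fun d =>
  ⟨1, Subtype.ext (by
    rw [pow_one]
    exact Pr_cube ha.comm (hc.ox ▸ pow_orderOf_eq_one x) (ha.1 ▸ pow_orderOf_eq_one a) d.1 d.2)⟩

theorem Pr_not_cyclic {a : G} (ha : Nc x a) : ¬ IsCyclic ↥(Pr x a) := by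
  intro h
  obtain ⟨⟨g, hg⟩, hgen⟩ := h.exists_generator
  obtain ⟨n, hn⟩ := mem_zpowers_iff.1 (hgen ⟨x, mem_sup_left (mem_zpowers x)⟩)
  obtain ⟨m, hm⟩ := mem_zpowers_iff.1 (hgen ⟨a, mem_sup_right (mem_zpowers a)⟩)
  have hx' : x ∈ zpowers g := mem_zpowers_iff.2 ⟨n, congrArg Subtype.val hn⟩
  have ha' : a ∈ zpowers g := mem_zpowers_iff.2 ⟨m, congrArg Subtype.val hm⟩
  have hg3 : orderOf g ∣ 3 := orderOf_dvd_of_pow_eq_one
    (Pr_cube ha.comm (hc.ox ▸ pow_orderOf_eq_one x) (ha.1 ▸ pow_orderOf_eq_one a) g hg)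
  have e : zpowers x = zpowers g := eq_of_le_of_card_ge (zpowers_le.2 hx')
    (by rw [Nat.card_zpowers, Nat.card_zpowers, hc.ox]; exact Nat.le_of_dvd (by norm_num) hg3)
  exact ha.2.2 (e ▸ ha')

/-- A 2-group normalised by `A` is generated by the centralisers of `x` and of the noncentral elements. -/
theorem gen_Pr {a : G} (ha : Nc x a) {K S : Subgroup G} (hK : IsPGroup 2 ↥K)
    (hn : Pr x a ≤ normalizer (K : Set G)) (hx : K ⊓ Cent x ≤ S)
    (hS : ∀ d ∈ Pr x a, Nc x d → K ⊓ Cent d ≤ S) : K ≤ S := by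
  haveI : IsMulCommutative ↥(Pr x a) :=
    ⟨⟨fun c d => Subtype.ext (Pr_comm ha.comm c.1 c.2 d.1 d.2)⟩⟩
  have hcop : (Nat.card ↥(Pr x a)).Coprime (Nat.card ↥K) := by
    haveI : Fact (Nat.Prime 2) := ⟨Nat.prime_two⟩
    haveI : Fact (Nat.Prime 3) := ⟨Nat.prime_three⟩
    obtain ⟨i, hi⟩ := (Pr_isPGroup hc ha).exists_card_eq
    obtain ⟨j, hj⟩ := hK.exists_card_eq
    rw [hi, hj]
    exact Nat.Coprime.pow i j (by norm_num)
  rw [← Coprime.iSup_centralizer_eq (Pr_not_cyclic hc ha) hn hcop]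
  refine iSup₂_le fun d hd => ?_
  rcases Pr_cases hc ha hd.1 with h | h
  · refine le_trans (inf_le_inf_left _ fun g hg => ?_) hx
    have hd3 : orderOf d = 3 := by
      have h' := orderOf_dvd_of_mem_zpowers h
      rw [hc.ox, Nat.dvd_prime Nat.prime_three, orderOf_eq_one_iff] at h'
      exact h'.resolve_left hd.2
    have e : x ∈ zpowers d := by
      rw [eq_of_le_of_card_ge (zpowers_le.2 h) (by rw [Nat.card_zpowers, Nat.card_zpowers, hd3, hc.ox])]
      exact mem_zpowers x
    obtain ⟨n, hn⟩ := mem_zpowers_iff.1 e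
    refine mem_Cent.2 ?_
    rw [← hn]
    exact ((show Commute g d from mem_Cent.1 hg).zpow_right n).eq
  · exact hS d hd.1 h

omit [Finite G] in
/-- An element of order eleven of `C(x)` outside the centre. -/
theorem exists_eleven : ∃ c : ↥(Cent x), c ^ 11 = 1 ∧ π c ≠ 1 := by
  obtain ⟨m, hm⟩ := exists_prime_orderOf_dvd_card' (G := ↥Spor.M22) 11 (hp := ⟨by norm_num⟩)
    (by rw [Compute.card_m22]; norm_num)
  obtain ⟨c, rfl⟩ := hc.surj m
  have h11 : π (c ^ 11) = 1 := by rw [map_pow, ← hm, pow_orderOf_eq_one]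
  have h6 : ((c ^ 11) ^ 6 : ↥(Cent x)) = 1 := by
    have h := pow_card_eq_one' (x := (⟨c ^ 11, MonoidHom.mem_ker.2 h11⟩ : π.ker))
    rw [hc.kcard] at h
    exact congrArg Subtype.val h
  refine ⟨c ^ 12, ?_, fun e => ?_⟩
  · rw [← pow_mul, show 12 * 11 = 11 * (6 * 2) from rfl, pow_mul, pow_mul, h6, one_pow]
  · rw [map_pow, show 12 = orderOf (π c) + 1 by rw [hm], pow_succ, pow_orderOf_eq_one, one_mul] at e
    rw [e, orderOf_one] at hm
    norm_num at hm

/-- In an action on a group of order `2 ^ j`, `j ≤ 6`, the element `x` acts trivially. -/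
theorem act_trivial {Q : Type*} [Group Q] [Finite Q] (φ : ↥(Cent x) →* MulAut Q) {j : ℕ} (hj : j ≤ 6)
    (hQ : Nat.card Q = 2 ^ j) : φ ⟨x, x_mem⟩ = 1 := by
  haveI : Fact (Nat.Prime 11) := ⟨by norm_num⟩
  obtain ⟨c, hc11, hcπ⟩ := exists_eleven hc
  let f : Q → Q := φ c
  have hf : f^[11] = id := by
    have hpow : ∀ n : ℕ, f^[n] = ⇑((φ c) ^ n) := by
      intro n
      induction n with
      | zero => rfl
      | succ n ih =>
        funext q
        rw [Function.iterate_succ_apply', ih, pow_succ', MulAut.mul_apply]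
    rw [hpow, ← map_pow, hc11, map_one]
    rfl
  have hmod := J4Type.Rep.card_fixed_modEq (p := 11) hf
  let F : Subgroup Q := (φ c).toMonoidHom.eqLocus (MonoidHom.id Q)
  have hF : Nat.card {q : Q // f q = q} = Nat.card F := Nat.card_congr (Equiv.subtypeEquivRight fun q => Iff.rfl)
  obtain ⟨i, hij, hi⟩ := (Nat.dvd_prime_pow Nat.prime_two).1 (hQ ▸ F.card_subgroup_dvd_card)
  rw [hF, hi, hQ] at hmod
  have hij' : i = j := by
    by_contra hne
    have hi6 : i < 7 := by omega
    have hj6 : j < 7 := by omega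
    interval_cases i <;> interval_cases j <;>
      first
      | exact absurd rfl hne
      | exact absurd hmod (by decide)
  have htop : F = ⊤ := F.eq_top_of_card_eq (by rw [hi, hQ, hij'])
  have hker : φ.ker.map π = ⊤ := by
    haveI : IsSimpleGroup ↥Spor.M22 := Compute.isSimpleGroup_m22
    rcases (Subgroup.Normal.map (inferInstance : φ.ker.Normal) π hc.surj).eq_bot_or_eq_top with h | h
    · exfalso
      have hck : c ∈ φ.ker := MonoidHom.mem_ker.2 (MulEquiv.ext fun q => by
        have : q ∈ F := htop ▸ mem_top q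
        exact this)
      have := mem_map_of_mem π hck
      rw [h, Subgroup.mem_bot] at this
      exact hcπ this
    · exact h
  have hsup : φ.ker ⊔ center ↥(Cent x) = ⊤ := by
    rw [← hc.ker, ← Subgroup.comap_map_eq, hker, Subgroup.comap_top]
  have hle : commutator ↥(Cent x) ≤ φ.ker := by
    rw [_root_.commutator_def, commutator_le]
    intro a _ b _
    obtain ⟨k, hk, z, hz, rfl⟩ := mem_sup_of_normal_left.1 (hsup ▸ mem_top a)
    obtain ⟨k', hk', z', hz', rfl⟩ := mem_sup_of_normal_left.1 (hsup ▸ mem_top b)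
    have hk1 : φ k = 1 := hk
    have hk1' : φ k' = 1 := hk'
    rw [MonoidHom.mem_ker, map_commutatorElement, map_mul, map_mul, hk1, hk1', one_mul, one_mul,
      ← map_commutatorElement, commutatorElement_eq_one_iff_mul_comm.2 (mem_center_iff.1 hz z').symm, map_one]
  exact MonoidHom.mem_ker.1 (hle (hc.perfect ▸ mem_top _))

/-- A section of order at most 64 normalised by `C(x)` is centralised by `x`. -/
theorem section_trivial (K T : Subgroup G) [hn : (T.subgroupOf K).Normal]
    (hK : Cent x ≤ normalizer (K : Set G)) (hT : Cent x ≤ normalizer (T : Set G)) {j : ℕ} (hj : j ≤ 6)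
    (hcard : Nat.card (↥K ⧸ T.subgroupOf K) = 2 ^ j) {k : G} (hk : k ∈ K) :
    k⁻¹ * (x * k * x⁻¹) ∈ T := by
  let cj : ↥(Cent x) →* MulAut ↥K := K.normalizerMonoidHom.comp (inclusion hK)
  have hcj : ∀ (c : ↥(Cent x)) (q : ↥K), ((cj c q : ↥K) : G) = (c : G) * q * (c : G)⁻¹ := fun c q => rfl
  have hmap : ∀ c, (T.subgroupOf K).map (cj c : ↥K →* ↥K) = T.subgroupOf K := by
    intro c
    ext q
    simp only [mem_map, mem_subgroupOf, MonoidHom.coe_coe]
    constructor
    · rintro ⟨p, hp, rfl⟩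
      rw [hcj]
      exact (mem_normalizer_iff.1 (hT c.2) p.1).1 hp
    · intro hq
      refine ⟨(cj c)⁻¹ q, ?_, ?_⟩
      · rw [← map_inv, hcj]
        simp only [InvMemClass.coe_inv, inv_inv]
        exact (mem_normalizer_iff''.1 (hT c.2) q.1).1 hq
      · rw [← MulAut.mul_apply, mul_inv_cancel, MulAut.one_apply]
  let φ : ↥(Cent x) →* MulAut (↥K ⧸ T.subgroupOf K) :=
    { toFun := fun c => QuotientGroup.congr _ _ (cj c) (hmap c)
      map_one' := MulEquiv.ext fun q => by
        obtain ⟨q, rfl⟩ := QuotientGroup.mk_surjective q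
        simp [QuotientGroup.congr_mk]
      map_mul' := fun c d => MulEquiv.ext fun q => by
        obtain ⟨q, rfl⟩ := QuotientGroup.mk_surjective q
        simp [QuotientGroup.congr_mk] }
  have h := congrArg (fun e : MulAut (↥K ⧸ T.subgroupOf K) => e (QuotientGroup.mk ⟨k, hk⟩))
    (act_trivial hc φ hj hcard)
  simp only [MulAut.one_apply] at h
  have h' := QuotientGroup.eq.1 h.symm
  exact h'

end Cfsg.Agent.J4Local
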