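import Cfsg.Agent.J4Local.Module

/-!
# The quotient `X = C(t) / E`

The image `C'` of `C(x)`, its normaliser `L`, and the centralisers of the elements of order three: the quotient
has a strongly 3-embedded subgroup `L`.
-/

set_option autoImplicit false
set_option linter.style.haveILetI false

open Subgroup Cfsg
open scoped Pointwise commutatorElement

namespace Cfsg.Agent.J4Local

open Cfsg.Agent.J4Type.Base (bar act_bar bar_surjective)

universe u

variable {G : Type u} [Group G]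

instance E_normal (t : G) : ((E t).subgroupOf (Cent t)).Normal :=
  normal_subgroupOf_of_le_normalizer (Cent_le_normalizer_E t)

/-- The quotient of `C(t)` by its 2-core. -/
abbrev Xq (t : G) : Type u := ↥(Cent t) ⧸ (E t).subgroupOf (Cent t)

/-- The projection. -/
abbrev mk (t : G) : ↥(Cent t) →* Xq t := QuotientGroup.mk' _

theorem mk_eq_one {t : G} {h : ↥(Cent t)} : mk t h = 1 ↔ h.1 ∈ E t :=
  (QuotientGroup.eq_one_iff h).trans mem_subgroupOf

variable [Finite G] {x t : G} {π : ↥(Cent x) →* ↥Spor.M22} (hc : Cover x t π) (hch : CharTwo t)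

/-- The map of `C(x)` into the quotient. -/
def qC : ↥(Cent x) →* Xq t := (mk t).comp (inclusion (Cx_le_H hc))

/-- The image of `x`. -/
def xb : Xq t := qC hc ⟨x, x_mem⟩

/-- The image of `C(x)`. -/
def Cq : Subgroup (Xq t) := (qC hc).range

/-- The normaliser of the image of `⟨x⟩`. -/
def Lq : Subgroup (Xq t) := normalizer (zpowers (xb hc) : Set (Xq t))

include hc

theorem E_three {d : G} (hd : d ∈ E t) (h3 : d ^ 3 = 1) : d = 1 := by
  obtain ⟨n, hn⟩ := E_isPGroup t ⟨d, hd⟩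
  exact two_eq_one (congrArg Subtype.val hn) h3

theorem qC_eq_one {c : ↥(Cent x)} : qC hc c = 1 ↔ c.1 ∈ zpowers t := by
  refine mk_eq_one.trans ⟨fun h => ?_, fun h => zpowers_le.2 (t_mem_E hc) h⟩
  rcases fix_x hc h c.2 with e | e <;> rw [show c.1 = _ from e]
  · exact one_mem _
  · exact mem_zpowers _

theorem xb_order : orderOf (xb hc) = 3 := by
  refine orderOf_eq_prime (hp := ⟨Nat.prime_three⟩) ?_ fun e => ?_
  · rw [xb, ← map_pow, show (⟨x, x_mem⟩ : ↥(Cent x)) ^ 3 = 1 from Subtype.ext (pow_three_eq hc.ox), map_one]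
  · exact x_ne hc (E_three hc (zpowers_le.2 (t_mem_E hc) ((qC_eq_one hc).1 e)) (pow_three_eq hc.ox))

theorem qC_central (c : ↥(Cent x)) : qC hc c * xb hc = xb hc * qC hc c := by
  rw [xb, ← map_mul, ← map_mul]
  exact congrArg _ (Subtype.ext (mem_Cent.1 c.2))

/-- Centralisers of elements of order three lift. -/
theorem cent_lift {d : ↥(Cent t)} (hd : d.1 ^ 3 = 1) {q : Xq t} (h : q * mk t d = mk t d * q) :
    ∃ k : ↥(Cent t), k.1 * d.1 = d.1 * k.1 ∧ mk t k = q := by
  have hcop : (Nat.card (zpowers d)).Coprime (Nat.card (mk t).ker) := by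
    haveI : Fact (Nat.Prime 2) := ⟨Nat.prime_two⟩
    have h2 : IsPGroup 2 ↥(mk t).ker := by
      rw [show (mk t).ker = (E t).subgroupOf (Cent t) from QuotientGroup.ker_mk' _]
      exact (E_isPGroup t).of_equiv (subgroupOfEquivOfLe (E_le t)).symm
    obtain ⟨i, hi⟩ := h2.exists_card_eq
    rw [hi, Nat.card_zpowers]
    exact ((by norm_num : Nat.Coprime 3 2).coprime_dvd_left
      (orderOf_dvd_of_pow_eq_one (Subtype.ext hd))).pow_right i
  have hm := Coprime.map_inf_centralizer (mk t) (A := zpowers d) (K := ⊤)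
    (fun p _ => mem_normalizer_iff.2 fun n => ⟨fun _ => mem_top _, fun _ => mem_top _⟩)
    le_top hcop (Or.inl (Group.isSolvable_of_comm fun p r => Subtype.ext (by
      obtain ⟨i, hi⟩ := mem_zpowers_iff.1 p.2
      obtain ⟨j, hj⟩ := mem_zpowers_iff.1 r.2
      rw [coe_mul, coe_mul, ← hi, ← hj, ← zpow_add, ← zpow_add, add_comm])))
  have hq : q ∈ (⊤ : Subgroup ↥(Cent t)).map (mk t) ⊓ centralizer (((zpowers d).map (mk t) : Subgroup _) : Set _) := by
    refine ⟨?_, mem_centralizer_iff.2 ?_⟩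
    · obtain ⟨k, rfl⟩ := QuotientGroup.mk_surjective q
      exact mem_map_of_mem _ (mem_top k)
    · rintro _ ⟨y, hy, rfl⟩
      obtain ⟨i, rfl⟩ := mem_zpowers_iff.1 hy
      rw [map_zpow]
      exact (((show Commute q (mk t d) from h).zpow_right i).symm).eq
  rw [← hm] at hq
  obtain ⟨k, ⟨-, hk⟩, rfl⟩ := hq
  exact ⟨k, congrArg Subtype.val (mem_centralizer_iff.1 hk d (mem_zpowers d)).symm, rfl⟩

theorem mem_Cq {q : Xq t} : q ∈ Cq hc ↔ q * xb hc = xb hc * q := by
  constructor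
  · rintro ⟨c, rfl⟩
    exact qC_central hc c
  · intro h
    obtain ⟨k, hk, rfl⟩ := cent_lift hc (d := ⟨x, Cx_le_H hc x_mem⟩) (pow_three_eq hc.ox) h
    exact ⟨⟨k.1, mem_Cent.2 hk⟩, rfl⟩

theorem mem_Lq {q : Xq t} :
    q ∈ Lq hc ↔ q * xb hc * q⁻¹ = xb hc ∨ q * xb hc * q⁻¹ = (xb hc)⁻¹ := by
  constructor
  · intro h
    have hm := (mem_normalizer_iff.1 h (xb hc)).1 (mem_zpowers _)
    rcases zpowers_three (xb_order hc) hm with e | e | e
    · exfalso
      have h3 := (orderOf_conj q (xb hc)).trans (xb_order hc)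
      rw [e, orderOf_one] at h3
      norm_num at h3
    · exact Or.inl e
    · exact Or.inr e
  · intro h
    have hz : zpowers (q * xb hc * q⁻¹) = zpowers (xb hc) := by
      rcases h with e | e <;> rw [e]
      exact zpowers_inv
    refine mem_normalizer_iff.2 fun n => ⟨fun hn => ?_, fun hn => ?_⟩
    · obtain ⟨i, rfl⟩ := mem_zpowers_iff.1 hn
      rw [← hz, ← conj_zpow]
      exact zpow_mem (mem_zpowers _) i
    · rw [← hz, mem_zpowers_iff] at hn
      obtain ⟨i, hi⟩ := hn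
      rw [conj_zpow] at hi
      exact mem_zpowers_iff.2 ⟨i, mul_left_cancel (mul_right_cancel hi)⟩

theorem Cq_le_Lq : Cq hc ≤ Lq hc := fun q hq => (mem_Lq hc).2 (Or.inl (by
  rw [(mem_Cq hc).1 hq, mul_inv_cancel_right]))

theorem Lq_mul {u v : Xq t} (hu : u ∈ Lq hc) (huC : u ∉ Cq hc) (hv : v ∈ Lq hc) (hvC : v ∉ Cq hc) :
    u * v ∈ Cq hc := by
  have key : ∀ w ∈ Lq hc, w ∉ Cq hc → w * xb hc * w⁻¹ = (xb hc)⁻¹ := fun w hw hwC =>
    ((mem_Lq hc).1 hw).resolve_left fun e => hwC ((mem_Cq hc).2 (mul_inv_eq_iff_eq_mul.1 e))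
  refine (mem_Cq hc).2 (mul_inv_eq_iff_eq_mul.1 ?_)
  rw [show u * v * xb hc * (u * v)⁻¹ = u * (v * xb hc * v⁻¹) * u⁻¹ by group, key v hv hvC,
    ← conj_inv, key u hu huC, inv_inv]

theorem exists_Lq_out : ∃ k : ↥(Cent t), k.1 * x * k.1⁻¹ = x⁻¹ ∧ mk t k ∈ Lq hc ∧ mk t k ∉ Cq hc := by
  obtain ⟨k, hk, hkt⟩ := exists_inverting hc
  let kH : ↥(Cent t) := ⟨k, mem_Cent.2 hkt⟩
  have e : mk t kH * xb hc * (mk t kH)⁻¹ = (xb hc)⁻¹ := by
    show mk t kH * mk t ⟨x, _⟩ * (mk t kH)⁻¹ = (mk t ⟨x, _⟩)⁻¹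
    rw [← map_inv, ← map_inv, ← map_mul, ← map_mul]
    exact congrArg _ (Subtype.ext hk)
  refine ⟨kH, hk, (mem_Lq hc).2 (Or.inr e), fun h => ?_⟩
  rw [(mem_Cq hc).1 h, mul_inv_cancel_right] at e
  have h2 : xb hc * xb hc = 1 := by nth_rw 2 [e]; exact mul_inv_cancel _
  have h3 := orderOf_dvd_of_pow_eq_one (show xb hc ^ 2 = 1 by rw [pow_two, h2])
  rw [xb_order hc] at h3
  norm_num at h3

theorem card_Cq : Nat.card ↥(Cq hc) = 1330560 := by
  have h := card_eq_card_quotient_mul_card_subgroup (qC hc).ker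
  rw [Nat.card_congr (QuotientGroup.quotientKerEquivRange (qC hc)).toEquiv, card_C hc] at h
  have hk : Nat.card ↥(qC hc).ker = 2 := by
    have e : (qC hc).ker = (zpowers t).subgroupOf (Cent x) := by
      ext c
      rw [MonoidHom.mem_ker, qC_eq_one hc, mem_subgroupOf]
    rw [e, Nat.card_congr (subgroupOfEquivOfLe (zpowers_le.2 hc.tx)).toEquiv, Nat.card_zpowers, hc.ot]
  rw [hk] at h
  show Nat.card ↥(qC hc).range = _
  omega

/-- The projection of `C'` on M22. -/
noncomputable def piX : ↥(Cq hc) →* ↥Spor.M22 :=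
  (qC hc).rangeRestrict.liftOfSurjective (qC hc).rangeRestrict_surjective ⟨π, fun c h => by
    rw [MonoidHom.mem_ker] at h ⊢
    rcases zpowers_t hc ((qC_eq_one hc).1 (congrArg Subtype.val h)) with e | e
    · rw [show c = 1 from Subtype.ext e, map_one]
    · rw [show c = ⟨t, hc.tx⟩ from Subtype.ext e, pi_t hc]⟩

theorem piX_qC (c : ↥(Cent x)) : piX hc ⟨qC hc c, c, rfl⟩ = π c :=
  MonoidHom.liftOfRightInverse_comp_apply _ _ _ _ c

theorem piX_ker {q : ↥(Cq hc)} (h : piX hc q = 1) : q.1 ∈ zpowers (xb hc) := by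
  obtain ⟨_, c, rfl⟩ := q
  rw [piX_qC hc] at h
  obtain ⟨y, hy, e⟩ := pi_eq_one_cases hc h
  obtain ⟨i, rfl⟩ := mem_zpowers_iff.1 hy
  refine mem_zpowers_iff.2 ⟨i, ?_⟩
  show xb hc ^ i = qC hc c
  rw [xb, ← map_zpow]
  refine inv_mul_eq_one.1 ?_
  rw [← map_inv, ← map_mul, qC_eq_one hc]
  show (x ^ i)⁻¹ * c.1 ∈ zpowers t
  rcases e with e | e <;> rw [e]
  · rw [inv_mul_cancel]; exact one_mem _
  · rw [inv_mul_cancel_left]; exact mem_zpowers _

theorem piX_surj : Function.Surjective (piX hc) := fun m => by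
  obtain ⟨c, rfl⟩ := hc.surj m
  exact ⟨_, piX_qC hc c⟩

/-- Elements of `C'` of order three. -/
theorem lift_three {q : Xq t} (hq : q ∈ Cq hc) (h3 : q ^ 3 = 1) :
    ∃ d : ↥(Cent x), d.1 ^ 3 = 1 ∧ qC hc d = q := by
  obtain ⟨c, rfl⟩ := hq
  rw [← map_pow, qC_eq_one hc] at h3
  refine ⟨c ^ 4, ?_, ?_⟩
  · rw [SubgroupClass.coe_pow, ← pow_mul, mul_comm, pow_mul]
    rcases zpowers_t hc h3 with e | e <;> rw [show c.1 ^ 3 = _ from e]
    · exact one_pow 4
    · rw [show 4 = 2 * 2 from rfl, pow_mul, pow_two t, tt hc, one_pow]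
  · rw [pow_succ, map_mul, (qC_eq_one hc).2 h3, one_mul]

theorem qC_inj_three {d e : ↥(Cent x)} (hd : d.1 ^ 3 = 1) (he : e.1 ^ 3 = 1)
    (hcomm : d.1 * e.1 = e.1 * d.1) (h : qC hc d = qC hc e) : d = e := by
  have h1 : qC hc (d * e⁻¹) = 1 := by rw [map_mul, map_inv, h, mul_inv_cancel]
  have h2 : (d.1 * e.1⁻¹) ^ 3 = 1 := by
    rw [((show Commute d.1 e.1 from hcomm).inv_right).mul_pow, hd, inv_pow, he, inv_one, one_mul]
  exact Subtype.ext (mul_inv_eq_one.1 (E_three hc (zpowers_le.2 (t_mem_E hc) ((qC_eq_one hc).1 h1)) h2))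

include hch

/-- The centraliser in the quotient of a noncentral element of order three is small. -/
theorem Nc.card_centX {b : G} (hb : Nc x b) :
    Nat.card ↥(centralizer ({qC hc ⟨b, hb.2.1⟩} : Set (Xq t))) ≤ 72 := by
  let bH : ↥(Cent t) := ⟨b, Cx_le_H hc hb.2.1⟩
  let f : ↥(Cent t ⊓ Cent b : Subgroup G) →* Xq t := (mk t).comp (inclusion inf_le_left)
  have hle : centralizer ({qC hc ⟨b, hb.2.1⟩} : Set (Xq t)) ≤ f.range := by
    intro q hq
    obtain ⟨k, hk, rfl⟩ := cent_lift hc (d := bH) (pow_three_eq hb.1) (mem_centralizer_singleton_iff.1 hq)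
    exact ⟨⟨k.1, k.2, mem_Cent.2 hk⟩, rfl⟩
  refine (Subgroup.card_le_of_le hle).trans ?_
  have h := card_eq_card_quotient_mul_card_subgroup f.ker
  rw [Nat.card_congr (QuotientGroup.quotientKerEquivRange f).toEquiv] at h
  have hk : Nat.card f.ker = 32 := by
    rw [← fix_card hc hch hb]
    exact Nat.card_congr
      { toFun := fun q => ⟨q.1.1, mk_eq_one.1 (MonoidHom.mem_ker.1 q.2 : mk t (inclusion inf_le_left q.1) = 1),
          q.1.2.2⟩
        invFun := fun q => ⟨⟨q.1, E_le t q.2.1, q.2.2⟩, MonoidHom.mem_ker.2 (mk_eq_one.2 q.2.1)⟩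
        left_inv := fun q => rfl
        right_inv := fun q => rfl }
  obtain ⟨g, hg⟩ := hb.exists_g hc
  have := card_HC hc hb hg hch
  rw [h, hk] at this
  omega

/-- `x` is not conjugate in the quotient to a noncentral element of order three. -/
theorem Nc.not_conj {b : G} (hb : Nc x b) (g : Xq t) : g * xb hc * g⁻¹ ≠ qC hc ⟨b, hb.2.1⟩ := by
  intro e
  have hle : (Cq hc).map (MulAut.conj g).toMonoidHom ≤ centralizer ({qC hc ⟨b, hb.2.1⟩} : Set (Xq t)) := by
    rintro _ ⟨q, hq, rfl⟩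
    refine mem_centralizer_singleton_iff.2 ?_
    show g * q * g⁻¹ * _ = _ * (g * q * g⁻¹)
    rw [← e, show g * q * g⁻¹ * (g * xb hc * g⁻¹) = g * (q * xb hc) * g⁻¹ by group, (mem_Cq hc).1 hq]
    group
  have h := Subgroup.card_le_of_le hle
  rw [Subgroup.card_map_of_injective (MulAut.conj g).injective, card_Cq hc] at h
  have := hb.card_centX hc hch
  omega

omit hch in
/-- An element of order three of `C(x)` commuting with the noncentral `b` lies in `⟨x, b⟩`. -/
theorem mem_Pr {b d : G} (hb : Nc x b) (hd : d ∈ Cent x) (hd3 : d ^ 3 = 1) (hdb : d * b = b * d) :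
    d ∈ Pr x b := by
  haveI : Fact (Nat.Prime 3) := ⟨Nat.prime_three⟩
  by_contra hn
  have hbx := hb.comm
  have hcent : ∀ z ∈ Pr x b, d * z = z * d := fun z hz => by
    obtain ⟨i, j, rfl⟩ := Pr_exists hbx hz
    exact (((show Commute d x from mem_Cent.1 hd).zpow_right i).mul_right
      ((show Commute d b from hdb).zpow_right j)).eq
  set R := Pr x b ⊔ zpowers d with hR
  have hRle : R ≤ Cent x := sup_le (Pr_le x_mem hb.2.1) (zpowers_le.2 hd)
  have hRc : ∀ p ∈ R, ∀ q ∈ R, p * q = q * p := by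
    have h1 : R ≤ centralizer (insert d (Pr x b : Set G)) := by
      refine sup_le (fun z hz => mem_centralizer_iff.2 ?_) (zpowers_le.2 (mem_centralizer_iff.2 ?_))
      · rintro w (rfl | hw)
        · exact hcent z hz
        · exact Pr_comm hbx w hw z hz
      · rintro w (rfl | hw)
        · rfl
        · exact (hcent w hw).symm
    have h2 : R ≤ centralizer (R : Set G) := by
      refine sup_le (fun z hz => mem_centralizer_iff.2 fun w hw => ?_)
        (zpowers_le.2 (mem_centralizer_iff.2 fun w hw => ?_))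
      · exact (mem_centralizer_iff.1 (h1 hw) z (Set.mem_insert_of_mem d hz)).symm
      · exact (mem_centralizer_iff.1 (h1 hw) d (Set.mem_insert _ _)).symm
    exact fun p hp q hq => (mem_centralizer_iff.1 (h2 hp) q hq).symm
  have hnorm : zpowers d ≤ normalizer (Pr x b : Set G) := by
    refine le_trans (zpowers_le.2 (mem_centralizer_iff.2 fun z hz => ?_)) (centralizer_le_normalizer _)
    exact (hcent z hz).symm
  have hR3 : IsPGroup 3 ↥R := (Pr_isPGroup hc hb).to_sup_of_normal_left'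
    (IsPGroup.of_card (n := 1) (by
      rw [Nat.card_zpowers, pow_one]
      refine orderOf_eq_prime hd3 fun e => hn ?_
      rw [e]; exact one_mem _)) hnorm
  obtain ⟨S, hS⟩ := (hR3.of_equiv (subgroupOfEquivOfLe hRle).symm).exists_le_sylow
  have hcs := sylowC hc S
  have hPr9 : 9 ≤ Nat.card ↥(Pr x b) := by
    obtain ⟨k, hk⟩ := (Pr_isPGroup hc hb).exists_card_eq
    rcases k with _ | _ | k
    · haveI : Subsingleton ↥(Pr x b) := (Nat.card_eq_one_iff_unique.1 (by simpa using hk)).1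
      exact absurd (congrArg Subtype.val (Subsingleton.elim
        (⟨x, mem_sup_left (mem_zpowers x)⟩ : ↥(Pr x b)) 1)) (x_ne hc)
    · exact absurd (isCyclic_of_prime_card (by simpa using hk)) (Pr_not_cyclic hc hb)
    · rw [hk, pow_succ, pow_succ, mul_assoc]
      exact Nat.le_mul_of_pos_left 9 (pow_pos (by norm_num) k)
  have hlt : Nat.card ↥(Pr x b) < Nat.card ↥R := by
    refine lt_of_le_of_ne (Subgroup.card_le_of_le le_sup_left) fun e => hn ?_
    have h := eq_of_le_of_card_ge (le_sup_left : Pr x b ≤ R) e.ge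
    rw [h]
    exact mem_sup_right (mem_zpowers d)
  obtain ⟨k, hk⟩ := hR3.exists_card_eq
  have h27 : 27 ≤ Nat.card ↥R := by
    rw [hk] at hlt ⊢
    have : 2 < k := by
      by_contra h
      have := Nat.pow_le_pow_right (show 0 < 3 by norm_num) (show k ≤ 2 by omega)
      omega
    calc 27 = 3 ^ 3 := by norm_num
      _ ≤ 3 ^ k := Nat.pow_le_pow_right (by norm_num) this
  have heq : R.subgroupOf (Cent x) = (S : Subgroup ↥(Cent x)) := eq_of_le_of_card_ge hS (by
    rw [hcs.card, Nat.card_congr (subgroupOfEquivOfLe hRle).toEquiv]; exact h27)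
  have htop : center ↥(S : Subgroup ↥(Cent x)) = ⊤ := eq_top_iff.2 fun p _ => mem_center_iff.2 fun q =>
    Subtype.ext (Subtype.ext (hRc q.1.1 (mem_subgroupOf.1 (heq.symm ▸ q.2)) p.1.1
      (mem_subgroupOf.1 (heq.symm ▸ p.2))))
  have h := hcs.extra.2
  rw [htop, Subgroup.card_top, hcs.card] at h
  norm_num at h

/-- The centraliser of a noncentral element lies in `L`. -/
theorem Nc.centX_le {b : G} (hb : Nc x b) :
    centralizer ({qC hc ⟨b, hb.2.1⟩} : Set (Xq t)) ≤ Lq hc := by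
  set bb := qC hc ⟨b, hb.2.1⟩ with hbb
  set M := centralizer ({bb} : Set (Xq t)) with hM
  set D := (Cq hc).subgroupOf M with hD
  have hlow : 36 ≤ Nat.card ↥D := by
    let f : ↥(CC x b) →* Xq t := (qC hc).comp (inclusion inf_le_left)
    have hr : f.range ≤ Cq hc ⊓ M := by
      rintro _ ⟨c, rfl⟩
      refine ⟨⟨_, rfl⟩, mem_centralizer_singleton_iff.2 ?_⟩
      show qC hc (inclusion inf_le_left c) * bb = bb * qC hc (inclusion inf_le_left c)
      rw [hbb, ← map_mul, ← map_mul]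
      exact congrArg _ (Subtype.ext (mem_Cent.1 c.2.2))
    have h := card_eq_card_quotient_mul_card_subgroup f.ker
    rw [Nat.card_congr (QuotientGroup.quotientKerEquivRange f).toEquiv] at h
    have hk : Nat.card f.ker ≤ 2 := by
      rw [← hc.ot, ← Nat.card_zpowers]
      exact Nat.card_le_card_of_injective
        (fun q => (⟨q.1.1, (qC_eq_one hc).1 (MonoidHom.mem_ker.1 q.2 : qC hc (inclusion inf_le_left q.1) = 1)⟩ :
          zpowers t)) fun p q e => Subtype.ext (Subtype.ext (congrArg (fun r : zpowers t => r.1) e))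
    have h72 := hb.card_CC hc
    have h36 : 36 ≤ Nat.card f.range := by
      have := Nat.mul_le_mul_left (Nat.card f.range) hk
      omega
    refine h36.trans ((Subgroup.card_le_of_le hr).trans (le_of_eq ?_))
    rw [hD, ← inf_subgroupOf_right (Cq hc) M]
    exact (Nat.card_congr (subgroupOfEquivOfLe inf_le_right).toEquiv).symm
  have hidx : D.index ≤ 2 := by
    have h := D.card_mul_index
    have h2 : Nat.card ↥M ≤ 72 := hb.card_centX hc hch
    by_contra h3
    have := Nat.mul_le_mul hlow (show 3 ≤ D.index by omega)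
    omega
  haveI : D.Normal := by
    rcases (show D.index = 0 ∨ D.index = 1 ∨ D.index = 2 by omega) with e | e | e
    · exact absurd e index_ne_zero_of_finite
    · rw [index_eq_one.1 e]; infer_instance
    · exact normal_of_index_eq_two e
  intro y hy
  have hxM : xb hc ∈ M := mem_centralizer_singleton_iff.2 (qC_central hc _).symm
  have hxD : (⟨xb hc, hxM⟩ : ↥M) ∈ D := mem_subgroupOf.2 ((mem_Cq hc).2 rfl)
  have hyC : y * xb hc * y⁻¹ ∈ Cq hc :=
    mem_subgroupOf.1 ((inferInstance : D.Normal).conj_mem _ hxD ⟨y, hy⟩)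
  have hy3 : (y * xb hc * y⁻¹) ^ 3 = 1 := by
    have := pow_orderOf_eq_one (y * xb hc * y⁻¹)
    rwa [orderOf_conj, xb_order hc] at this
  obtain ⟨d, hd3, hdq⟩ := lift_three hc hyC hy3
  -- the lift commutes with `b`
  have hcb : qC hc d * bb = bb * qC hc d := by
    rw [hdq, show y * xb hc * y⁻¹ * bb = y * xb hc * (y⁻¹ * bb) by group]
    have h1 := mem_centralizer_singleton_iff.1 hy
    have h2 : y⁻¹ * bb = bb * y⁻¹ := mem_centralizer_singleton_iff.1 (M.inv_mem hy)
    rw [h2, show y * xb hc * (bb * y⁻¹) = y * (xb hc * bb) * y⁻¹ by group,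
      mem_centralizer_singleton_iff.1 hxM, show y * (bb * xb hc) * y⁻¹ = y * bb * xb hc * y⁻¹ by group, h1]
    group
  have hdb : d.1 * b = b * d.1 := by
    have h1 : qC hc (d * ⟨b, hb.2.1⟩ * d⁻¹) = bb := by
      rw [map_mul, map_mul, map_inv, hcb, mul_inv_cancel_right]
    have hd3' : (d.1 * b * d.1⁻¹) ^ 3 = 1 := by
      rw [conj_pow, pow_three_eq hb.1, mul_one, mul_inv_cancel]
    have hbd : b * (d.1 * b * d.1⁻¹) = d.1 * b * d.1⁻¹ * b := by
      have hE : b⁻¹ * (d.1 * b * d.1⁻¹) ∈ zpowers t := by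
        have := (qC_eq_one hc (c := (⟨b, hb.2.1⟩ : ↥(Cent x))⁻¹ * (d * ⟨b, hb.2.1⟩ * d⁻¹))).1 (by
          rw [map_mul, map_inv, h1, inv_mul_cancel])
        exact this
      have hcm : Commute b (b⁻¹ * (d.1 * b * d.1⁻¹)) := by
        rcases zpowers_t hc hE with e | e <;> rw [e]
        · exact Commute.one_right b
        · exact (hc.central_t b hb.2.1)
      have e2 : b * (b⁻¹ * (d.1 * b * d.1⁻¹)) = b⁻¹ * (d.1 * b * d.1⁻¹) * b := hcm
      calc b * (d.1 * b * d.1⁻¹) = b * (b * (b⁻¹ * (d.1 * b * d.1⁻¹))) := by rw [mul_inv_cancel_left]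
        _ = b * (b⁻¹ * (d.1 * b * d.1⁻¹) * b) := by rw [e2]
        _ = d.1 * b * d.1⁻¹ * b := by group
    have e := qC_inj_three hc (d := d * ⟨b, hb.2.1⟩ * d⁻¹) (e := ⟨b, hb.2.1⟩) hd3'
      (pow_three_eq hb.1) hbd.symm h1
    exact mul_inv_eq_iff_eq_mul.1 (congrArg Subtype.val e)
  rcases Pr_cases hc hb (mem_Pr hc hb d.2 hd3 hdb) with h | h
  · obtain ⟨i, hi⟩ := mem_zpowers_iff.1 h
    have hm : y * xb hc * y⁻¹ ∈ zpowers (xb hc) := mem_zpowers_iff.2 ⟨i, by
      rw [← hdq, xb, ← map_zpow]; exact congrArg _ (Subtype.ext hi)⟩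
    rcases zpowers_three (xb_order hc) hm with e | e | e
    · exfalso
      have h3 := (orderOf_conj y (xb hc)).trans (xb_order hc)
      rw [e, orderOf_one] at h3
      norm_num at h3
    · exact (mem_Lq hc).2 (Or.inl e)
    · exact (mem_Lq hc).2 (Or.inr e)
  · exact absurd hdq.symm (h.not_conj hc hch y)

omit hch in
/-- An element of order three of `L`. -/
theorem three_Lq {v : Xq t} (hv : v ∈ Lq hc) (h3 : orderOf v = 3) :
    v ∈ zpowers (xb hc) ∨ ∃ b, ∃ hb : Nc x b, qC hc ⟨b, hb.2.1⟩ = v := by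
  have hvC : v ∈ Cq hc := by
    by_contra h
    have h2 : v * v ∈ Cq hc := Lq_mul hc hv h hv h
    refine h ?_
    have h4 := mul_mem h2 h2
    rwa [show v * v * (v * v) = v ^ 3 * v by simp only [pow_succ, pow_zero, one_mul, mul_assoc],
      pow_three_eq h3, one_mul] at h4
  obtain ⟨d, hd, rfl⟩ := lift_three hc hvC (pow_three_eq h3)
  by_cases hdx : d.1 ∈ zpowers x
  · left
    obtain ⟨i, hi⟩ := mem_zpowers_iff.1 hdx
    exact mem_zpowers_iff.2 ⟨i, by rw [xb, ← map_zpow]; exact congrArg _ (Subtype.ext hi)⟩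
  · refine Or.inr ⟨d.1, ⟨orderOf_eq_prime (hp := ⟨Nat.prime_three⟩) hd fun e => hdx ?_, d.2, hdx⟩, rfl⟩
    rw [e]; exact one_mem _

/-- A conjugate of `x` in `L` generates `⟨x⟩`. -/
theorem conj_mem_Lq {g : Xq t} (h : g * xb hc * g⁻¹ ∈ Lq hc) : g ∈ Lq hc := by
  rcases three_Lq hc h ((orderOf_conj g _).trans (xb_order hc)) with hz | ⟨b, hb, e⟩
  · rcases zpowers_three (xb_order hc) hz with e | e | e
    · exfalso
      have h3 := (orderOf_conj g (xb hc)).trans (xb_order hc)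
      rw [e, orderOf_one] at h3
      norm_num at h3
    · exact (mem_Lq hc).2 (Or.inl e)
    · exact (mem_Lq hc).2 (Or.inr e)
  · exact absurd e.symm (hb.not_conj hc hch g)

/-- `L` is strongly 3-embedded. -/
theorem strongly_three {g v : Xq t} (hv : v ∈ Lq hc) (h3 : orderOf v = 3)
    (hv' : g⁻¹ * v * g ∈ Lq hc) : g ∈ Lq hc := by
  have ho : orderOf (g⁻¹ * v * g) = 3 := by
    have h := orderOf_conj g⁻¹ v
    rw [inv_inv] at h
    exact h.trans h3
  have hzc : ∀ w, orderOf w = 3 → w ∈ zpowers (xb hc) → w = xb hc ∨ w = (xb hc)⁻¹ := fun w hw h =>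
    (zpowers_three (xb_order hc) h).resolve_left fun e => by
      rw [e, orderOf_one] at hw
      norm_num at hw
  rcases three_Lq hc hv' ho with hz | ⟨b, hb, e⟩
  · -- `v` is the conjugate of a power of `x`
    have hxc : g * xb hc * g⁻¹ ∈ Lq hc := by
      rcases hzc _ ho hz with e | e
      · rw [← e, show g * (g⁻¹ * v * g) * g⁻¹ = v by group]
        exact hv
      · rw [show xb hc = (g⁻¹ * v * g)⁻¹ by rw [e, inv_inv],
          show g * (g⁻¹ * v * g)⁻¹ * g⁻¹ = v⁻¹ by group]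
        exact inv_mem hv
    exact conj_mem_Lq hc hch hxc
  · rcases three_Lq hc hv h3 with hz | ⟨b', hb', e'⟩
    · exfalso
      rcases hzc _ h3 hz with ev | ev
      · refine hb.not_conj hc hch g⁻¹ ?_
        rw [e, inv_inv, ev]
      · refine hb.inv.not_conj hc hch g⁻¹ ?_
        rw [show qC hc ⟨b⁻¹, hb.inv.2.1⟩ = (qC hc ⟨b, hb.2.1⟩)⁻¹ from map_inv (qC hc) ⟨b, hb.2.1⟩, e, ev,
          inv_inv]
        group
    · refine conj_mem_Lq hc hch (hb'.centX_le hc hch (mem_centralizer_singleton_iff.2 ?_))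
      have hcm := qC_central hc (⟨b, hb.2.1⟩ : ↥(Cent x))
      rw [e] at hcm
      rw [e']
      calc g * xb hc * g⁻¹ * v = g * (xb hc * (g⁻¹ * v * g)) * g⁻¹ := by group
        _ = g * (g⁻¹ * v * g * xb hc) * g⁻¹ := by rw [hcm]
        _ = v * (g * xb hc * g⁻¹) := by group

/-- A subgroup of order prime to three normalised by `x` and a noncentral element lies in `L`. -/
theorem signalizer {b : G} (hb : Nc x b) {K : Subgroup (Xq t)} (h3 : ¬ 3 ∣ Nat.card K)
    (hx : xb hc ∈ normalizer (K : Set (Xq t)))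
    (hbn : qC hc ⟨b, hb.2.1⟩ ∈ normalizer (K : Set (Xq t))) : K ≤ Lq hc := by
  haveI : Fact (Nat.Prime 3) := ⟨Nat.prime_three⟩
  let A : Subgroup (Xq t) := ((Pr x b).subgroupOf (Cent x)).map (qC hc)
  have hA : A ≤ normalizer (K : Set (Xq t)) := by
    rintro _ ⟨d, hd, rfl⟩
    obtain ⟨i, j, e⟩ := Pr_exists hb.comm (mem_subgroupOf.1 hd)
    rw [show d = (⟨x, x_mem⟩ : ↥(Cent x)) ^ i * ⟨b, hb.2.1⟩ ^ j from Subtype.ext e, map_mul, map_zpow,
      map_zpow]
    exact mul_mem (zpow_mem hx i) (zpow_mem hbn j)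
  haveI : IsMulCommutative ↥A := ⟨⟨fun p q => by
    obtain ⟨_, dp, hp, rfl⟩ := p
    obtain ⟨_, dq, hq, rfl⟩ := q
    refine Subtype.ext ?_
    show qC hc dp * qC hc dq = qC hc dq * qC hc dp
    rw [← map_mul, ← map_mul]
    exact congrArg _ (Subtype.ext (Pr_comm hb.comm _ (mem_subgroupOf.1 hp) _ (mem_subgroupOf.1 hq)))⟩⟩
  let f : ↥((Pr x b).subgroupOf (Cent x)) →* ↥A := (qC hc).subgroupMap _
  have hf : Function.Bijective f := by
    refine ⟨fun p q h => Subtype.ext ?_, MonoidHom.subgroupMap_surjective _ _⟩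
    exact qC_inj_three hc
      (Pr_cube hb.comm (pow_three_eq hc.ox) (pow_three_eq hb.1) _ (mem_subgroupOf.1 p.2))
      (Pr_cube hb.comm (pow_three_eq hc.ox) (pow_three_eq hb.1) _ (mem_subgroupOf.1 q.2))
      (Pr_comm hb.comm _ (mem_subgroupOf.1 p.2) _ (mem_subgroupOf.1 q.2))
      (congrArg (fun r : ↥A => r.1) h)
  let e : ↥(Pr x b) ≃* ↥A :=
    (subgroupOfEquivOfLe (Pr_le x_mem hb.2.1)).symm.trans (MulEquiv.ofBijective f hf)
  have hncyc : ¬ IsCyclic ↥A := fun h => Pr_not_cyclic hc hb (e.isCyclic.2 h)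
  have hcop : (Nat.card A).Coprime (Nat.card K) := by
    obtain ⟨i, hi⟩ := ((Pr_isPGroup hc hb).of_equiv e).exists_card_eq
    rw [hi]
    exact ((Nat.prime_three.coprime_iff_not_dvd).2 h3).pow_left i
  rw [← Coprime.iSup_centralizer_eq hncyc hA hcop]
  refine iSup₂_le fun a ha => inf_le_right.trans ?_
  obtain ⟨⟨d, hd, rfl⟩, hd1⟩ := ha
  rcases Pr_cases hc hb (mem_subgroupOf.1 hd) with h | h
  · intro q hq
    have hq' := mem_centralizer_singleton_iff.1 hq
    obtain ⟨i, hi⟩ := mem_zpowers_iff.1 h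
    have e : qC hc d = xb hc ^ i := by rw [xb, ← map_zpow]; exact congrArg _ (Subtype.ext hi.symm)
    rw [e] at hq' hd1
    refine Cq_le_Lq hc ((mem_Cq hc).2 ?_)
    rcases zpowers_three (xb_order hc) (zpow_mem (mem_zpowers (xb hc)) i) with e1 | e1 | e1
    · exact absurd e1 hd1
    · rwa [e1] at hq'
    · rw [e1] at hq'
      have := (show Commute q (xb hc)⁻¹ from hq').inv_right
      rwa [inv_inv] at this
  · exact h.centX_le hc hch

end Cfsg.Agent.J4Local
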