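import Cfsg.Agent.J4Local.Invol
import Cfsg.Agent.J4Local.Global
import Cfsg.Agent.S2062
import Cfsg.Agent.J4Type.Sylow3Group

/-!
# The centraliser of the involution has the shape of Janko-four type
-/

set_option autoImplicit false
set_option linter.style.haveILetI false

open Subgroup Cfsg
open scoped Pointwise commutatorElement

namespace Cfsg.Agent.J4Local

universe u

variable {G : Type u} [Group G] [Finite G] {x t : G} {π : ↥(Cent x) →* ↥Spor.M22} (hc : Cover x t π)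
  (hch : CharTwo t)
include hc

omit [Finite G] in
theorem pi_congr {p q : G} (hp : p ∈ Cent x) (hq : q ∈ Cent x) (h : p = q) : π ⟨p, hp⟩ = π ⟨q, hq⟩ := by
  subst h
  rfl

omit [Finite G] in
theorem k_normalizes {k : G} (hk : k * x * k⁻¹ = x⁻¹) {c : G} (hcC : c ∈ Cent x) : k * c * k⁻¹ ∈ Cent x := by
  have h := (conj_mem_Cent_iff k x c).1 hcC
  rw [hk, mem_Cent] at h
  have h' := (show Commute (k * c * k⁻¹) x⁻¹ from h).inv_right
  rw [inv_inv] at h'
  exact mem_Cent.2 h'.eq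

omit [Finite G] in
/-- The endomorphism of M22 induced by an element inverting `x`. -/
theorem exists_induced {k : G} (hk : k * x * k⁻¹ = x⁻¹) :
    ∃ φ : ↥Spor.M22 →* ↥Spor.M22, ∀ c : ↥(Cent x), φ (π c) = π ⟨k * c.1 * k⁻¹, k_normalizes hc hk c.2⟩ := by
  let f : ↥(Cent x) →* ↥(Cent x) :=
    { toFun := fun c => ⟨k * c.1 * k⁻¹, k_normalizes hc hk c.2⟩
      map_one' := Subtype.ext (by simp)
      map_mul' := fun a b => Subtype.ext
        (show k * (a.1 * b.1) * k⁻¹ = k * a.1 * k⁻¹ * (k * b.1 * k⁻¹) by group) }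
  have hker : π.ker ≤ (π.comp f).ker := by
    intro c hcker
    rw [MonoidHom.mem_ker, MonoidHom.comp_apply, ← MonoidHom.mem_ker]
    rw [hc.ker, mem_center_iff] at hcker ⊢
    intro y
    have hkinv : k⁻¹ * x * k⁻¹⁻¹ = x⁻¹ := by
      have e : k⁻¹ * x⁻¹ * k = x := by rw [← hk]; group
      calc k⁻¹ * x * k⁻¹⁻¹ = (k⁻¹ * x⁻¹ * k)⁻¹ := by group
        _ = x⁻¹ := by rw [e]
    have hy : k⁻¹ * y.1 * k⁻¹⁻¹ ∈ Cent x := k_normalizes hc hkinv y.2
    have e : k⁻¹ * y.1 * k⁻¹⁻¹ * c.1 = c.1 * (k⁻¹ * y.1 * k⁻¹⁻¹) :=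
      congrArg Subtype.val (hcker ⟨_, hy⟩)
    refine Subtype.ext ?_
    show y.1 * (k * c.1 * k⁻¹) = k * c.1 * k⁻¹ * y.1
    calc y.1 * (k * c.1 * k⁻¹) = k * (k⁻¹ * y.1 * k⁻¹⁻¹ * c.1) * k⁻¹ := by group
      _ = k * (c.1 * (k⁻¹ * y.1 * k⁻¹⁻¹)) * k⁻¹ := by rw [e]
      _ = k * c.1 * k⁻¹ * y.1 := by group
  exact ⟨π.liftOfSurjective hc.surj ⟨π.comp f, hker⟩,
    fun c => MonoidHom.liftOfRightInverse_comp_apply _ _ _ _ c⟩

theorem piX_congr {p q : Xq t} (hp : p ∈ Cq hc) (hq : q ∈ Cq hc) (h : p = q) :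
    piX hc ⟨p, hp⟩ = piX hc ⟨q, hq⟩ := by
  subst h
  rfl

theorem exists_conj_inv {u v : Xq t} (hu : u ∈ Cq hc) (hv : v ∈ Cq hc) (hu2 : orderOf u = 2)
    (hv2 : orderOf v = 2) : ∃ c ∈ Cq hc, c * u * c⁻¹ = v := by
  have ho : ∀ {w : Xq t} (hw : w ∈ Cq hc), orderOf w = 2 → orderOf (piX hc ⟨w, hw⟩) = 2 := by
    intro w hw hw2
    refine orderOf_eq_prime (hp := ⟨Nat.prime_two⟩) ?_ fun e => ?_
    · have e2 : (⟨w, hw⟩ : ↥(Cq hc)) ^ 2 = 1 := Subtype.ext (show w ^ 2 = 1 from hw2 ▸ pow_orderOf_eq_one w)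
      rw [← map_pow, e2, map_one]
    · have h := orderOf_dvd_of_mem_zpowers (piX_ker hc e)
      rw [show ((⟨w, hw⟩ : ↥(Cq hc)) : Xq t) = w from rfl, hw2, xb_order hc] at h
      norm_num at h
  obtain ⟨m, hm⟩ := isConj_iff.1 (conj_two (ho hu hu2) (ho hv hv2))
  obtain ⟨c, rfl⟩ := piX_surj hc m
  refine ⟨c.1, c.2, ?_⟩
  set w := c.1 * u * c.1⁻¹ with hw
  have hwC : w ∈ Cq hc := mul_mem (mul_mem c.2 hu) (inv_mem c.2)
  have hπ : piX hc (⟨w, hwC⟩⁻¹ * ⟨v, hv⟩) = 1 := by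
    rw [map_mul, map_inv, inv_mul_eq_one, show (⟨w, hwC⟩ : ↥(Cq hc)) = c * ⟨u, hu⟩ * c⁻¹ from rfl,
      map_mul, map_mul, map_inv]
    exact hm
  have hz : w⁻¹ * v ∈ zpowers (xb hc) := piX_ker hc hπ
  obtain ⟨i, hi⟩ := mem_zpowers_iff.1 hz
  have hcm : Commute w (w⁻¹ * v) := by
    rw [← hi]
    exact (show Commute w (xb hc) from (mem_Cq hc).1 hwC).zpow_right i
  have hw2 : w ^ 2 = 1 := by
    rw [hw, conj_pow, show u ^ 2 = 1 from hu2 ▸ pow_orderOf_eq_one u, mul_one, mul_inv_cancel]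
  have e := hcm.mul_pow 2
  rw [mul_inv_cancel_left, show v ^ 2 = 1 from hv2 ▸ pow_orderOf_eq_one v, hw2, one_mul] at e
  have h3 := orderOf_dvd_of_mem_zpowers hz
  rw [xb_order hc] at h3
  exact inv_mul_eq_one.1 (orderOf_eq_one_iff.1 (Nat.eq_one_of_dvd_coprimes (by norm_num : Nat.Coprime 2 3)
    (orderOf_dvd_of_pow_eq_one e.symm) h3))

theorem card_inv_Cq : Nat.card {q : Xq t // q ∈ Cq hc ∧ orderOf q = 2} = 1155 := by
  rw [← card_two_elts]
  have ho : ∀ q : {q : Xq t // q ∈ Cq hc ∧ orderOf q = 2}, orderOf (piX hc ⟨q.1, q.2.1⟩) = 2 := by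
    intro q
    refine orderOf_eq_prime (hp := ⟨Nat.prime_two⟩) ?_ fun e => ?_
    · have e2 : (⟨q.1, q.2.1⟩ : ↥(Cq hc)) ^ 2 = 1 :=
        Subtype.ext (show q.1 ^ 2 = 1 by
          have h := pow_orderOf_eq_one q.1
          rwa [q.2.2] at h)
      rw [← map_pow, e2, map_one]
    · have h := orderOf_dvd_of_mem_zpowers (piX_ker hc e)
      rw [show ((⟨q.1, q.2.1⟩ : ↥(Cq hc)) : Xq t) = q.1 from rfl, q.2.2, xb_order hc] at h
      norm_num at h
  refine Nat.card_congr (Equiv.ofBijective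
    (fun q => (⟨piX hc ⟨q.1, q.2.1⟩, ho q⟩ : {g : ↥Spor.M22 // orderOf g = 2})) ⟨?_, ?_⟩)
  · rintro ⟨p, hp, hp2⟩ ⟨q, hq, hq2⟩ h
    have h' : piX hc ⟨p, hp⟩ = piX hc ⟨q, hq⟩ := congrArg Subtype.val h
    have hz : p⁻¹ * q ∈ zpowers (xb hc) := piX_ker hc (q := ⟨p, hp⟩⁻¹ * ⟨q, hq⟩) (by
      rw [map_mul, map_inv, h', inv_mul_cancel])
    obtain ⟨i, hi⟩ := mem_zpowers_iff.1 hz
    have hcm : Commute p (p⁻¹ * q) := by
      rw [← hi]
      exact (show Commute p (xb hc) from (mem_Cq hc).1 hp).zpow_right i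
    have e := hcm.mul_pow 2
    rw [mul_inv_cancel_left, show q ^ 2 = 1 from hq2 ▸ pow_orderOf_eq_one q,
      show p ^ 2 = 1 from hp2 ▸ pow_orderOf_eq_one p, one_mul] at e
    have h3 := orderOf_dvd_of_mem_zpowers hz
    rw [xb_order hc] at h3
    exact Subtype.ext (inv_mul_eq_one.1 (orderOf_eq_one_iff.1 (Nat.eq_one_of_dvd_coprimes
      (by norm_num : Nat.Coprime 2 3) (orderOf_dvd_of_pow_eq_one e.symm) h3)))
  · rintro ⟨m, hm⟩
    obtain ⟨q, hq⟩ := piX_surj hc m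
    have h2 : piX hc (q ^ 2) = 1 := by rw [map_pow, hq, ← hm, pow_orderOf_eq_one]
    have hz := piX_ker hc h2
    have h6 : ((q ^ 3 : ↥(Cq hc)) : Xq t) ^ 2 = 1 := by
      have h := orderOf_dvd_iff_pow_eq_one.1 ((orderOf_dvd_of_mem_zpowers hz).trans (xb_order hc).dvd)
      rw [SubgroupClass.coe_pow, ← pow_mul, show 3 * 2 = 2 * 3 from rfl, pow_mul]
      simpa using h
    have hπ : piX hc (q ^ 3) = m := by
      rw [map_pow, hq, show 3 = orderOf m + 1 by rw [hm], pow_succ, pow_orderOf_eq_one, one_mul]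
    refine ⟨⟨(q ^ 3 : ↥(Cq hc)).1, (q ^ 3).2, orderOf_eq_prime (hp := ⟨Nat.prime_two⟩) h6 fun e => ?_⟩,
      Subtype.ext hπ⟩
    have e' : q ^ 3 = 1 := Subtype.ext e
    rw [e', map_one] at hπ
    rw [← hπ, orderOf_one] at hm
    norm_num at hm

theorem outer_three {u : Xq t} (hu : u ∈ Lq hc) (huC : u ∉ Cq hc) (hu2 : orderOf u = 2) :
    3 ≤ Nat.card {c : Xq t // c ∈ Cq hc ∧ c * u = u * c} := by
  classical
  obtain ⟨k, hk, hkL, hkC⟩ := exists_Lq_out hc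
  have huinv : u⁻¹ = u := inv_eq_of_mul_eq_one_right (by
    rw [← pow_two, show u ^ 2 = 1 from hu2 ▸ pow_orderOf_eq_one u])
  obtain ⟨c, hcu⟩ := Lq_mul hc (inv_mem hkL) (fun h => hkC (inv_mem_iff.1 h)) hu huC
  -- a lift of `u` inverting `x`
  set k0 : G := k.1 * c.1 with hk0def
  have hk0 : k0 * x * k0⁻¹ = x⁻¹ := by
    rw [hk0def, show k.1 * c.1 * x * (k.1 * c.1)⁻¹ = k.1 * (c.1 * x * c.1⁻¹) * k.1⁻¹ by group,
      show c.1 * x * c.1⁻¹ = x from mul_inv_eq_iff_eq_mul.2 (mem_Cent.1 c.2), hk]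
  have hk0t : k0 ∈ Cent t := mul_mem k.2 (Cx_le_H hc c.2)
  have hmk : mk t ⟨k0, hk0t⟩ = u := by
    have h1 : mk t ⟨k0, hk0t⟩ = mk t k * qC hc c := by
      rw [show (⟨k0, hk0t⟩ : ↥(Cent t)) = k * inclusion (Cx_le_H hc) c from rfl, map_mul]
      rfl
    rw [h1, hcu, mul_inv_cancel_left]
  obtain ⟨φ, hφ⟩ := exists_induced hc hk0
  have hsqC : k0 * k0 ∈ Cent x := mem_Cent.2 (by
    have : k0 * k0 * x * (k0 * k0)⁻¹ = x := by
      rw [show k0 * k0 * x * (k0 * k0)⁻¹ = k0 * (k0 * x * k0⁻¹) * k0⁻¹ by group, hk0, ← conj_inv, hk0, inv_inv]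
    exact mul_inv_eq_iff_eq_mul.1 this)
  have hsq : k0 * k0 ∈ zpowers t := by
    have h : qC hc ⟨k0 * k0, hsqC⟩ = 1 := by
      show mk t (⟨k0, hk0t⟩ * ⟨k0, hk0t⟩) = 1
      rw [map_mul, hmk, ← pow_two, show u ^ 2 = 1 from hu2 ▸ pow_orderOf_eq_one u]
    exact (qC_eq_one hc).1 h
  have hφφ : ∀ m, φ (φ m) = m := by
    intro m
    obtain ⟨d, rfl⟩ := hc.surj m
    rw [hφ, hφ]
    refine pi_congr hc _ d.2 ?_
    show k0 * (k0 * d.1 * k0⁻¹) * k0⁻¹ = d.1
    rw [show k0 * (k0 * d.1 * k0⁻¹) * k0⁻¹ = k0 * k0 * d.1 * (k0 * k0)⁻¹ by group]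
    obtain ⟨n, hn⟩ := mem_zpowers_iff.1 hsq
    rw [← hn, mul_inv_eq_iff_eq_mul]
    exact (((show Commute d.1 t from hc.central_t d.1 d.2).zpow_right n).eq).symm
  let α : MulAut ↥Spor.M22 :=
    { toFun := φ, invFun := φ, left_inv := hφφ, right_inv := hφφ, map_mul' := φ.map_mul }
  have hα : α * α = 1 := MulEquiv.ext fun m => hφφ m
  refine (three_le_card_fixed α hα).trans ?_
  have hconjC : ∀ p ∈ Cq hc, u * p * u ∈ Cq hc := by
    rintro _ ⟨d, rfl⟩
    nth_rw 2 [← huinv]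
    rw [← hmk]
    refine ⟨⟨k0 * d.1 * k0⁻¹, k_normalizes hc hk0 d.2⟩, ?_⟩
    show mk t ⟨_, _⟩ = mk t ⟨k0, hk0t⟩ * mk t (inclusion (Cx_le_H hc) d) * (mk t ⟨k0, hk0t⟩)⁻¹
    rw [← map_inv, ← map_mul, ← map_mul]
    rfl
  have hπu : ∀ p (hp : p ∈ Cq hc), piX hc ⟨u * p * u, hconjC p hp⟩ = φ (piX hc ⟨p, hp⟩) := by
    rintro _ ⟨d, rfl⟩
    rw [piX_qC hc d, hφ, ← piX_qC hc]
    refine piX_congr hc _ _ ?_
    nth_rw 2 [← huinv]
    rw [← hmk]
    show mk t ⟨k0, hk0t⟩ * mk t (inclusion (Cx_le_H hc) d) * (mk t ⟨k0, hk0t⟩)⁻¹ = mk t ⟨_, _⟩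
    rw [← map_inv, ← map_mul, ← map_mul]
    rfl
  have hux : u * xb hc * u = (xb hc)⁻¹ := by
    have h := ((mem_Lq hc).1 hu).resolve_left fun e => huC ((mem_Cq hc).2 (mul_inv_eq_iff_eq_mul.1 e))
    rwa [huinv] at h
  let F : {c : Xq t // c ∈ Cq hc ∧ c * u = u * c} → {m : ↥Spor.M22 // α m = m} := fun c => ⟨piX hc ⟨c.1, c.2.1⟩, by
    show φ (piX hc ⟨c.1, c.2.1⟩) = piX hc ⟨c.1, c.2.1⟩
    rw [← hπu c.1 c.2.1]
    refine piX_congr hc _ _ ?_
    rw [← c.2.2, mul_assoc, ← pow_two, show u ^ 2 = 1 from hu2 ▸ pow_orderOf_eq_one u, mul_one]⟩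
  refine Nat.card_le_card_of_surjective F ?_
  rintro ⟨m, hm⟩
  obtain ⟨⟨p, hp⟩, rfl⟩ := piX_surj hc m
  have hz : p⁻¹ * (u * p * u) ∈ zpowers (xb hc) := by
    refine piX_ker hc (q := ⟨p, hp⟩⁻¹ * ⟨u * p * u, hconjC p hp⟩) ?_
    rw [map_mul, map_inv, hπu p hp, inv_mul_eq_one]
    exact hm.symm
  obtain ⟨i, hi⟩ := mem_zpowers_iff.1 hz
  -- adjust by a power of `x`
  have hj : xb hc ^ (2 * i) ∈ Cq hc := zpow_mem ((mem_Cq hc).2 rfl) _
  have hfix : u * (p * xb hc ^ (2 * i)) * u = p * xb hc ^ (2 * i) := by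
    have huu : u * u = 1 := by rw [← pow_two, show u ^ 2 = 1 from hu2 ▸ pow_orderOf_eq_one u]
    have hup : u * p * u = p * xb hc ^ i := by rw [hi, mul_inv_cancel_left]
    have hux' : u * xb hc ^ (2 * i) * u = xb hc ^ (-(2 * i)) := by
      nth_rw 2 [← huinv]
      rw [← conj_zpow, huinv, hux, inv_zpow, zpow_neg]
    calc u * (p * xb hc ^ (2 * i)) * u = (u * p * u) * (u * xb hc ^ (2 * i) * u) := by
          rw [show u * p * u * (u * xb hc ^ (2 * i) * u) = u * p * (u * u) * xb hc ^ (2 * i) * u by group,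
            huu, mul_one, ← mul_assoc]
      _ = p * xb hc ^ i * xb hc ^ (-(2 * i)) := by rw [hup, hux']
      _ = p * xb hc ^ (2 * i) := by
        rw [mul_assoc, ← zpow_add]
        congr 1
        refine (zpow_eq_zpow_iff_modEq).2 ?_
        rw [xb_order hc]
        exact (Int.modEq_iff_dvd).2 ⟨i, by ring⟩
  refine ⟨⟨p * xb hc ^ (2 * i), mul_mem hp hj, ?_⟩, Subtype.ext ?_⟩
  · calc p * xb hc ^ (2 * i) * u = u * (p * xb hc ^ (2 * i)) * u * u := by rw [hfix]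
      _ = u * (p * xb hc ^ (2 * i)) := by
        rw [mul_assoc (u * _), ← pow_two, show u ^ 2 = 1 from hu2 ▸ pow_orderOf_eq_one u, mul_one]
  · show piX hc ⟨p * xb hc ^ (2 * i), _⟩ = piX hc ⟨p, hp⟩
    rw [show (⟨p * xb hc ^ (2 * i), mul_mem hp hj⟩ : ↥(Cq hc)) = ⟨p, hp⟩ * ⟨_, hj⟩ from rfl, map_mul]
    have h1 : piX hc ⟨xb hc ^ (2 * i), hj⟩ = 1 := by
      rw [show (⟨xb hc ^ (2 * i), hj⟩ : ↥(Cq hc)) = ⟨xb hc, (mem_Cq hc).2 rfl⟩ ^ (2 * i) from
        Subtype.ext (by simp), map_zpow, show piX hc ⟨xb hc, (mem_Cq hc).2 rfl⟩ = π ⟨x, x_mem⟩ from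
          piX_qC hc ⟨x, x_mem⟩, pi_x hc, one_zpow]
    rw [h1, mul_one]

include hch

/-- `L` is the whole quotient. -/
theorem Lq_eq_top : Lq hc = ⊤ := by
  obtain ⟨s, hπs, hs2, hcent⟩ := exists_inv_cent hc hch
  have hS2 : orderOf (qC hc s) = 2 := orderOf_eq_prime (hp := ⟨Nat.prime_two⟩) (by rw [pow_two, hs2]) fun e => by
    rcases zpowers_t hc ((qC_eq_one hc).1 e) with e' | e'
    · exact hπs (by rw [show s = 1 from Subtype.ext e', map_one])
    · exact hπs (by rw [show s = ⟨t, hc.tx⟩ from Subtype.ext e', pi_t hc])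
  have hcentall : ∀ v ∈ Cq hc, orderOf v = 2 → ∀ q, q * v = v * q → q ∈ Lq hc := by
    intro v hv hv2 q hq
    obtain ⟨c, hcC, he⟩ := exists_conj_inv hc (⟨s, rfl⟩ : qC hc s ∈ Cq hc) hv hS2 hv2
    have h : c⁻¹ * q * c ∈ Lq hc := hcent (mem_centralizer_singleton_iff.2 (by
      rw [← he] at hq
      calc c⁻¹ * q * c * qC hc s = c⁻¹ * (q * (c * qC hc s * c⁻¹)) * c := by group
        _ = c⁻¹ * (c * qC hc s * c⁻¹ * q) * c := by rw [hq]
        _ = qC hc s * (c⁻¹ * q * c) := by group))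
    have := mul_mem (mul_mem (Cq_le_Lq hc hcC) h) (inv_mem (Cq_le_Lq hc hcC))
    rwa [show c * (c⁻¹ * q * c) * c⁻¹ = q by group] at this
  have D : GlobalData (Lq hc) (Cq hc) (xb hc) :=
    { le := Cq_le_Lq hc
      two := fun u hu huC v hv hvC => Lq_mul hc hu huC hv hvC
      normal := fun l hl q hq => by
        refine (mem_Cq hc).2 ?_
        have hq' : Commute q (xb hc) := (mem_Cq hc).1 hq
        rcases (mem_Lq hc).1 hl with e | e
        · calc l * q * l⁻¹ * xb hc = l * q * l⁻¹ * (l * xb hc * l⁻¹) := by rw [e]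
            _ = l * (q * xb hc) * l⁻¹ := by group
            _ = l * (xb hc * q) * l⁻¹ := by rw [hq'.eq]
            _ = (l * xb hc * l⁻¹) * (l * q * l⁻¹) := by group
            _ = xb hc * (l * q * l⁻¹) := by rw [e]
        · have e' : l * (xb hc)⁻¹ * l⁻¹ = xb hc := by rw [← conj_inv, e, inv_inv]
          calc l * q * l⁻¹ * xb hc = l * q * l⁻¹ * (l * (xb hc)⁻¹ * l⁻¹) := by rw [e']
            _ = l * (q * (xb hc)⁻¹) * l⁻¹ := by group
            _ = l * ((xb hc)⁻¹ * q) * l⁻¹ := by rw [hq'.inv_right.eq]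
            _ = (l * (xb hc)⁻¹ * l⁻¹) * (l * q * l⁻¹) := by group
            _ = xb hc * (l * q * l⁻¹) := by rw [e']
      card := card_Cq hc
      z_mem := (mem_Cq hc).2 rfl
      z_order := xb_order hc
      z_comm := fun q hq => (mem_Cq hc).1 hq
      conj := fun u hu v hv hu2 hv2 => by
        obtain ⟨c, hcC, he⟩ := exists_conj_inv hc hu hv hu2 hv2
        exact ⟨c, Cq_le_Lq hc hcC, he⟩
      count := card_inv_Cq hc
      cent := hcentall
      cent_primes := fun v hv hv2 w hw hwv p hp hpd => by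
        have hdvd : orderOf w ∣ 3 * 384 := by
          have hmv : piX hc ⟨w, hw⟩ ∈ centralizer ({piX hc ⟨v, hv⟩} : Set ↥Spor.M22) := by
            rw [mem_centralizer_singleton_iff, ← map_mul, ← map_mul]
            exact congrArg (piX hc) (Subtype.ext hwv)
          have ho : orderOf (piX hc ⟨v, hv⟩) = 2 := by
            refine orderOf_eq_prime (hp := ⟨Nat.prime_two⟩) ?_ fun e => ?_
            · have e2 : (⟨v, hv⟩ : ↥(Cq hc)) ^ 2 = 1 :=
                Subtype.ext (show v ^ 2 = 1 from hv2 ▸ pow_orderOf_eq_one v)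
              rw [← map_pow, e2, map_one]
            · have h := orderOf_dvd_of_mem_zpowers (piX_ker hc e)
              rw [show ((⟨v, hv⟩ : ↥(Cq hc)) : Xq t) = v from rfl, hv2, xb_order hc] at h
              norm_num at h
          have h384 : (piX hc ⟨w, hw⟩) ^ 384 = 1 := by
            rw [← orderOf_dvd_iff_pow_eq_one, ← card_cent_two ho]
            exact Subgroup.orderOf_dvd_natCard _ hmv
          have hz := piX_ker hc (q := ⟨w, hw⟩ ^ 384) (by rw [map_pow, h384])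
          have h3 := (orderOf_dvd_of_mem_zpowers hz).trans (xb_order hc).dvd
          rw [SubgroupClass.coe_pow, orderOf_dvd_iff_pow_eq_one, ← pow_mul, mul_comm] at h3
          exact orderOf_dvd_of_pow_eq_one h3
        have h := (hp.dvd_mul).1 ((hpd.trans hdvd).trans (show 3 * 384 ∣ 3 ^ 2 * 2 ^ 7 by norm_num))
        rcases h with h | h
        · exact Or.inr ((Nat.prime_dvd_prime_iff_eq hp Nat.prime_three).1 (hp.dvd_of_dvd_pow h))
        · exact Or.inl ((Nat.prime_dvd_prime_iff_eq hp Nat.prime_two).1 (hp.dvd_of_dvd_pow h))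
      outer := fun u hu huC hu2 => outer_three hc hu huC hu2
      three := fun g v hv h3 hv' => strongly_three hc hch hv h3 hv' }
  exact D.eq_top

/-- Every element of `C(t)` normalises `⟨x⟩` modulo `E`. -/
theorem exists_split {h : G} (hh : h ∈ Cent t) :
    ∃ e ∈ E t, ∃ n ∈ Cent t, (n * x * n⁻¹ = x ∨ n * x * n⁻¹ = x⁻¹) ∧ h = e * n := by
  obtain ⟨k, hk, hkL, hkC⟩ := exists_Lq_out hc
  have hm : mk t ⟨h, hh⟩ ∈ Lq hc := by rw [Lq_eq_top hc hch]; exact mem_top _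
  have hfin : ∀ n : ↥(Cent t), mk t n = mk t ⟨h, hh⟩ → h * n.1⁻¹ ∈ E t := fun n hn =>
    mk_eq_one.1 (show mk t (⟨h, hh⟩ * n⁻¹) = 1 by rw [map_mul, map_inv, hn, mul_inv_cancel])
  by_cases hC : mk t ⟨h, hh⟩ ∈ Cq hc
  · obtain ⟨c, hcq⟩ := hC
    exact ⟨h * c.1⁻¹, hfin (inclusion (Cx_le_H hc) c) hcq, c.1, Cx_le_H hc c.2,
      Or.inl (mul_inv_eq_iff_eq_mul.2 (mem_Cent.1 c.2)), by group⟩
  · obtain ⟨c, hcq⟩ := Lq_mul hc (inv_mem hkL) (fun h' => hkC (inv_mem_iff.1 h')) hm hC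
    refine ⟨h * (k * inclusion (Cx_le_H hc) c : ↥(Cent t)).1⁻¹, hfin _ ?_, k.1 * c.1,
      mul_mem k.2 (Cx_le_H hc c.2), Or.inr ?_, ?_⟩
    · rw [map_mul]
      show mk t k * qC hc c = _
      rw [hcq, mul_inv_cancel_left]
    · rw [show k.1 * c.1 * x * (k.1 * c.1)⁻¹ = k.1 * (c.1 * x * c.1⁻¹) * k.1⁻¹ by group,
        show c.1 * x * c.1⁻¹ = x from mul_inv_eq_iff_eq_mul.2 (mem_Cent.1 c.2), hk]
    · show h = h * (k.1 * c.1)⁻¹ * (k.1 * c.1)
      group

/-- Conjugation by an outer element of `L` is not inner on M22. -/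
theorem outer_not_inner {k : G} (hk : k * x * k⁻¹ = x⁻¹) (m : ↥Spor.M22) :
    ¬ ∀ c : ↥(Cent x), π ⟨k * c.1 * k⁻¹, k_normalizes hc hk c.2⟩ = m * π c * m⁻¹ := by
  intro h
  obtain ⟨d, rfl⟩ := hc.surj m
  let g := d.1⁻¹ * k
  have hg : ∀ c ∈ Cent x, g * c * g⁻¹ ∈ Cent x := fun c hcC => by
    rw [show g * c * g⁻¹ = d.1⁻¹ * (k * c * k⁻¹) * d.1 by simp only [g]; group]
    exact mul_mem (mul_mem (inv_mem d.2) (k_normalizes hc hk hcC)) d.2
  let f : ↥(Cent x) →* ↥(Cent x) :=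
    { toFun := fun c => ⟨g * c.1 * g⁻¹, hg c.1 c.2⟩
      map_one' := Subtype.ext (by simp)
      map_mul' := fun a b => Subtype.ext
        (show g * (a.1 * b.1) * g⁻¹ = g * a.1 * g⁻¹ * (g * b.1 * g⁻¹) by group) }
  have hz : ∀ c : ↥(Cent x), ∃ z ∈ center ↥(Cent x), f c = c * z := by
    intro c
    refine ⟨c⁻¹ * f c, ?_, by rw [mul_inv_cancel_left]⟩
    rw [← hc.ker, MonoidHom.mem_ker, map_mul, map_inv, inv_mul_eq_one]
    have e : f c = d⁻¹ * ⟨k * c.1 * k⁻¹, k_normalizes hc hk c.2⟩ * d :=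
      Subtype.ext (show g * c.1 * g⁻¹ = d.1⁻¹ * (k * c.1 * k⁻¹) * d.1 by simp only [g]; group)
    rw [e, map_mul, map_mul, map_inv, h c]
    group
  have hfix : ∀ c ∈ commutator ↥(Cent x), f c = c := by
    have hle : commutator ↥(Cent x) ≤ f.eqLocus (MonoidHom.id _) := by
      rw [_root_.commutator_def, commutator_le]
      intro a _ b _
      obtain ⟨za, hza, ea⟩ := hz a
      obtain ⟨zb, hzb, eb⟩ := hz b
      show f ⁅a, b⁆ = ⁅a, b⁆
      rw [map_commutatorElement, ea, eb, commutatorElement_def, commutatorElement_def]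
      calc a * za * (b * zb) * (a * za)⁻¹ * (b * zb)⁻¹
          = a * (za * (b * zb)) * za⁻¹ * a⁻¹ * zb⁻¹ * b⁻¹ := by group
        _ = a * b * (zb * a⁻¹) * zb⁻¹ * b⁻¹ := by rw [← mem_center_iff.1 hza (b * zb)]; group
        _ = a * b * a⁻¹ * b⁻¹ := by rw [← mem_center_iff.1 hzb a⁻¹]; group
    exact fun c hcc => hle hcc
  have e := congrArg Subtype.val (hfix (⟨x, x_mem⟩ : ↥(Cent x)) (hc.perfect ▸ mem_top _))
  have e' : g * x * g⁻¹ = x := e
  rw [show g * x * g⁻¹ = d.1⁻¹ * (k * x * k⁻¹) * d.1 by simp only [g]; group, hk,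
    show d.1⁻¹ * x⁻¹ * d.1 = d.1⁻¹ * (x⁻¹ * d.1) by group,
    ← ((show Commute d.1 x from mem_Cent.1 d.2).inv_right).eq, inv_mul_cancel_left] at e'
  have h2 := orderOf_dvd_of_pow_eq_one (show x ^ 2 = 1 by
    rw [pow_two]; nth_rw 1 [← e']; exact inv_mul_cancel x)
  rw [hc.ox] at h2
  norm_num at h2

omit hch in
theorem x_mem_derived : x ∈ ⁅Cent x, Cent x⁆ := by
  rw [← map_subtype_commutator]
  exact ⟨⟨x, x_mem⟩, hc.perfect ▸ mem_top _, rfl⟩

/-- **`G` is of Janko-four type at `t`.** -/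
theorem jankoFour : IsOfJankoFourTypeWith t (zpowers x) := by
  classical
  have hS : IsSimpleGroup ↥Spor.M22 := Compute.isSimpleGroup_m22
  have hEH : E t ≤ Cent t := E_le t
  set N : Subgroup G := E t ⊔ zpowers x with hN
  have hxH : x ∈ Cent t := Cx_le_H hc x_mem
  have hNH : N ≤ Cent t := sup_le hEH (zpowers_le.2 hxH)
  have hxE : zpowers x ≤ normalizer (E t : Set G) := zpowers_le.2 (Cent_le_normalizer_E t hxH)
  have hcentP : centralizer ((zpowers x : Subgroup G) : Set G) = Cent x := by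
    refine le_antisymm (fun g hg => mem_Cent.2 (mem_centralizer_iff.1 hg x (mem_zpowers x)).symm) fun g hg => ?_
    refine mem_centralizer_iff.2 fun y hy => ?_
    obtain ⟨i, rfl⟩ := mem_zpowers_iff.1 hy
    exact (((show Commute g x from mem_Cent.1 hg).zpow_right i).eq).symm
  have hHN : Cent t ≤ normalizer (N : Set G) := by
    have key : ∀ h ∈ Cent t, ∀ y ∈ N, h * y * h⁻¹ ∈ N := by
      intro h hh
      have hle : N ≤ N.comap (MulAut.conj h).toMonoidHom := by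
        refine sup_le (fun e he => mem_sup_left (E_conj hh he)) (zpowers_le.2 ?_)
        obtain ⟨e, he, n, hn, hnx, rfl⟩ := exists_split hc hch hh
        show e * n * x * (e * n)⁻¹ ∈ N
        have hx' : n * x * n⁻¹ ∈ N := by
          rcases hnx with e1 | e1 <;> rw [e1]
          · exact mem_sup_right (mem_zpowers x)
          · exact inv_mem (mem_sup_right (mem_zpowers x))
        rw [show e * n * x * (e * n)⁻¹ = e * (n * x * n⁻¹) * e⁻¹ by group]
        exact mul_mem (mul_mem (mem_sup_left he) hx') (inv_mem (mem_sup_left he))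
      exact fun y hy => hle hy
    intro h hh
    refine mem_normalizer_iff.2 fun y => ⟨key h hh y, fun hy => ?_⟩
    have h' := key h⁻¹ (inv_mem hh) _ hy
    rwa [show h⁻¹ * (h * y * h⁻¹) * h⁻¹⁻¹ = y by group] at h'
  haveI hNn : (N.subgroupOf (Cent t)).Normal := normal_subgroupOf_of_le_normalizer hHN
  haveI hEn := E_normal t
  have hdisj : E t ⊓ zpowers x = ⊥ := by
    rw [Subgroup.eq_bot_iff_forall]
    rintro d ⟨hd, hdx⟩
    obtain ⟨i, rfl⟩ := mem_zpowers_iff.1 hdx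
    refine E_three hc hd ?_
    rw [← zpow_natCast, ← zpow_mul, mul_comm, zpow_mul, zpow_natCast, pow_three_eq hc.ox, one_zpow]
  have hNcard : Nat.card N = 3 * Nat.card ↥(E t) := by
    rw [hN, Coprime.card_sup_eq_mul hxE hdisj, Nat.card_zpowers, hc.ox, mul_comm]
  have hcE := card_E hc hch
  -- the action on M22
  let T : Subgroup (Xq t) := zpowers (xb hc)
  have hTn : T.Normal := normalizer_eq_top_iff.1 (Lq_eq_top hc hch)
  haveI : (Cq hc).Normal := by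
    refine ⟨fun q hq g => (mem_Cq hc).2 ?_⟩
    have hg : g ∈ Lq hc := by rw [Lq_eq_top hc hch]; exact mem_top g
    have hq' : Commute q (xb hc) := (mem_Cq hc).1 hq
    rcases (mem_Lq hc).1 hg with e | e
    · have h := hq'.conj g
      rw [e] at h
      exact h
    · have h := hq'.conj g
      rw [e] at h
      have h' := h.inv_right
      rwa [inv_inv] at h'
  have hkx : (piX hc).ker = T.subgroupOf (Cq hc) := by
    ext q
    rw [MonoidHom.mem_ker, mem_subgroupOf]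
    refine ⟨piX_ker hc, fun h => ?_⟩
    obtain ⟨i, hi⟩ := mem_zpowers_iff.1 h
    rw [show q = ⟨xb hc, (mem_Cq hc).2 rfl⟩ ^ i from Subtype.ext (by simp [hi]), map_zpow,
      show piX hc ⟨xb hc, (mem_Cq hc).2 rfl⟩ = π ⟨x, x_mem⟩ from piX_qC hc ⟨x, x_mem⟩, pi_x hc, one_zpow]
  let cj : Xq t → ↥(Cq hc) →* ↥(Cq hc) := fun g =>
    { toFun := fun q => ⟨g * q.1 * g⁻¹, (inferInstance : (Cq hc).Normal).conj_mem _ q.2 g⟩
      map_one' := Subtype.ext (by simp)
      map_mul' := fun a b => Subtype.ext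
        (show g * (a.1 * b.1) * g⁻¹ = g * a.1 * g⁻¹ * (g * b.1 * g⁻¹) by group) }
  have hcjker : ∀ g, (piX hc).ker ≤ ((piX hc).comp (cj g)).ker := by
    intro g q hq
    rw [hkx, mem_subgroupOf] at hq
    rw [MonoidHom.mem_ker, MonoidHom.comp_apply, ← MonoidHom.mem_ker, hkx, mem_subgroupOf]
    exact hTn.conj_mem _ hq g
  let ψ : Xq t → ↥Spor.M22 →* ↥Spor.M22 := fun g =>
    (piX hc).liftOfSurjective (piX_surj hc) ⟨(piX hc).comp (cj g), hcjker g⟩
  have hψ : ∀ g q, ψ g (piX hc q) = piX hc (cj g q) := fun g q =>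
    MonoidHom.liftOfRightInverse_comp_apply _ _ _ _ q
  have hψmul : ∀ g g' m, ψ (g * g') m = ψ g (ψ g' m) := by
    intro g g' m
    obtain ⟨q, rfl⟩ := piX_surj hc m
    rw [hψ, hψ, hψ]
    exact congrArg (piX hc) (Subtype.ext (show g * g' * q.1 * (g * g')⁻¹ = g * (g' * q.1 * g'⁻¹) * g⁻¹ by group))
  have hψone : ∀ m, ψ 1 m = m := by
    intro m
    obtain ⟨q, rfl⟩ := piX_surj hc m
    rw [hψ]
    exact congrArg (piX hc) (Subtype.ext (show 1 * q.1 * (1 : Xq t)⁻¹ = q.1 by group))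
  let Ψ : Xq t →* MulAut ↥Spor.M22 :=
    { toFun := fun g =>
        { toFun := ψ g, invFun := ψ g⁻¹
          left_inv := fun m => by rw [← hψmul, inv_mul_cancel, hψone]
          right_inv := fun m => by rw [← hψmul, mul_inv_cancel, hψone]
          map_mul' := (ψ g).map_mul }
      map_one' := MulEquiv.ext hψone
      map_mul' := fun g g' => MulEquiv.ext fun m => hψmul g g' m }
  have hΨinner : ∀ q : ↥(Cq hc), Ψ q.1 = MulAut.conj (piX hc q) := fun q => by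
    refine MulEquiv.ext fun m => ?_
    obtain ⟨p, rfl⟩ := piX_surj hc m
    show ψ q.1 (piX hc p) = piX hc q * piX hc p * (piX hc q)⁻¹
    rw [hψ, ← map_inv, ← map_mul, ← map_mul]
    rfl
  obtain ⟨k, hk, hkL, hkC⟩ := exists_Lq_out hc
  have hkinner : ∀ m, Ψ (mk t k) ≠ MulAut.conj m := by
    intro m he
    refine outer_not_inner hc hch hk m fun c => ?_
    have h := DFunLike.congr_fun he (π c)
    rw [MulAut.conj_apply] at h
    rw [← h]
    show _ = ψ (mk t k) (π c)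
    rw [← piX_qC hc c, hψ, ← piX_qC hc]
    refine piX_congr hc _ _ ?_
    show mk t ⟨_, _⟩ = mk t k * mk t (inclusion (Cx_le_H hc) c) * (mk t k)⁻¹
    rw [← map_inv, ← map_mul, ← map_mul]
    rfl
  have hbot : center ↥Spor.M22 = ⊥ := by
    rcases (inferInstance : (center ↥Spor.M22).Normal).eq_bot_or_eq_top with h | h
    · exact h
    · exfalso
      letI : CommGroup ↥Spor.M22 :=
        { mul_comm := fun a b => (mem_center_iff.1 (h ▸ mem_top b) a) }
      have := IsSimpleGroup.prime_card (α := ↥Spor.M22)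
      rw [Compute.card_m22] at this
      norm_num at this
  have hinj : Function.Injective (MulAut.conj : ↥Spor.M22 →* MulAut ↥Spor.M22) := by
    refine (injective_iff_map_eq_one _).2 fun m hm => ?_
    rw [← Subgroup.mem_bot, ← hbot, mem_center_iff]
    intro a
    have h := DFunLike.congr_fun hm a
    rw [MulAut.conj_apply, MulAut.one_apply, mul_inv_eq_iff_eq_mul] at h
    exact h.symm
  have hcases : ∀ g : Xq t, g ∈ Cq hc ∨ (mk t k)⁻¹ * g ∈ Cq hc := fun g => by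
    by_cases h : g ∈ Cq hc
    · exact Or.inl h
    · refine Or.inr (Lq_mul hc (inv_mem hkL) (fun h' => hkC (inv_mem_iff.1 h')) ?_ h)
      rw [Lq_eq_top hc hch]; exact mem_top g
  have hΨker : ∀ g, Ψ g = 1 → g ∈ T := by
    intro g hg
    rcases hcases g with h | h
    · rw [hΨinner ⟨g, h⟩, ← map_one MulAut.conj] at hg
      exact piX_ker hc (q := ⟨g, h⟩) (hinj hg)
    · exfalso
      have e := hΨinner ⟨_, h⟩
      rw [map_mul, map_inv, hg, mul_one, inv_eq_iff_eq_inv, ← map_inv] at e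
      exact hkinner _ e
  have hOut : Nat.card (Cfsg.Out ↥Spor.M22) = 2 := S2062.result
  have hI : (Inn ↥Spor.M22).index = 2 := by rw [index_eq_card]; exact hOut
  have hΨsurj : Function.Surjective Ψ := by
    intro α
    by_cases hαI : α ∈ Inn ↥Spor.M22
    · obtain ⟨m, rfl⟩ := hαI
      obtain ⟨q, rfl⟩ := piX_surj hc m
      exact ⟨q.1, hΨinner q⟩
    · have hkI : Ψ (mk t k) ∉ Inn ↥Spor.M22 := fun ⟨m, hm⟩ => hkinner m hm.symm
      have hprod : (Ψ (mk t k))⁻¹ * α ∈ Inn ↥Spor.M22 := by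
        rw [mul_mem_iff_of_index_two hI, inv_mem_iff]
        exact iff_of_false hkI hαI
      obtain ⟨m, hm⟩ := hprod
      obtain ⟨q, rfl⟩ := piX_surj hc m
      refine ⟨mk t k * q.1, ?_⟩
      rw [map_mul, hΨinner q, hm, mul_inv_cancel_left]
  let F : ↥(Cent t) →* MulAut ↥Spor.M22 := Ψ.comp (mk t)
  have hFs : Function.Surjective F := hΨsurj.comp (QuotientGroup.mk'_surjective _)
  have hFk : F.ker = N.subgroupOf (Cent t) := by
    ext h
    rw [MonoidHom.mem_ker, mem_subgroupOf]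
    constructor
    · intro hh
      obtain ⟨i, hi⟩ := mem_zpowers_iff.1 (hΨker _ hh)
      have h1 : mk t (h * (⟨x, hxH⟩ ^ i)⁻¹) = 1 := by
        rw [map_mul, map_inv, map_zpow, ← hi]
        exact mul_inv_cancel _
      have h2 : (h * (⟨x, hxH⟩ ^ i)⁻¹ : ↥(Cent t)).1 ∈ E t := mk_eq_one.1 h1
      have h3 : h.1 = (h * (⟨x, hxH⟩ ^ i)⁻¹ : ↥(Cent t)).1 * x ^ i := by
        simp
      rw [h3]
      exact mul_mem (mem_sup_left h2) (mem_sup_right (zpow_mem (mem_zpowers x) i))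
    · intro hh
      have h2 : h.1 ∈ (E t : Set G) * (zpowers x : Set G) := by
        rw [← coe_mul_of_right_le_normalizer_left (E t) (zpowers x) hxE]
        exact hh
      obtain ⟨e, he, y, hy, hey⟩ := h2
      obtain ⟨i, rfl⟩ := mem_zpowers_iff.1 hy
      have e1 : h = ⟨e, hEH he⟩ * ⟨x, hxH⟩ ^ i := Subtype.ext (by rw [← hey]; simp)
      rw [e1, map_mul, map_zpow, show F ⟨e, hEH he⟩ = 1 by
        show Ψ (mk t ⟨e, _⟩) = 1
        rw [mk_eq_one.2 he, map_one], one_mul, show F ⟨x, hxH⟩ = 1 by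
        show Ψ (xb hc) = 1
        rw [hΨinner ⟨xb hc, (mem_Cq hc).2 rfl⟩, show piX hc ⟨xb hc, (mem_Cq hc).2 rfl⟩ = π ⟨x, x_mem⟩ from
          piX_qC hc ⟨x, x_mem⟩, pi_x hc, map_one], one_zpow]
  have hCC : Cent t ⊓ centralizer ((zpowers x : Subgroup G) : Set G) = Cent x := by
    rw [hcentP]
    exact inf_eq_right.2 (Cx_le_H hc)
  refine ⟨hc.ot, extraspecial_E hc hch, by rw [hcE]; norm_num, ?_, ⟨N, le_sup_left, hNH, hHN, hNcard,
    ⟨hNn, ⟨(QuotientGroup.quotientMulEquivOfEq hFk.symm).trans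
      (QuotientGroup.quotientKerEquivOfSurjective F hFs)⟩⟩, le_sup_right⟩, ?_, ?_, ?_, ?_⟩
  · rintro g ⟨hg, hgc⟩
    exact hch g hg fun e he => (mem_centralizer_iff.1 hgc e he).symm
  · rw [Nat.card_zpowers, hc.ox]
  · refine le_antisymm ?_ (zpowers_le.2 ⟨t_mem_E hc, by rw [hcentP]; exact hc.tx⟩)
    rintro g ⟨hg, hgc⟩
    rw [hcentP] at hgc
    rcases fix_x hc hg hgc with e | e <;> rw [e]
    · exact one_mem _
    · exact mem_zpowers t
  · intro h
    have hkn : k.1 ∈ normalizer ((zpowers x : Subgroup G) : Set G) := by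
      refine mem_normalizer_iff.2 fun y => ⟨fun hy => ?_, fun hy => ?_⟩
      · obtain ⟨i, rfl⟩ := mem_zpowers_iff.1 hy
        rw [← conj_zpow, hk]
        exact zpow_mem (inv_mem (mem_zpowers x)) i
      · obtain ⟨i, hi⟩ := mem_zpowers_iff.1 hy
        refine mem_zpowers_iff.2 ⟨-i, ?_⟩
        have e : k.1⁻¹ * x * k.1 = x⁻¹ := by
          calc k.1⁻¹ * x * k.1 = k.1⁻¹ * (k.1 * x * k.1⁻¹)⁻¹ * k.1 := by rw [hk, inv_inv]
            _ = x⁻¹ := by group
        calc x ^ (-i) = (x⁻¹) ^ i := by rw [zpow_neg, inv_zpow]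
          _ = k.1⁻¹ * x ^ i * k.1 := by
            rw [← e]
            have h' := conj_zpow (i := i) (a := k.1⁻¹) (b := x)
            rw [inv_inv] at h'
            exact h'
          _ = y := by rw [hi]; group
    have hmem : k.1 ∈ Cent x := by
      rw [← hCC]
      exact h ▸ (⟨k.2, hkn⟩ : k.1 ∈ Cent t ⊓ normalizer ((zpowers x : Subgroup G) : Set G))
    have e := mul_inv_eq_iff_eq_mul.2 (mem_Cent.1 hmem)
    rw [hk] at e
    have h2 := orderOf_dvd_of_pow_eq_one (show x ^ 2 = 1 by rw [pow_two]; nth_rw 1 [← e]; exact inv_mul_cancel x)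
    rw [hc.ox] at h2
    norm_num at h2
  · rw [hCC]
    exact zpowers_le.2 (x_mem_derived hc)

end Cfsg.Agent.J4Local
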