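import Cfsg.Agent.J4Local.M22Small

/-!
# The centraliser of an element of order three is the sixfold cover of M22

`C = C(x)` with the involution `t` of its centre, the classes of elements of order three of `C`, and their
fusion in the whole group.
-/

set_option autoImplicit false
set_option linter.style.haveILetI false

open Subgroup Cfsg
open scoped Pointwise

namespace Cfsg.Agent.J4Local

universe u

variable {G : Type u} [Group G]

/-- The centraliser of an element. -/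
abbrev Cent (x : G) : Subgroup G := centralizer ({x} : Set G)

theorem mem_Cent {x g : G} : g ∈ Cent x ↔ g * x = x * g := mem_centralizer_singleton_iff

theorem conj_mem_Cent_iff (g x c : G) : c ∈ Cent x ↔ g * c * g⁻¹ ∈ Cent (g * x * g⁻¹) := by
  rw [mem_Cent, mem_Cent]
  constructor
  · intro h
    calc g * c * g⁻¹ * (g * x * g⁻¹) = g * (c * x) * g⁻¹ := by group
      _ = g * (x * c) * g⁻¹ := by rw [h]
      _ = g * x * g⁻¹ * (g * c * g⁻¹) := by group
  · intro h
    calc c * x = g⁻¹ * (g * c * g⁻¹ * (g * x * g⁻¹)) * g := by group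
      _ = g⁻¹ * (g * x * g⁻¹ * (g * c * g⁻¹)) * g := by rw [h]
      _ = x * c := by group

theorem mem_Cent_of_conj_eq {x y g c : G} (hg : g * x * g⁻¹ = y) (hc : c ∈ Cent y) :
    g⁻¹ * c * g ∈ Cent x := by
  rw [conj_mem_Cent_iff g, hg]
  rwa [show g * (g⁻¹ * c * g) * g⁻¹ = c by group]

theorem orderOf_conj (g a : G) : orderOf (g * a * g⁻¹) = orderOf a := by
  rw [← MulAut.conj_apply, (MulAut.conj g).orderOf_eq]

/-- The hypotheses on `x`, its involution `t` and the projection of `C(x)` on M22. -/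
structure Cover (x t : G) (π : ↥(Cent x) →* ↥Spor.M22) : Prop where
  ox : orderOf x = 3
  ot : orderOf t = 2
  tx : t ∈ Cent x
  central_t : ∀ c ∈ Cent x, c * t = t * c
  surj : Function.Surjective π
  ker : π.ker = center ↥(Cent x)
  kcard : Nat.card π.ker = 6
  perfect : commutator ↥(Cent x) = ⊤
  fuse : ∃ g : G, g * x * g⁻¹ ∈ Cent x ∧ g * x * g⁻¹ ∉ zpowers x

/-- A noncentral element of order three of `C(x)`. -/
def Nc (x b : G) : Prop := orderOf b = 3 ∧ b ∈ Cent x ∧ b ∉ zpowers x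

theorem Nc.inv {x b : G} (h : Nc x b) : Nc x b⁻¹ :=
  ⟨by rw [orderOf_inv, h.1], inv_mem h.2.1, fun e => h.2.2 (inv_mem_iff.1 e)⟩

theorem zpowers_three {w y : G} (hw : orderOf w = 3) (hy : y ∈ zpowers w) :
    y = 1 ∨ y = w ∨ y = w⁻¹ := by
  obtain ⟨n, rfl⟩ := mem_zpowers_iff.1 hy
  rw [← zpow_mod_orderOf, hw]
  have h1 := Int.emod_nonneg n (show (3 : ℤ) ≠ 0 by norm_num)
  have h2 := Int.emod_lt_of_pos n (show (0 : ℤ) < 3 by norm_num)
  interval_cases h : n % 3
  · exact Or.inl (by norm_num [h])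
  · exact Or.inr (Or.inl (by norm_num [h]))
  · refine Or.inr (Or.inr ?_)
    norm_num [h]
    rw [eq_inv_iff_mul_eq_one, ← pow_succ]
    have := pow_orderOf_eq_one w
    rwa [hw] at this

variable [Finite G] {x t : G} {π : ↥(Cent x) →* ↥Spor.M22} (hc : Cover x t π)
include hc

theorem x_ne : x ≠ 1 := fun e => by
  have := hc.ox
  rw [e, orderOf_one] at this
  omega

theorem t_ne : t ≠ 1 := fun e => by
  have := hc.ot
  rw [e, orderOf_one] at this
  omega

theorem tt : t * t = 1 := by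
  have := pow_orderOf_eq_one t
  rwa [hc.ot, pow_two] at this

omit [Finite G] hc in
theorem x_mem : x ∈ Cent x := mem_Cent.2 rfl

theorem card_C : Nat.card ↥(Cent x) = 2661120 := by
  have h := card_eq_card_quotient_mul_card_subgroup π.ker
  rw [Nat.card_congr (QuotientGroup.quotientKerEquivOfSurjective π hc.surj).toEquiv, hc.kcard,
    Compute.card_m22] at h
  exact h

theorem central {c y : G} (hcC : c ∈ Cent x) (hy : y ∈ zpowers (x * t)) : c * y = y * c := by
  obtain ⟨n, rfl⟩ := mem_zpowers_iff.1 hy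
  exact (((show Commute c x from mem_Cent.1 hcC).mul_right (hc.central_t c hcC)).zpow_right n).eq

theorem orderOf_xt : orderOf (x * t) = 6 := by
  rw [(show Commute x t from (mem_Cent.1 hc.tx).symm).orderOf_mul_eq_mul_orderOf_of_coprime
    (by rw [hc.ox, hc.ot]; norm_num), hc.ox, hc.ot]

theorem mem_ker {c : ↥(Cent x)} : π c = 1 ↔ c.1 ∈ zpowers (x * t) := by
  let z : ↥(Cent x) := ⟨x * t, mul_mem x_mem hc.tx⟩
  have hz : z ∈ π.ker := by
    rw [hc.ker, mem_center_iff]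
    exact fun g => Subtype.ext (central hc g.2 (mem_zpowers _))
  have he : zpowers z = π.ker := eq_of_le_of_card_ge (zpowers_le.2 hz)
    (by rw [hc.kcard, Nat.card_zpowers, ← Subgroup.orderOf_coe, orderOf_xt hc])
  rw [← MonoidHom.mem_ker, ← he]
  constructor
  · intro h
    obtain ⟨n, hn⟩ := mem_zpowers_iff.1 h
    exact mem_zpowers_iff.2 ⟨n, by rw [← hn]; rfl⟩
  · intro h
    obtain ⟨n, hn⟩ := mem_zpowers_iff.1 h
    exact mem_zpowers_iff.2 ⟨n, Subtype.ext (by rw [← hn]; rfl)⟩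

theorem pi_eq_one_cases {c : ↥(Cent x)} (h : π c = 1) :
    ∃ y ∈ zpowers x, c.1 = y ∨ c.1 = y * t := by
  obtain ⟨n, hn⟩ := mem_zpowers_iff.1 ((mem_ker hc).1 h)
  have hxt : Commute x t := (mem_Cent.1 hc.tx).symm
  rw [hxt.mul_zpow, ← zpow_mod_orderOf t, hc.ot] at hn
  refine ⟨x ^ n, zpow_mem (mem_zpowers x) n, ?_⟩
  rcases Int.emod_two_eq_zero_or_one n with e | e
  · exact Or.inl (by rw [← hn]; norm_num [e])
  · exact Or.inr (by rw [← hn]; norm_num [e])

theorem pi_x : π ⟨x, x_mem⟩ = 1 := (mem_ker hc).2 (by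
  have h : (x * t) ^ (4 : ℕ) = x := by
    rw [(show Commute x t from (mem_Cent.1 hc.tx).symm).mul_pow, show (4 : ℕ) = 3 + 1 from rfl, pow_succ x,
      show x ^ 3 = 1 from hc.ox ▸ pow_orderOf_eq_one x, show 3 + 1 = 2 * 2 from rfl, pow_mul,
      show t ^ 2 = 1 from hc.ot ▸ pow_orderOf_eq_one t]
    group
  show x ∈ zpowers (x * t)
  have h' := pow_mem (mem_zpowers (x * t)) 4
  rwa [h] at h')

theorem pi_t : π ⟨t, hc.tx⟩ = 1 := (mem_ker hc).2 (by
  have h : (x * t) ^ (3 : ℕ) = t := by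
    rw [(show Commute x t from (mem_Cent.1 hc.tx).symm).mul_pow,
      show x ^ 3 = 1 from hc.ox ▸ pow_orderOf_eq_one x, one_mul, pow_succ, pow_two, tt hc, one_mul]
  show t ∈ zpowers (x * t)
  have h' := pow_mem (mem_zpowers (x * t)) 3
  rwa [h] at h')

/-- A 3-element of the kernel lies in `⟨x⟩`. -/
theorem ker_three {c : ↥(Cent x)} (h : π c = 1) (h3 : c.1 ^ 3 = 1) : c.1 ∈ zpowers x := by
  obtain ⟨y, hy, e | e⟩ := pi_eq_one_cases hc h
  · rwa [e]
  · exfalso
    obtain ⟨n, rfl⟩ := mem_zpowers_iff.1 hy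
    have hcm : Commute (x ^ n) t := ((show Commute x t from (mem_Cent.1 hc.tx).symm).zpow_left n)
    rw [e, hcm.mul_pow, pow_succ t, pow_two, tt hc, one_mul, ← zpow_natCast (x ^ n), ← zpow_mul,
      mul_comm n, zpow_mul, zpow_natCast, show x ^ 3 = 1 from hc.ox ▸ pow_orderOf_eq_one x, one_zpow,
      one_mul] at h3
    exact t_ne hc h3

theorem Nc.orderOf_pi {b : G} (hb : Nc x b) : orderOf (π ⟨b, hb.2.1⟩) = 3 := by
  refine orderOf_eq_prime (hp := ⟨Nat.prime_three⟩) ?_ fun e => hb.2.2 (ker_three hc e ?_)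
  · rw [← map_pow, show (⟨b, hb.2.1⟩ : ↥(Cent x)) ^ 3 = 1 from
      Subtype.ext (hb.1 ▸ pow_orderOf_eq_one b : b ^ 3 = 1), map_one]
  · have := pow_orderOf_eq_one b
    rwa [hb.1] at this

/-- The Sylow 3-subgroups of `C(x)`. -/
theorem sylowC (R : Sylow 3 ↥(Cent x)) :
    J4Type.CoverSylow ↥(Cent x) ⟨x, x_mem⟩ (R : Subgroup ↥(Cent x)) :=
  haveI : IsSimpleGroup ↥Spor.M22 := Compute.isSimpleGroup_m22
  J4Type.coverSylow (J4Type.threeFacts_of_card (M := ↥Spor.M22) (hc := Compute.card_m22)) π hc.surj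
    (le_of_eq hc.ker) hc.kcard (by rw [Subgroup.orderOf_mk, hc.ox]) (MonoidHom.mem_ker.2 (pi_x hc))
    (hc.perfect ▸ mem_top _) R

/-- A noncentral element of order three is conjugate to its products with `x`. -/
theorem Nc.conj_mul {b : G} (hb : Nc x b) {y : G} (hy : y ∈ zpowers x) :
    ∃ c ∈ Cent x, c * b * c⁻¹ = b * y := by
  have : Fact (Nat.Prime 3) := ⟨Nat.prime_three⟩
  let bC : ↥(Cent x) := ⟨b, hb.2.1⟩
  have hob : orderOf bC = 3 := by rw [← Subgroup.orderOf_coe]; exact hb.1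
  obtain ⟨R, hR⟩ := (IsPGroup.of_card (n := 1) (p := 3)
    (show Nat.card (zpowers bC) = 3 ^ 1 by rw [Nat.card_zpowers, hob, pow_one])).exists_le_sylow
  have S := sylowC hc R
  let bR : ↥(R : Subgroup ↥(Cent x)) := ⟨bC, hR (mem_zpowers _)⟩
  have hnc : bR ∉ center ↥(R : Subgroup ↥(Cent x)) := by
    intro h
    have h' : bC ∈ (center ↥(R : Subgroup ↥(Cent x))).map (R : Subgroup ↥(Cent x)).subtype :=
      ⟨bR, h, rfl⟩
    rw [S.center, mem_zpowers_iff] at h'
    obtain ⟨n, hn⟩ := h'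
    exact hb.2.2 (mem_zpowers_iff.2 ⟨n, by rw [show b = bC.1 from rfl, ← hn]; rfl⟩)
  obtain ⟨r, hr⟩ : ∃ r : ↥(R : Subgroup ↥(Cent x)), r * bR ≠ bR * r := by
    by_contra h
    push Not at h
    exact hnc (mem_center_iff.2 h)
  set k : ↥(R : Subgroup ↥(Cent x)) := bR⁻¹ * r * bR * r⁻¹ with hk
  have hkc : k ∈ center ↥(R : Subgroup ↥(Cent x)) := by
    rw [← S.extra.1.2.2]
    have := commutator_mem_commutator (G := ↥(R : Subgroup ↥(Cent x))) (mem_top bR⁻¹) (mem_top r)
    rw [commutatorElement_def, inv_inv] at this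
    exact this
  have hk' : k.1.1 ∈ zpowers x := by
    have h' : (k.1 : ↥(Cent x)) ∈ (center ↥(R : Subgroup ↥(Cent x))).map
        (R : Subgroup ↥(Cent x)).subtype := ⟨k, hkc, rfl⟩
    rw [S.center, mem_zpowers_iff] at h'
    obtain ⟨n, hn⟩ := h'
    exact mem_zpowers_iff.2 ⟨n, by rw [← hn]; rfl⟩
  have hk1 : k.1.1 ≠ 1 := by
    intro e
    refine hr ?_
    have e' : k = 1 := Subtype.ext (Subtype.ext e)
    rw [hk, mul_inv_eq_one, mul_assoc, inv_mul_eq_iff_eq_mul] at e'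
    exact e'
  have hrb : r.1.1 * b * r.1.1⁻¹ = b * k.1.1 := by
    show r.1.1 * b * r.1.1⁻¹ = b * (b⁻¹ * r.1.1 * b * r.1.1⁻¹)
    group
  have hrx : r.1.1 * k.1.1 * r.1.1⁻¹ = k.1.1 := by
    obtain ⟨i, hi⟩ := mem_zpowers_iff.1 hk'
    rw [← hi]
    exact mul_inv_eq_iff_eq_mul.2 (((show Commute r.1.1 x from mem_Cent.1 r.1.2).zpow_right i).eq)
  have hk3 : orderOf k.1.1 = 3 := by
    have h := orderOf_dvd_of_mem_zpowers hk'
    rw [hc.ox, Nat.dvd_prime Nat.prime_three, orderOf_eq_one_iff] at h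
    exact h.resolve_left hk1
  have hyk : y ∈ zpowers k.1.1 := by
    rwa [eq_of_le_of_card_ge (zpowers_le.2 hk')
      (by rw [Nat.card_zpowers, Nat.card_zpowers, hk3, hc.ox])]
  rcases zpowers_three hk3 hyk with e | e | e <;> rw [e]
  · exact ⟨1, one_mem _, by group⟩
  · exact ⟨r.1.1, r.1.2, hrb⟩
  · refine ⟨r.1.1 * r.1.1, mul_mem r.1.2 r.1.2, ?_⟩
    have h3 : k.1.1 * k.1.1 = k.1.1⁻¹ := by
      rw [eq_inv_iff_mul_eq_one, ← pow_two, ← pow_succ]
      have := pow_orderOf_eq_one k.1.1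
      rwa [hk3] at this
    rw [show r.1.1 * r.1.1 * b * (r.1.1 * r.1.1)⁻¹ = r.1.1 * (r.1.1 * b * r.1.1⁻¹) * r.1.1⁻¹ by group,
      hrb, show r.1.1 * (b * k.1.1) * r.1.1⁻¹ = r.1.1 * b * r.1.1⁻¹ * (r.1.1 * k.1.1 * r.1.1⁻¹) by group,
      hrb, hrx, mul_assoc, h3]

/-- The noncentral elements of order three form one class of `C(x)`. -/
theorem Nc.isConj {a b : G} (ha : Nc x a) (hb : Nc x b) : ∃ c ∈ Cent x, c * a * c⁻¹ = b := by
  obtain ⟨m, hm⟩ := isConj_iff.1 (conj_three (ha.orderOf_pi hc) (hb.orderOf_pi hc))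
  obtain ⟨c, rfl⟩ := hc.surj m
  let b' : ↥(Cent x) := c * ⟨a, ha.2.1⟩ * c⁻¹
  have hb' : Nc x b'.1 := by
    refine ⟨(orderOf_conj c.1 a).trans ha.1, b'.2, fun e => ha.2.2 ?_⟩
    obtain ⟨n, hn⟩ := mem_zpowers_iff.1 e
    refine mem_zpowers_iff.2 ⟨n, ?_⟩
    have hn' : x ^ n = c.1 * a * c.1⁻¹ := hn
    calc x ^ n = c.1⁻¹ * (c.1 * x ^ n) := by group
      _ = c.1⁻¹ * (x ^ n * c.1) := by
        rw [((show Commute c.1 x from mem_Cent.1 c.2).zpow_right n).eq]
      _ = a := by rw [hn']; group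
  have hπ : π (b'⁻¹ * ⟨b, hb.2.1⟩) = 1 := by
    rw [map_mul, map_inv, map_mul, map_mul, map_inv, hm, inv_mul_cancel]
  -- the quotient is a 3-element of the centre
  have h3 : (b'.1⁻¹ * b) ^ 3 = 1 := by
    have hcen : b'⁻¹ * ⟨b, hb.2.1⟩ ∈ center ↥(Cent x) := hc.ker ▸ MonoidHom.mem_ker.2 hπ
    have hcm : Commute b'.1 (b'.1⁻¹ * b) :=
      congrArg Subtype.val (mem_center_iff.1 hcen b')
    have e := hcm.mul_pow 3
    rw [mul_inv_cancel_left, show b ^ 3 = 1 from hb.1 ▸ pow_orderOf_eq_one b,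
      show b'.1 ^ 3 = 1 from hb'.1 ▸ pow_orderOf_eq_one b'.1, one_mul] at e
    exact e.symm
  obtain ⟨d, hd, he⟩ := hb'.conj_mul hc (ker_three hc hπ h3)
  refine ⟨d * c.1, mul_mem hd c.2, ?_⟩
  rw [show d * c.1 * a * (d * c.1)⁻¹ = d * (c.1 * a * c.1⁻¹) * d⁻¹ by group]
  exact he.trans (mul_inv_cancel_left b'.1 b)

/-- Every noncentral element of order three is conjugate to `x`. -/
theorem Nc.exists_g {b : G} (hb : Nc x b) : ∃ g : G, g * x * g⁻¹ = b := by
  obtain ⟨g, hg, hgn⟩ := hc.fuse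
  obtain ⟨c, -, e⟩ := Nc.isConj hc (a := g * x * g⁻¹) ⟨(orderOf_conj g x).trans hc.ox, hg, hgn⟩ hb
  exact ⟨c * g, by rw [← e]; group⟩

theorem exists_Nc : ∃ a : G, Nc x a := by
  obtain ⟨g, hg, hgn⟩ := hc.fuse
  exact ⟨_, (orderOf_conj g x).trans hc.ox, hg, hgn⟩

/-- An element inverting `x`, commuting with `t`. -/
theorem exists_inverting : ∃ k : G, k * x * k⁻¹ = x⁻¹ ∧ k * t = t * k := by
  obtain ⟨a, ha⟩ := exists_Nc hc
  obtain ⟨g, hg⟩ := ha.exists_g hc
  obtain ⟨c, -, he⟩ := ha.isConj hc ha.inv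
  refine ⟨g⁻¹ * c * g, ?_, ?_⟩
  · rw [show g⁻¹ * c * g * x * (g⁻¹ * c * g)⁻¹ = g⁻¹ * (c * (g * x * g⁻¹) * c⁻¹) * g by group, hg, he,
      ← hg]
    group
  · set k := g⁻¹ * c * g with hk
    have hkx : k * x * k⁻¹ = x⁻¹ := by
      rw [hk, show g⁻¹ * c * g * x * (g⁻¹ * c * g)⁻¹ = g⁻¹ * (c * (g * x * g⁻¹) * c⁻¹) * g by group, hg, he,
        ← hg]
      group
    have hinv : ∀ y, y ∈ Cent x⁻¹ ↔ y ∈ Cent x := fun y => by
      simp only [mem_Cent]
      exact ⟨fun h => by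
        have h' := (show Commute y x⁻¹ from h).inv_right
        rwa [inv_inv] at h', fun h => ((show Commute y x from h).inv_right).eq⟩
    have ht' : k * t * k⁻¹ ∈ Cent x := (hinv _).1 (hkx ▸ (conj_mem_Cent_iff k x t).1 hc.tx)
    have hcen : (⟨_, ht'⟩ : ↥(Cent x)) ∈ center ↥(Cent x) := by
      rw [mem_center_iff]
      intro y
      refine Subtype.ext ?_
      have hy : k⁻¹ * y.1 * k ∈ Cent x := mem_Cent_of_conj_eq hkx ((hinv _).2 y.2)
      show y.1 * (k * t * k⁻¹) = k * t * k⁻¹ * y.1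
      calc y.1 * (k * t * k⁻¹) = k * ((k⁻¹ * y.1 * k) * t) * k⁻¹ := by group
        _ = k * (t * (k⁻¹ * y.1 * k)) * k⁻¹ := by rw [hc.central_t _ hy]
        _ = k * t * k⁻¹ * y.1 := by group
    rw [← hc.ker, MonoidHom.mem_ker] at hcen
    obtain ⟨y, hy, e | e⟩ := pi_eq_one_cases hc hcen
    · exfalso
      have h2 : orderOf y = 2 := by rw [← e]; exact (orderOf_conj k t).trans hc.ot
      have h3 := orderOf_dvd_of_mem_zpowers hy
      rw [h2, hc.ox] at h3
      norm_num at h3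
    · have e' : k * t * k⁻¹ = y * t := e
      have hy2 : y * y = 1 := by
        have hyt : Commute y t := by
          obtain ⟨n, rfl⟩ := mem_zpowers_iff.1 hy
          exact ((show Commute x t from (mem_Cent.1 hc.tx).symm).zpow_left n)
        have h : k * t * k⁻¹ * (k * t * k⁻¹) = y * t * (y * t) := by rw [e']
        rw [show k * t * k⁻¹ * (k * t * k⁻¹) = k * (t * t) * k⁻¹ by group, tt hc, mul_one, mul_inv_cancel,
          hyt.symm.mul_mul_mul_comm, tt hc, mul_one] at h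
        exact h.symm
      have hy1 : y = 1 := by
        refine orderOf_eq_one_iff.1 (Nat.eq_one_of_dvd_coprimes (by norm_num : Nat.Coprime 2 3)
          (orderOf_dvd_of_pow_eq_one (by rw [pow_two]; exact hy2)) ?_)
        exact hc.ox ▸ orderOf_dvd_of_mem_zpowers hy
      rw [hy1, one_mul] at e'
      exact mul_inv_eq_iff_eq_mul.1 e'

omit hc in
/-- The subgroup of `C(x)` centralising a second element. -/
abbrev CC (x b : G) : Subgroup G := Cent x ⊓ Cent b

/-- The centraliser in `C(x)` of a noncentral element of order three has order at least 72. -/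
theorem Nc.card_CC {b : G} (hb : Nc x b) : 72 ≤ Nat.card ↥(CC x b) := by
  classical
  let bC : ↥(Cent x) := ⟨b, hb.2.1⟩
  let O := {d : ↥(Cent x) // IsConj bC d}
  have hO : Nat.card O ≤ 36960 := by
    let f : O → {m : ↥Spor.M22 // orderOf m = 3} := fun d => ⟨π d.1, by
      obtain ⟨c, hcd⟩ := isConj_iff.1 d.2
      rw [← hcd, map_mul, map_mul, map_inv, orderOf_conj, hb.orderOf_pi hc]⟩
    haveI := Fintype.ofFinite O
    haveI := Fintype.ofFinite {m : ↥Spor.M22 // orderOf m = 3}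
    have h1 : (Finset.univ : Finset O).card ≤
        3 * (Finset.univ : Finset {m : ↥Spor.M22 // orderOf m = 3}).card := by
      refine Finset.card_le_mul_card_image_of_maps_to (f := f) (fun _ _ => Finset.mem_univ _) 3 fun m _ => ?_
      rcases (Finset.univ.filter fun d => f d = m).eq_empty_or_nonempty with e | ⟨d₀, hd₀⟩
      · rw [e]; simp
      have hd3 : ∀ d : O, d.1.1 ^ 3 = 1 := fun d => by
        obtain ⟨c, hcd⟩ := isConj_iff.1 d.2
        have : orderOf d.1.1 = 3 := by rw [← hcd]; exact (orderOf_conj c.1 b).trans hb.1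
        exact this ▸ pow_orderOf_eq_one d.1.1
      have hmem : ∀ d ∈ (Finset.univ.filter fun d => f d = m), d₀.1.1⁻¹ * d.1.1 ∈ zpowers x := by
        intro d hd
        have e : π (d₀.1⁻¹ * d.1) = 1 := by
          rw [map_mul, map_inv, inv_mul_eq_one]
          exact (congrArg Subtype.val (Finset.mem_filter.1 hd₀).2).trans
            (congrArg Subtype.val (Finset.mem_filter.1 hd).2).symm
        refine ker_three hc e ?_
        have hcen : d₀.1⁻¹ * d.1 ∈ center ↥(Cent x) := hc.ker ▸ MonoidHom.mem_ker.2 e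
        have hcm : Commute d₀.1.1 (d₀.1.1⁻¹ * d.1.1) :=
          congrArg Subtype.val (mem_center_iff.1 hcen d₀.1)
        have e3 := hcm.mul_pow 3
        rw [mul_inv_cancel_left, hd3, hd3, one_mul] at e3
        exact e3.symm
      calc _ ≤ ({1, x, x⁻¹} : Finset G).card := by
            refine Finset.card_le_card_of_injOn (fun d => d₀.1.1⁻¹ * d.1.1) (fun d hd => ?_)
              (fun a _ c _ h => Subtype.ext (Subtype.ext (mul_left_cancel h)))
            simpa using zpowers_three hc.ox (hmem d hd)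
        _ ≤ 3 := Finset.card_le_three
    rw [Finset.card_univ, Finset.card_univ, ← Nat.card_eq_fintype_card, ← Nat.card_eq_fintype_card,
      card_three_elts] at h1
    omega
  have h1 := (centralizer ({bC} : Set ↥(Cent x))).card_mul_index
  rw [← Char.card_isConj_eq_index, card_C hc] at h1
  have h2 : Nat.card ↥(centralizer ({bC} : Set ↥(Cent x))) ≤ Nat.card ↥(CC x b) :=
    Nat.card_le_card_of_injective (fun q => ⟨q.1.1, q.1.2,
      mem_Cent.2 (congrArg Subtype.val (mem_centralizer_singleton_iff.1 q.2))⟩)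
      fun a c h => Subtype.ext (Subtype.ext (congrArg (fun q => q.1) h))
  change _ * Nat.card O = _ at h1
  by_contra hlt
  have : Nat.card ↥(centralizer ({bC} : Set ↥(Cent x))) ≤ 71 := by omega
  have := Nat.mul_le_mul this hO
  omega

end Cfsg.Agent.J4Local
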