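import Cfsg.Agent.J4Local.TwoBase
import Cfsg.Agent.Core.Frattini

/-!
# The 2-core is extraspecial of order `2 ^ 13`
-/

set_option autoImplicit false
set_option linter.style.haveILetI false

open Subgroup Cfsg
open scoped Pointwise commutatorElement

namespace Cfsg.Agent.J4Local

universe u

variable {G : Type u} [Group G] [Finite G] {x t : G} {π : ↥(Cent x) →* ↥Spor.M22} (hc : Cover x t π)

/-- The subgroup generated by the Frattini subgroup of `E` and `t`. -/
abbrev T0 (t : G) : Subgroup G := (frattini ↥(E t)).map (E t).subtype ⊔ zpowers t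

omit [Finite G] in
theorem Pr_exists {x a d : G} (h : a * x = x * a) (hd : d ∈ Pr x a) : ∃ i j : ℤ, d = x ^ i * a ^ j := by
  have hcl : Pr x a = closure ({x, a} : Set G) := by
    rw [show Pr x a = zpowers x ⊔ zpowers a from rfl, zpowers_eq_closure, zpowers_eq_closure,
      ← Subgroup.closure_union, Set.singleton_union]
  rw [hcl] at hd
  have hc : ∀ i j : ℤ, Commute (x ^ i) (a ^ j) := fun i j => (show Commute x a from h.symm).zpow_zpow i j
  induction hd using closure_induction with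
  | mem z hz =>
    rcases hz with rfl | rfl
    · exact ⟨1, 0, by simp⟩
    · exact ⟨0, 1, by simp⟩
  | one => exact ⟨0, 0, by simp⟩
  | mul y z _ _ ey ez =>
    obtain ⟨i, j, rfl⟩ := ey
    obtain ⟨k, l, rfl⟩ := ez
    refine ⟨i + k, j + l, ?_⟩
    rw [zpow_add, zpow_add, mul_assoc, ← mul_assoc (a ^ j), ← (hc k j).eq]
    group
  | inv y _ ey =>
    obtain ⟨i, j, rfl⟩ := ey
    refine ⟨-i, -j, ?_⟩
    rw [mul_inv_rev, zpow_neg, zpow_neg, ← mul_inv_rev, ← mul_inv_rev, (hc i j).eq]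

omit [Finite G] in
theorem frattini_apply {K : Type*} [Group K] (φ : MulAut K) {k : K} (hk : k ∈ frattini K) :
    φ k ∈ frattini K := by
  have hchar : (frattini K).Characteristic := inferInstance
  rw [← Subgroup.characteristic_iff_map_eq.1 hchar φ]
  exact mem_map_of_mem φ.toMonoidHom hk

omit [Finite G] in
theorem pow_three_eq {w : G} (hw : orderOf w = 3) : w ^ 3 = 1 := by
  have h := pow_orderOf_eq_one w
  rwa [hw] at h

include hc

theorem T0_le : T0 t ≤ E t := sup_le (map_subtype_le _) (zpowers_le.2 (t_mem_E hc))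

theorem H_le_norm_T0 : Cent t ≤ normalizer (T0 t : Set G) := by
  intro h hh
  have hE := Cent_le_normalizer_E t
  have key : ∀ k ∈ Cent t, ∀ d ∈ T0 t, k * d * k⁻¹ ∈ T0 t := by
    intro k hk d hd
    have hle : T0 t ≤ (T0 t).comap (MulAut.conj k).toMonoidHom := by
      refine sup_le ?_ (zpowers_le.2 ?_)
      · rintro _ ⟨e, he, rfl⟩
        refine mem_sup_left ⟨(E t).normalizerMonoidHom ⟨k, hE hk⟩ e, ?_, rfl⟩
        exact frattini_apply ((E t).normalizerMonoidHom ⟨k, hE hk⟩) he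
      · show k * t * k⁻¹ ∈ T0 t
        rw [mem_Cent.1 hk, mul_inv_cancel_right]
        exact mem_sup_right (mem_zpowers t)
    exact hle hd
  refine mem_normalizer_iff.2 fun d => ⟨key h hh d, fun hd => ?_⟩
  have h' := key h⁻¹ (inv_mem hh) _ hd
  rwa [show h⁻¹ * (h * d * h⁻¹) * h⁻¹⁻¹ = d by group] at h'

theorem comm_mem_T0 {e f : G} (he : e ∈ E t) (hf : f ∈ E t) : e * f * e⁻¹ * f⁻¹ ∈ T0 t := by
  haveI : Fact (Nat.Prime 2) := ⟨Nat.prime_two⟩
  haveI := (E_isPGroup t).isNilpotent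
  refine mem_sup_left ⟨⁅(⟨e, he⟩ : ↥(E t)), ⟨f, hf⟩⁆, ?_, rfl⟩
  exact Core.commutator_le_frattini (commutator_mem_commutator (mem_top _) (mem_top _))

theorem sq_mem_T0 {e : G} (he : e ∈ E t) : e * e ∈ T0 t := by
  haveI : Fact (Nat.Prime 2) := ⟨Nat.prime_two⟩
  exact mem_sup_left ⟨⟨e, he⟩ ^ 2, Core.pow_mem_frattini (E_isPGroup t) _, pow_two e⟩

/-- A subgroup of the fixed points of `a` on `E` containing `t` and normalised by `x` has order 2, 8 or 32. -/
theorem card_cases (hch : CharTwo t) {a : G} (ha : Nc x a) (D : Subgroup G) (hD : D ≤ E t ⊓ Cent a)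
    (htD : t ∈ D) (hxD : ∀ d ∈ D, x * d * x⁻¹ ∈ D) :
    Nat.card D = 2 ∨ Nat.card D = 8 ∨ Nat.card D = 32 := by
  classical
  haveI : Fact (Nat.Prime 2) := ⟨Nat.prime_two⟩
  haveI : Fact (Nat.Prime 3) := ⟨Nat.prime_three⟩
  obtain ⟨g, hg⟩ := ha.exists_g hc
  obtain ⟨M, hM, hM32, -⟩ := image_EC hc ha hg hch
  have h32 : Nat.card D ≤ 32 := (Subgroup.card_le_of_le hD).trans (hM ▸ hM32)
  obtain ⟨k, hk⟩ := ((E_isPGroup t).to_le (hD.trans inf_le_left)).exists_card_eq
  let f : D → D := fun d => ⟨x * d.1 * x⁻¹, hxD d.1 d.2⟩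
  have hx3 : x * x * x = 1 := by
    rw [← pow_two, ← pow_succ]
    exact pow_three_eq hc.ox
  have hf : f^[3] = id := by
    funext d
    apply Subtype.ext
    show x * (x * (x * d.1 * x⁻¹) * x⁻¹) * x⁻¹ = d.1
    rw [show x * (x * (x * d.1 * x⁻¹) * x⁻¹) * x⁻¹ = x * x * x * d.1 * (x * x * x)⁻¹ by group, hx3,
      one_mul, inv_one, mul_one]
  have hcard : Nat.card {d : D // f d = d} = 2 := by
    refine Nat.card_eq_two_iff.2 ⟨⟨⟨1, one_mem D⟩, Subtype.ext (by simp [f])⟩,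
      ⟨⟨t, htD⟩, Subtype.ext (show x * t * x⁻¹ = t by rw [← mem_Cent.1 hc.tx, mul_inv_cancel_right])⟩, ?_, ?_⟩
    · intro e
      exact t_ne hc (congrArg (fun q => (q.1.1 : G)) e).symm
    · refine Set.eq_univ_of_forall fun d => ?_
      rcases fix_x hc (hD d.1.2).1 (mem_Cent.2 (mul_inv_eq_iff_eq_mul.1 (congrArg Subtype.val d.2)).symm) with
        e | e
      · exact Or.inl (Subtype.ext (Subtype.ext e))
      · exact Or.inr (Subtype.ext (Subtype.ext e))
  have hmod := J4Type.Rep.card_fixed_modEq (p := 3) hf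
  rw [hcard, hk] at hmod
  rw [hk] at h32 ⊢
  have hk5 : k < 6 := by
    by_contra h
    have := Nat.pow_le_pow_right (show 0 < 2 by norm_num) (show 6 ≤ k by omega)
    norm_num at this
    omega
  interval_cases k <;>
    first
    | exact absurd hmod (by decide)
    | norm_num

/-- Conjugation in `C(x)` carries the fixed points of noncentral elements into one another. -/
theorem card_fix_conj {a b c : G} (hcC : c ∈ Cent x) (he : c * a * c⁻¹ = b) (T : Subgroup G)
    (hT : Cent t ≤ normalizer (T : Set G)) :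
    Nat.card ↥(T ⊓ Cent a : Subgroup G) = Nat.card ↥(T ⊓ Cent b : Subgroup G) := by
  have hn := hT (Cx_le_H hc hcC)
  refine Nat.card_congr
    { toFun := fun p => ⟨c * p.1 * c⁻¹, (mem_normalizer_iff.1 hn p.1).1 p.2.1,
        he ▸ (conj_mem_Cent_iff c a p.1).1 p.2.2⟩
      invFun := fun q => ⟨c⁻¹ * q.1 * c, (mem_normalizer_iff''.1 hn q.1).1 q.2.1,
        mem_Cent_of_conj_eq he q.2.2⟩
      left_inv := fun p => Subtype.ext (by group)
      right_inv := fun q => Subtype.ext (by group) }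

omit hc in
/-- The image of the fixed points of `d` in the quotient by `T`. -/
abbrev img (t d : G) (T : Subgroup G) [(T.subgroupOf (E t)).Normal] : Subgroup (↥(E t) ⧸ T.subgroupOf (E t)) :=
  ((E t ⊓ Cent d).subgroupOf (E t)).map (QuotientGroup.mk' _)

theorem card_img {d : G} {T : Subgroup G} [(T.subgroupOf (E t)).Normal] (hT : T ≤ E t) :
    Nat.card ↥(img t d T) * Nat.card ↥(T ⊓ Cent d : Subgroup G) = Nat.card ↥(E t ⊓ Cent d : Subgroup G) := by
  let f : ↥(E t ⊓ Cent d : Subgroup G) →* ↥(E t) ⧸ T.subgroupOf (E t) :=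
    (QuotientGroup.mk' _).comp (inclusion inf_le_left)
  have h := card_eq_card_quotient_mul_card_subgroup f.ker
  rw [Nat.card_congr (QuotientGroup.quotientKerEquivRange f).toEquiv] at h
  have hr : f.range = img t d T := by
    ext q
    constructor
    · rintro ⟨e, rfl⟩
      exact ⟨inclusion inf_le_left e, mem_subgroupOf.2 e.2, rfl⟩
    · rintro ⟨e, he, rfl⟩
      exact ⟨⟨e.1, mem_subgroupOf.1 he⟩, rfl⟩
  have hk : Nat.card f.ker = Nat.card ↥(T ⊓ Cent d : Subgroup G) := Nat.card_congr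
    { toFun := fun e => ⟨e.1.1, mem_subgroupOf.1 ((QuotientGroup.eq_one_iff (N := T.subgroupOf (E t))
        (inclusion inf_le_left e.1 : ↥(E t))).1 (MonoidHom.mem_ker.1 e.2)), e.1.2.2⟩
      invFun := fun q => ⟨⟨q.1, hT q.2.1, q.2.2⟩,
        MonoidHom.mem_ker.2 ((QuotientGroup.eq_one_iff _).2 (mem_subgroupOf.2 q.2.1))⟩
      left_inv := fun e => rfl
      right_inv := fun q => rfl }
  rw [hr, hk] at h
  exact h.symm

omit hc in
theorem Cent_inv (d : G) : Cent d⁻¹ = Cent d := by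
  ext g
  simp only [mem_Cent]
  exact ⟨fun h => by
    have h' := (show Commute g d⁻¹ from h).inv_right
    rwa [inv_inv] at h', fun h => ((show Commute g d from h).inv_right).eq⟩

/-- The three products `a`, `a x`, `a x²` carry all the noncentral fixed points. -/
theorem Pr_three {a d : G} (ha : Nc x a) (hd : d ∈ Pr x a) (hn : Nc x d) :
    Cent d = Cent a ∨ Cent d = Cent (a * x) ∨ Cent d = Cent (a * x * x) := by
  obtain ⟨i, j, rfl⟩ := Pr_exists ha.comm hd
  have hx : x ^ 3 = 1 := pow_three_eq hc.ox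
  have hx' : x ^ (3 : ℤ) = 1 := by exact_mod_cast hx
  rw [← zpow_mod_orderOf x, hc.ox, ← zpow_mod_orderOf a, ha.1]
  have i0 := Int.emod_nonneg i (show (3 : ℤ) ≠ 0 by norm_num)
  have i1 := Int.emod_lt_of_pos i (show (0 : ℤ) < 3 by norm_num)
  have j0 := Int.emod_nonneg j (show (3 : ℤ) ≠ 0 by norm_num)
  have j1 := Int.emod_lt_of_pos j (show (0 : ℤ) < 3 by norm_num)
  have hcm : Commute a x := ha.comm
  have hne : j % ((3 : ℕ) : ℤ) ≠ 0 := by
    intro h
    refine hn.2.2 ?_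
    rw [← zpow_mod_orderOf a, ha.1, h, zpow_zero, mul_one]
    exact zpow_mem (mem_zpowers x) i
  have a2 : a ^ (2 : ℤ) = a⁻¹ := by
    rw [eq_inv_iff_mul_eq_one, ← zpow_add_one]
    exact_mod_cast pow_three_eq ha.1
  have xinv : x⁻¹ = x * x := by
    rw [inv_eq_iff_mul_eq_one, ← pow_two, ← pow_succ']
    exact hx
  rw [show ((3 : ℕ) : ℤ) = 3 from rfl] at hne ⊢
  interval_cases hj : j % 3
  · exact absurd rfl hne
  · interval_cases hi : i % 3
    · exact Or.inl (by norm_num [hi])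
    · refine Or.inr (Or.inl ?_)
      rw [zpow_one, zpow_one, hcm.eq]
    · refine Or.inr (Or.inr ?_)
      rw [zpow_two, zpow_one, ← (hcm.mul_right hcm).eq, mul_assoc]
  · interval_cases hi : i % 3
    · refine Or.inl ?_
      rw [zpow_zero, one_mul, a2, Cent_inv]
    · refine Or.inr (Or.inr ?_)
      rw [zpow_one, a2, ← Cent_inv (x * a⁻¹), mul_inv_rev, inv_inv, xinv, mul_assoc]
    · refine Or.inr (Or.inl ?_)
      rw [zpow_two, a2, ← Cent_inv (x * x * a⁻¹), mul_inv_rev, inv_inv, ← xinv, inv_inv]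

theorem Nc_mul {a : G} (ha : Nc x a) : Nc x (a * x) ∧ Nc x (a * x * x) := by
  have hm : ∀ d ∈ zpowers x, Nc x (a * d) := by
    intro d hd
    obtain ⟨c, hcC, he⟩ := ha.conj_mul hc hd
    refine ⟨by rw [← he, orderOf_conj, ha.1], mul_mem ha.2.1 ?_, fun h => ha.2.2 ?_⟩
    · exact (zpowers_le.2 x_mem) hd
    · have := mul_mem h (inv_mem hd)
      rwa [mul_inv_cancel_right] at this
  refine ⟨hm x (mem_zpowers x), ?_⟩
  rw [mul_assoc]
  exact hm _ (mul_mem (mem_zpowers x) (mem_zpowers x))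

/-- The quotient by `T` is generated by the three images. -/
theorem card_quot_le {a : G} (ha : Nc x a) (T : Subgroup G) [(T.subgroupOf (E t)).Normal]
    (hcomm : ∀ e ∈ E t, ∀ f ∈ E t, e * f * e⁻¹ * f⁻¹ ∈ T) (htT : t ∈ T) :
    Nat.card (↥(E t) ⧸ T.subgroupOf (E t)) ≤
      Nat.card ↥(img t a T) * Nat.card ↥(img t (a * x) T) * Nat.card ↥(img t (a * x * x) T) := by
  classical
  letI : CommGroup (↥(E t) ⧸ T.subgroupOf (E t)) :=
    { mul_comm := fun p q => by
        obtain ⟨e, rfl⟩ := QuotientGroup.mk_surjective p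
        obtain ⟨f, rfl⟩ := QuotientGroup.mk_surjective q
        rw [← QuotientGroup.mk_mul, ← QuotientGroup.mk_mul]
        refine QuotientGroup.eq.2 (mem_subgroupOf.2 ?_)
        show (e.1 * f.1)⁻¹ * (f.1 * e.1) ∈ T
        have h := hcomm f.1⁻¹ (inv_mem f.2) e.1⁻¹ (inv_mem e.2)
        rwa [inv_inv, inv_inv, show f.1⁻¹ * e.1⁻¹ * f.1 * e.1 = (e.1 * f.1)⁻¹ * (f.1 * e.1) by group] at h }
  let f : ↥(img t a T) × ↥(img t (a * x) T) × ↥(img t (a * x * x) T) → ↥(E t) ⧸ T.subgroupOf (E t) :=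
    fun p => p.1.1 * p.2.1.1 * p.2.2.1
  have hs : Function.Surjective f := by
    let S : Subgroup (↥(E t) ⧸ T.subgroupOf (E t)) := img t a T ⊔ img t (a * x) T ⊔ img t (a * x * x) T
    have hle : E t ≤ (S.comap (QuotientGroup.mk' _)).map (E t).subtype := by
      refine gen_Pr hc ha (E_isPGroup t) ((Pr_le x_mem ha.2.1).trans (Cx_le_norm_E hc)) ?_ ?_
      · rintro e ⟨he, hex⟩
        refine ⟨⟨e, he⟩, ?_, rfl⟩
        have heT : e ∈ T := by
          rcases fix_x hc he hex with rfl | rfl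
          · exact one_mem _
          · exact htT
        show (QuotientGroup.mk (⟨e, he⟩ : ↥(E t)) : ↥(E t) ⧸ T.subgroupOf (E t)) ∈ S
        rw [(QuotientGroup.eq_one_iff (⟨e, he⟩ : ↥(E t))).2 (mem_subgroupOf.2 heT)]
        exact one_mem _
      · rintro d hd hn e ⟨he, hed⟩
        refine ⟨⟨e, he⟩, ?_, rfl⟩
        rcases Pr_three hc ha hd hn with h | h | h <;> rw [h] at hed
        · exact mem_sup_left (mem_sup_left ⟨⟨e, he⟩, mem_subgroupOf.2 ⟨he, hed⟩, rfl⟩)
        · exact mem_sup_left (mem_sup_right ⟨⟨e, he⟩, mem_subgroupOf.2 ⟨he, hed⟩, rfl⟩)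
        · exact mem_sup_right ⟨⟨e, he⟩, mem_subgroupOf.2 ⟨he, hed⟩, rfl⟩
    intro q
    obtain ⟨e, rfl⟩ := QuotientGroup.mk_surjective q
    obtain ⟨e', he', hee⟩ := hle e.2
    rw [show e' = e from Subtype.ext hee] at he'
    obtain ⟨p, hp, r, hr, hpr⟩ := Subgroup.mem_sup.1 (show QuotientGroup.mk' _ e ∈ S from he')
    obtain ⟨p1, hp1, p2, hp2, rfl⟩ := Subgroup.mem_sup.1 hp
    exact ⟨⟨⟨p1, hp1⟩, ⟨p2, hp2⟩, ⟨r, hr⟩⟩, hpr⟩
  refine (Nat.card_le_card_of_surjective f hs).trans (le_of_eq ?_)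
  rw [Nat.card_prod, Nat.card_prod, mul_assoc (Nat.card ↥(img t a T))]

omit hc in
theorem normal_of_norm {K T : Subgroup G} (h : K ≤ normalizer (T : Set G)) : (T.subgroupOf K).Normal :=
  normal_subgroupOf_of_le_normalizer h

/-- Every noncentral element fixes exactly 32 elements of `E` and two of `T0`. -/
theorem fix_cards (hch : CharTwo t) {a : G} (ha : Nc x a) :
    Nat.card ↥(E t ⊓ Cent a : Subgroup G) = 32 ∧ Nat.card ↥(T0 t ⊓ Cent a : Subgroup G) = 2 := by
  haveI := normal_of_norm ((E_le t).trans (H_le_norm_T0 hc))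
  have hsame : ∀ b, Nc x b → Nat.card ↥(img t b (T0 t)) = Nat.card ↥(img t a (T0 t)) := by
    intro b hb
    obtain ⟨c, hcC, he⟩ := ha.isConj hc hb
    have h1 := card_img hc (d := b) (T0_le hc)
    have h2 := card_img hc (d := a) (T0_le hc)
    rw [← card_fix_conj hc hcC he _ (H_le_norm_T0 hc), ← card_fix_conj hc hcC he _ (Cent_le_normalizer_E t),
      ← h2] at h1
    exact Nat.eq_of_mul_eq_mul_right Nat.card_pos h1
  have hxa : ∀ T : Subgroup G, Cent t ≤ normalizer (T : Set G) →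
      ∀ d ∈ T ⊓ Cent a, x * d * x⁻¹ ∈ T ⊓ Cent a := fun T hT d hd =>
    ⟨(mem_normalizer_iff.1 (hT (Cx_le_H hc x_mem)) d).1 hd.1,
      (Cent a).mul_mem ((Cent a).mul_mem (x_mem_Ca ha) hd.2) ((Cent a).inv_mem (x_mem_Ca ha))⟩
  have n3 := card_cases hc hch ha (E t ⊓ Cent a) le_rfl ⟨t_mem_E hc, t_mem_Ca ha hc⟩
    (hxa _ (Cent_le_normalizer_E t))
  have k3 := card_cases hc hch ha (T0 t ⊓ Cent a) (inf_le_inf_right _ (T0_le hc))
    ⟨mem_sup_right (mem_zpowers t), t_mem_Ca ha hc⟩ (hxa _ (H_le_norm_T0 hc))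
  have hm := card_img hc (d := a) (T0_le hc)
  by_contra hne
  have hm4 : Nat.card ↥(img t a (T0 t)) ≤ 4 := by
    rcases n3 with h | h | h <;> rcases k3 with h' | h' | h' <;> rw [h, h'] at hm <;>
      first
      | omega
      | exact absurd ⟨h, h'⟩ hne
  have hq := card_quot_le hc ha (T0 t) (fun e he f hf => comm_mem_T0 hc he hf) (mem_sup_right (mem_zpowers t))
  rw [hsame _ (Nc_mul hc ha).1, hsame _ (Nc_mul hc ha).2] at hq
  have hq64 : Nat.card (↥(E t) ⧸ (T0 t).subgroupOf (E t)) ≤ 64 :=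
    hq.trans ((Nat.mul_le_mul (Nat.mul_le_mul hm4 hm4) hm4).trans (by norm_num))
  haveI : Fact (Nat.Prime 2) := ⟨Nat.prime_two⟩
  obtain ⟨j, hj⟩ := ((E_isPGroup t).to_quotient ((T0 t).subgroupOf (E t))).exists_card_eq
  have hj6 : j ≤ 6 := by
    by_contra h
    have := Nat.pow_le_pow_right (show 0 < 2 by norm_num) (show 7 ≤ j by omega)
    norm_num at this
    omega
  have htriv : ∀ e ∈ E t, e⁻¹ * (x * e * x⁻¹) ∈ T0 t := fun e he =>
    section_trivial hc (E t) (T0 t) (Cx_le_norm_E hc) ((Cx_le_H hc).trans (H_le_norm_T0 hc)) hj6 hj he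
  -- hence `x` is trivial on `E` modulo its Frattini subgroup, so on `E`
  set F := (frattini ↥(E t)).map (E t).subtype with hF
  have hFn : ∀ {k d : G}, k ∈ Cent t → d ∈ F → k * d * k⁻¹ ∈ F := by
    rintro k _ hk ⟨e, he, rfl⟩
    refine ⟨(E t).normalizerMonoidHom ⟨k, Cent_le_normalizer_E t hk⟩ e, ?_, rfl⟩
    exact frattini_apply ((E t).normalizerMonoidHom ⟨k, Cent_le_normalizer_E t hk⟩) he
  have hsq : ∀ e ∈ E t, e * e ∈ F := fun e he =>
    ⟨⟨e, he⟩ ^ 2, Core.pow_mem_frattini (E_isPGroup t) _, pow_two e⟩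
  have hmem : ∀ d ∈ T0 t, d ∈ F ∨ d * t ∈ F := by
    intro d hd
    have hn : zpowers t ≤ normalizer (F : Set G) := zpowers_le.2 (mem_normalizer_iff.2 fun k =>
      ⟨hFn (mem_Cent.2 rfl), fun h => by
        have h' := hFn (inv_mem (mem_Cent.2 rfl) : t⁻¹ ∈ Cent t) h
        rwa [show t⁻¹ * (t * k * t⁻¹) * t⁻¹⁻¹ = k by group] at h'⟩)
    have hd' : d ∈ (F : Set G) * (zpowers t : Set G) := by
      rw [← coe_mul_of_right_le_normalizer_left F (zpowers t) hn]
      exact hd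
    obtain ⟨p, hp, q, hq, rfl⟩ := hd'
    obtain ⟨n, rfl⟩ := mem_zpowers_iff.1 hq
    rw [← zpow_mod_orderOf, hc.ot]
    rcases Int.emod_two_eq_zero_or_one n with e | e
    · exact Or.inl (by norm_num [e]; exact hp)
    · refine Or.inr ?_
      norm_num [e]
      rw [mul_assoc, tt hc, mul_one]
      exact hp
  have htrivF : ∀ e ∈ E t, e⁻¹ * (x * e * x⁻¹) ∈ F := by
    intro e he
    have hxe : x * e * x⁻¹ ∈ E t := E_conj (Cx_le_H hc x_mem) he
    rcases hmem _ (htriv e he) with h | h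
    · exact h
    · -- otherwise `x ^ 3` would move `e` by `t` modulo `F`, so `t ∈ F`
      have hxt : x * t * x⁻¹ = t := by rw [← mem_Cent.1 hc.tx, mul_inv_cancel_right]
      set w := e⁻¹ * (x * e * x⁻¹) with hw
      have h1 : x * (w * t) * x⁻¹ ∈ F := hFn (Cx_le_H hc x_mem) h
      have h2 : x * (x * (w * t) * x⁻¹) * x⁻¹ ∈ F := hFn (Cx_le_H hc x_mem) h1
      have hx3 : x * x * x = 1 := by
        rw [← pow_two, ← pow_succ]
        exact pow_three_eq hc.ox
      have hprod : w * (x * w * x⁻¹) * (x * (x * w * x⁻¹) * x⁻¹) = 1 := by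
        have e3 : x * x * x * e * (x * x * x)⁻¹ = e := by rw [hx3, one_mul, inv_one, mul_one]
        calc w * (x * w * x⁻¹) * (x * (x * w * x⁻¹) * x⁻¹) = e⁻¹ * (x * x * x * e * (x * x * x)⁻¹) := by
              rw [hw]; group
          _ = 1 := by rw [e3, inv_mul_cancel]
      have htw : ∀ k ∈ E t, k * t = t * k := fun k hk => mem_Cent.1 (E_le t hk)
      have hw1 : x * w * x⁻¹ ∈ E t := E_conj (Cx_le_H hc x_mem) (mul_mem (inv_mem he) hxe)
      have hw2 : x * (x * w * x⁻¹) * x⁻¹ ∈ E t := E_conj (Cx_le_H hc x_mem) hw1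
      have htF : t ∈ F := by
        have h3 := mul_mem (mul_mem h h1) h2
        rw [show x * (w * t) * x⁻¹ = x * w * x⁻¹ * (x * t * x⁻¹) by group, hxt,
          show x * (x * w * x⁻¹ * t) * x⁻¹ = x * (x * w * x⁻¹) * x⁻¹ * (x * t * x⁻¹) by group, hxt] at h3
        rw [show w * t * (x * w * x⁻¹ * t) * (x * (x * w * x⁻¹) * x⁻¹ * t) =
            w * (t * (x * w * x⁻¹)) * (t * (x * (x * w * x⁻¹) * x⁻¹)) * t by group,
          ← htw _ hw1, ← htw _ hw2,
          show w * (x * w * x⁻¹ * t) * (x * (x * w * x⁻¹) * x⁻¹ * t) * t =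
            w * (x * w * x⁻¹) * (t * (x * (x * w * x⁻¹) * x⁻¹)) * (t * t) by group,
          tt hc, mul_one, ← htw _ hw2, ← mul_assoc, hprod, one_mul] at h3
        exact h3
      have := mul_mem h (inv_mem htF)
      rwa [mul_inv_cancel_right] at this
  have hxE : x ∈ E t := by
    refine hch x (Cx_le_H hc x_mem) fun e he => ?_
    have hA : zpowers x ≤ normalizer (E t : Set G) := zpowers_le.2 (Cx_le_norm_E hc x_mem)
    have hcop : (Nat.card ↥(zpowers x)).Coprime (Nat.card ↥(frattini ↥(E t))) := by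
      obtain ⟨i, hi⟩ := ((E_isPGroup t).to_subgroup (frattini ↥(E t))).exists_card_eq
      rw [Nat.card_zpowers, hc.ox, hi]
      exact Nat.Coprime.pow_right i (by norm_num)
    refine (mem_centralizer_iff.1 (Coprime.le_centralizer_of_trivial_mod_frattini hA hcop ?_
      (mem_zpowers x)) e he).symm
    intro y hy k hk
    obtain ⟨n, rfl⟩ := mem_zpowers_iff.1 hy
    -- conjugation by powers of `x` is trivial modulo `F`
    have h1 : ∀ k ∈ E t, x * k * x⁻¹ * k⁻¹ ∈ F := fun k hk => by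
      have := hFn (E_le t hk) (htrivF k hk)
      rwa [show k * (k⁻¹ * (x * k * x⁻¹)) * k⁻¹ = x * k * x⁻¹ * k⁻¹ by group] at this
    have h2 : ∀ m : ℕ, ∀ k ∈ E t, x ^ m * k * (x ^ m)⁻¹ * k⁻¹ ∈ F := by
      intro m
      induction m with
      | zero => intro k _; simp
      | succ m ih =>
        intro k hk
        have hxk := E_conj (Cx_le_H hc x_mem) hk
        have := mul_mem (ih _ hxk) (h1 k hk)
        rwa [show x ^ m * (x * k * x⁻¹) * (x ^ m)⁻¹ * (x * k * x⁻¹)⁻¹ * (x * k * x⁻¹ * k⁻¹) =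
          x ^ (m + 1) * k * (x ^ (m + 1))⁻¹ * k⁻¹ by rw [pow_succ]; group] at this
    rw [← zpow_mod_orderOf, hc.ox]
    have hn0 := Int.emod_nonneg n (show ((3 : ℕ) : ℤ) ≠ 0 by norm_num)
    obtain ⟨m, hm⟩ := Int.eq_ofNat_of_zero_le hn0
    rw [hm, zpow_natCast]
    exact h2 m k hk
  rcases fix_x hc hxE x_mem with e1 | e1
  · exact x_ne hc e1
  · have := hc.ox
    rw [e1, hc.ot] at this
    norm_num at this

/-- The Frattini subgroup of `E` lies in `⟨t⟩`. -/
theorem T0_eq (hch : CharTwo t) : T0 t = zpowers t := by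
  refine le_antisymm ?_ le_sup_right
  obtain ⟨a, ha⟩ := exists_Nc hc
  refine gen_Pr hc ha ((E_isPGroup t).to_le (T0_le hc))
    ((Pr_le x_mem ha.2.1).trans ((Cx_le_H hc).trans (H_le_norm_T0 hc))) ?_ ?_
  · rintro e ⟨he, hex⟩
    rcases fix_x hc (T0_le hc he) hex with rfl | rfl
    · exact one_mem _
    · exact mem_zpowers _
  · intro d _ hd
    refine le_of_eq (eq_of_le_of_card_ge (zpowers_le.2 ?_) ?_).symm
    · exact ⟨mem_sup_right (mem_zpowers t), t_mem_Ca hd hc⟩
    · rw [(fix_cards hc hch hd).2, Nat.card_zpowers, hc.ot]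

end Cfsg.Agent.J4Local
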