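import Cfsg.Agent.J4Local.Pair
import Cfsg.Agent.Core.PCore
import Cfsg.Agent.Coprime.Basic
import Cfsg.Prelude.Def_JankoFourType

/-!
# The 2-core of the centraliser of the involution, at one noncentral element

`E = O₂(C(t))` contains its centraliser in `C(t)`.  For a noncentral element `a` the fixed points of `a` on `E`
embed in the centraliser of an involution of M22, and have order at most 32.
-/

set_option autoImplicit false
set_option linter.style.haveILetI false

open Subgroup Cfsg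
open scoped Pointwise

namespace Cfsg.Agent.J4Local

universe u

variable {G : Type u} [Group G]

/-- The 2-core of the centraliser of `t`, in the whole group. -/
abbrev E (t : G) : Subgroup G := twoCoreOfCentralizer t

theorem E_le (t : G) : E t ≤ Cent t := map_subtype_le _

theorem E_conj {t h e : G} (hh : h ∈ Cent t) (he : e ∈ E t) : h * e * h⁻¹ ∈ E t := by
  obtain ⟨e', he', rfl⟩ := mem_map.1 he
  exact mem_map.2 ⟨⟨h, hh⟩ * e' * ⟨h, hh⟩⁻¹, (pCore_normal 2 ↥(Cent t)).conj_mem e' he' _, rfl⟩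

theorem Cent_le_normalizer_E (t : G) : Cent t ≤ normalizer (E t : Set G) := fun h hh => by
  refine mem_normalizer_iff.2 fun e => ⟨E_conj hh, fun he => ?_⟩
  have h' := E_conj (inv_mem hh) he
  rwa [show h⁻¹ * (h * e * h⁻¹) * h⁻¹⁻¹ = e by group] at h'

theorem E_isPGroup [Finite G] (t : G) : IsPGroup 2 ↥(E t) :=
  (haveI : Fact (Nat.Prime 2) := ⟨Nat.prime_two⟩; Core.pCore_isPGroup).map _

theorem E_max {t : G} [Finite G] {D : Subgroup G} (hD : D ≤ Cent t)
    (hn : Cent t ≤ normalizer (D : Set G)) (h2 : IsPGroup 2 ↥D) : D ≤ E t := by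
  haveI : (D.subgroupOf (Cent t)).Normal := normal_subgroupOf_of_le_normalizer hn
  have h : IsPGroup 2 ↥(D.subgroupOf (Cent t)) := h2.of_equiv (subgroupOfEquivOfLe hD).symm
  intro d hd
  exact ⟨⟨d, hD hd⟩, Core.le_pCore h (mem_subgroupOf.2 hd), rfl⟩

/-- The centraliser of `E` in `C(t)` lies in `E`. -/
def CharTwo (t : G) : Prop := ∀ g ∈ Cent t, (∀ e ∈ E t, g * e = e * g) → g ∈ E t

/-- The image in M22 of the centraliser of a conjugate of `x`. -/
noncomputable def piConj {x : G} (π : ↥(Cent x) →* ↥Spor.M22) {g a : G} (hg : g * x * g⁻¹ = a) :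
    ↥(Cent a) →* ↥Spor.M22 where
  toFun c := π ⟨g⁻¹ * c.1 * g, mem_Cent_of_conj_eq hg c.2⟩
  map_one' := by
    rw [← map_one π]
    exact congrArg π (Subtype.ext (show g⁻¹ * 1 * g = 1 by group))
  map_mul' c d := by
    rw [← map_mul]
    exact congrArg π (Subtype.ext (show g⁻¹ * (c.1 * d.1) * g = g⁻¹ * c.1 * g * (g⁻¹ * d.1 * g) by group))

variable [Finite G] {x t : G} {π : ↥(Cent x) →* ↥Spor.M22} (hc : Cover x t π)
include hc

theorem t_mem_E : t ∈ E t := by
  refine E_max (D := zpowers t) (zpowers_le.2 (mem_Cent.2 rfl)) (fun h hh => ?_) ?_ (mem_zpowers t)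
  · refine centralizer_le_normalizer _ (mem_centralizer_iff.2 ?_)
    intro y hy
    obtain ⟨n, rfl⟩ := mem_zpowers_iff.1 hy
    exact (((show Commute h t from mem_Cent.1 hh).zpow_right n).eq).symm
  · exact IsPGroup.of_card (n := 1) (by rw [Nat.card_zpowers, hc.ot, pow_one])

theorem Cx_le_H : Cent x ≤ Cent t := fun c hcC => mem_Cent.2 (hc.central_t c hcC)

theorem Cx_le_norm_E : Cent x ≤ normalizer (E t : Set G) := (Cx_le_H hc).trans (Cent_le_normalizer_E t)

omit hc in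
theorem two_eq_one {c : G} {n : ℕ} (h2 : c ^ (2 ^ n) = 1) (h3 : c ^ 3 = 1) : c = 1 := by
  refine orderOf_eq_one_iff.1 (Nat.eq_one_of_dvd_coprimes ((by norm_num : Nat.Coprime 2 3).pow_left n)
    (orderOf_dvd_of_pow_eq_one h2) (orderOf_dvd_of_pow_eq_one h3))

theorem two_in_ker {c : ↥(Cent x)} (h : π c = 1) {n : ℕ} (h2 : c.1 ^ (2 ^ n) = 1) :
    c.1 = 1 ∨ c.1 = t := by
  obtain ⟨y, hy, e | e⟩ := pi_eq_one_cases hc h
  all_goals
    obtain ⟨i, rfl⟩ := mem_zpowers_iff.1 hy
    have hy3 : (x ^ i) ^ 3 = 1 := by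
      rw [← zpow_natCast (x ^ i), ← zpow_mul, mul_comm i, zpow_mul, zpow_natCast,
        show x ^ 3 = 1 from hc.ox ▸ pow_orderOf_eq_one x, one_zpow]
  · exact Or.inl (two_eq_one h2 (e ▸ hy3))
  · refine Or.inr ?_
    rcases Nat.eq_zero_or_pos n with rfl | hn
    · have hc1 : c.1 = 1 := by simpa using h2
      exfalso
      rw [hc1] at e
      have ht : t ∈ zpowers x := mem_zpowers_iff.2 ⟨-i, by
        rw [zpow_neg, inv_eq_iff_mul_eq_one]
        exact e.symm⟩
      have h' := orderOf_dvd_of_mem_zpowers ht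
      rw [hc.ot, hc.ox] at h'
      norm_num at h'
    · have hcm : Commute (x ^ i) t := (show Commute x t from (mem_Cent.1 hc.tx).symm).zpow_left i
      obtain ⟨m, rfl⟩ : ∃ m, n = m + 1 := ⟨n - 1, by omega⟩
      have h2' : (x ^ i) ^ (2 ^ (m + 1)) = 1 := by
        rw [e, hcm.mul_pow, pow_succ', pow_mul t, pow_two, tt hc, one_pow, mul_one, ← pow_succ'] at h2
        exact h2
      rw [e, two_eq_one h2' hy3, one_mul]

/-- The fixed points of `x` on `E`. -/
theorem fix_x {e : G} (he : e ∈ E t) (hex : e ∈ Cent x) : e = 1 ∨ e = t := by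
  let D : Subgroup ↥(Cent x) := (E t).subgroupOf (Cent x)
  haveI : D.Normal := normal_subgroupOf_of_le_normalizer (Cx_le_norm_E hc)
  haveI : Fact (Nat.Prime 2) := ⟨Nat.prime_two⟩
  have hD : IsPGroup 2 ↥D := by
    rintro ⟨⟨c, hcC⟩, hcD⟩
    obtain ⟨n, hn⟩ := E_isPGroup t ⟨c, hcD⟩
    exact ⟨n, Subtype.ext (Subtype.ext (by
        have h' := congrArg Subtype.val hn
        simpa using h'))⟩
  haveI : IsSimpleGroup ↥Spor.M22 := Compute.isSimpleGroup_m22
  rcases (Subgroup.Normal.map (inferInstance : D.Normal) π hc.surj).eq_bot_or_eq_top with h | h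
  · have hπ : π ⟨e, hex⟩ = 1 := by
      rw [← Subgroup.mem_bot, ← h]
      exact mem_map_of_mem π (show (⟨e, hex⟩ : ↥(Cent x)) ∈ D from he)
    obtain ⟨n, hn⟩ := E_isPGroup t ⟨e, he⟩
    exact two_in_ker hc hπ (congrArg Subtype.val hn)
  · exfalso
    obtain ⟨k, hk⟩ := (hD.map π).exists_card_eq
    rw [h, Subgroup.card_top, Compute.card_m22] at hk
    have h3 : 3 ∣ 2 ^ k := hk ▸ (by norm_num : 3 ∣ 443520)
    exact absurd (Nat.Prime.dvd_of_dvd_pow Nat.prime_three h3) (by norm_num)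

variable {a g : G} (ha : Nc x a) (hg : g * x * g⁻¹ = a)
include ha hg

omit [Finite G] hc hg in
theorem t_mem_Ca (hcov : Cover x t π) : t ∈ Cent a := mem_Cent.2 (hcov.central_t a ha.2.1).symm

omit [Finite G] hc hg in
theorem x_mem_Ca : x ∈ Cent a := mem_Cent.2 (mem_Cent.1 ha.2.1).symm

/-- A 2-element in the kernel at `a`. -/
theorem two_in_ker_conj {c : ↥(Cent a)} (h : piConj π hg c = 1) {n : ℕ} (h2 : c.1 ^ (2 ^ n) = 1) :
    c.1 = 1 ∨ c.1 = g * t * g⁻¹ := by
  have h2' : (g⁻¹ * c.1 * g) ^ (2 ^ n) = 1 := by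
    calc (g⁻¹ * c.1 * g) ^ (2 ^ n) = (MulAut.conj g⁻¹ c.1) ^ (2 ^ n) := by
          rw [MulAut.conj_apply, inv_inv]
      _ = 1 := by rw [← map_pow, h2, map_one]
  rcases two_in_ker hc (c := ⟨g⁻¹ * c.1 * g, _⟩) h h2' with e | e <;> replace e : g⁻¹ * c.1 * g = _ := e
  · exact Or.inl (by rw [show c.1 = g * (g⁻¹ * c.1 * g) * g⁻¹ by group, e]; group)
  · exact Or.inr (by rw [show c.1 = g * (g⁻¹ * c.1 * g) * g⁻¹ by group, e])

/-- The involution of the centre at `a` is centralised by `C(a)`. -/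
theorem ta_central {c : G} (hcC : c ∈ Cent a) : c * (g * t * g⁻¹) = g * t * g⁻¹ * c := by
  have h := hc.central_t _ (mem_Cent_of_conj_eq hg hcC)
  calc c * (g * t * g⁻¹) = g * (g⁻¹ * c * g * t) * g⁻¹ := by group
    _ = g * (t * (g⁻¹ * c * g)) * g⁻¹ := by rw [h]
    _ = g * t * g⁻¹ * c := by group

omit ha hg in
/-- `t` is not central in the centraliser of any noncentral element. -/
theorem iota_ne (hch : CharTwo t) {a g : G} (ha : Nc x a) (hg : g * x * g⁻¹ = a) :
    piConj π hg ⟨t, t_mem_Ca ha hc⟩ ≠ 1 := by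
  intro h
  have htt : t ^ (2 ^ 1) = 1 := by rw [pow_one, pow_two, tt hc]
  rcases two_in_ker_conj hc ha hg h htt with e | e
  · exact t_ne hc e
  have e' : t = g * t * g⁻¹ := e
  have hCa : Cent a ≤ Cent t := fun c hcC => mem_Cent.2 (by rw [e']; exact ta_central hc ha hg hcC)
  -- then `a` fixes only `⟨t⟩` on `E`
  have hfa : E t ⊓ Cent a ≤ zpowers t := by
    rintro c ⟨hcE, hcC⟩
    have hc' : g⁻¹ * c * g ∈ Cent x := mem_Cent_of_conj_eq hg hcC
    let D : Subgroup ↥(Cent a) := (E t).subgroupOf (Cent a)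
    haveI : D.Normal := normal_subgroupOf_of_le_normalizer (hCa.trans (Cent_le_normalizer_E t))
    haveI : Fact (Nat.Prime 2) := ⟨Nat.prime_two⟩
    have hD : IsPGroup 2 ↥D := by
      rintro ⟨⟨d, hdC⟩, hdD⟩
      obtain ⟨n, hn⟩ := E_isPGroup t ⟨d, hdD⟩
      exact ⟨n, Subtype.ext (Subtype.ext (by
        have h' := congrArg Subtype.val hn
        simpa using h'))⟩
    have hs : Function.Surjective (piConj π hg) := fun m => by
      obtain ⟨d, rfl⟩ := hc.surj m
      refine ⟨⟨g * d.1 * g⁻¹, hg ▸ (conj_mem_Cent_iff g x d.1).1 d.2⟩, ?_⟩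
      exact congrArg π (Subtype.ext (show g⁻¹ * (g * d.1 * g⁻¹) * g = d.1 by group))
    haveI : IsSimpleGroup ↥Spor.M22 := Compute.isSimpleGroup_m22
    rcases (Subgroup.Normal.map (inferInstance : D.Normal) (piConj π hg) hs).eq_bot_or_eq_top with hb | hb
    · obtain ⟨n, hn⟩ := E_isPGroup t ⟨c, hcE⟩
      have hπ : piConj π hg ⟨c, hcC⟩ = 1 := by
        rw [← Subgroup.mem_bot, ← hb]
        exact mem_map_of_mem _ (show (⟨c, hcC⟩ : ↥(Cent a)) ∈ D from hcE)
      rcases two_in_ker_conj hc ha hg hπ (congrArg Subtype.val hn) with e2 | e2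
      · rw [show c = 1 from e2]; exact one_mem _
      · rw [show c = g * t * g⁻¹ from e2, ← e']; exact mem_zpowers t
    · exfalso
      obtain ⟨k, hk⟩ := (hD.map (piConj π hg)).exists_card_eq
      rw [hb, Subgroup.card_top, Compute.card_m22] at hk
      have h3 : 3 ∣ 2 ^ k := hk ▸ (by norm_num : 3 ∣ 443520)
      exact absurd (Nat.Prime.dvd_of_dvd_pow Nat.prime_three h3) (by norm_num)
  have hle : E t ≤ zpowers t := by
    refine gen_Pr hc ha (E_isPGroup t) ((Pr_le x_mem ha.2.1).trans (Cx_le_norm_E hc)) ?_ ?_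
    · rintro e ⟨he, hex⟩
      rcases fix_x hc he hex with rfl | rfl
      · exact one_mem _
      · exact mem_zpowers _
    · rintro d - hd c ⟨hcE, hcC⟩
      obtain ⟨b, hb, hbe⟩ := hd.isConj hc ha
      have hbc : b * c * b⁻¹ ∈ zpowers t :=
        hfa ⟨E_conj (Cx_le_H hc hb) hcE, hbe ▸ (conj_mem_Cent_iff b d c).1 hcC⟩
      obtain ⟨n, hn⟩ := mem_zpowers_iff.1 hbc
      have hbt : Commute b (t ^ n) := (show Commute b t from hc.central_t b hb).zpow_right n
      refine mem_zpowers_iff.2 ⟨n, ?_⟩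
      calc t ^ n = b⁻¹ * (b * t ^ n) := by group
        _ = b⁻¹ * (t ^ n * b) := by rw [hbt.eq]
        _ = c := by rw [hn]; group
  have hxE : x ∈ E t := hch x (Cx_le_H hc x_mem) fun e he => by
    obtain ⟨n, rfl⟩ := mem_zpowers_iff.1 (hle he)
    exact ((show Commute x t from (mem_Cent.1 hc.tx).symm).zpow_right n).eq
  rcases fix_x hc hxE x_mem with e1 | e1
  · exact x_ne hc e1
  · have := hc.ox
    rw [e1, hc.ot] at this
    norm_num at this

/-- The projection is injective on the fixed points of `a` on `E`. -/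
theorem piConj_inj (hch : CharTwo t) {c : ↥(Cent a)} (hcE : c.1 ∈ E t) (h : piConj π hg c = 1) :
    c.1 = 1 := by
  obtain ⟨n, hn⟩ := E_isPGroup t ⟨c.1, hcE⟩
  rcases two_in_ker_conj hc ha hg h (congrArg Subtype.val hn) with e | e
  · exact e
  exfalso
  have hx : c.1 ∈ Cent x := mem_Cent.2 (by rw [e]; exact (ta_central hc ha hg (x_mem_Ca ha)).symm)
  rcases fix_x hc hcE hx with e1 | e1
  · have h2 := (orderOf_conj g t).trans hc.ot
    rw [← e, e1, orderOf_one] at h2
    norm_num at h2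
  · exact iota_ne hc hch ha hg (show piConj π hg ⟨t, _⟩ = 1 by
      rwa [show (⟨t, t_mem_Ca ha hc⟩ : ↥(Cent a)) = c from Subtype.ext e1.symm])

theorem iota_order (hch : CharTwo t) : orderOf (piConj π hg ⟨t, t_mem_Ca ha hc⟩) = 2 := by
  refine orderOf_eq_prime (hp := ⟨Nat.prime_two⟩) ?_ (iota_ne hc hch ha hg)
  rw [← map_pow, show (⟨t, t_mem_Ca ha hc⟩ : ↥(Cent a)) ^ 2 = 1 from
    Subtype.ext (show t ^ 2 = 1 by rw [pow_two, tt hc]), map_one]

/-- The subgroup of M22 that is the image of the fixed points of `a` on `E`. -/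
theorem image_EC (hch : CharTwo t) :
    ∃ D : Subgroup ↥Spor.M22, Nat.card D = Nat.card ↥(E t ⊓ Cent a : Subgroup G) ∧ Nat.card D ≤ 32 ∧
      ((∀ e ∈ E t ⊓ Cent a, e * e = 1) → ∀ d ∈ D, d * d = 1) := by
  let f : ↥(E t ⊓ Cent a : Subgroup G) →* ↥Spor.M22 := (piConj π hg).comp (inclusion inf_le_right)
  have hinj : Function.Injective f := (injective_iff_map_eq_one f).2 fun e he =>
    Subtype.ext (piConj_inj hc ha hg hch (c := inclusion inf_le_right e) e.2.1 he)
  refine ⟨f.range, (Nat.card_congr (MonoidHom.ofInjective hinj).toEquiv).symm, ?_, ?_⟩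
  swap
  · rintro h _ ⟨e, rfl⟩
    rw [← map_mul, show e * e = 1 from Subtype.ext (h e.1 e.2), map_one]
  let xa : ↥(Cent a) := ⟨x, x_mem_Ca ha⟩
  let ta : ↥(E t ⊓ Cent a : Subgroup G) := ⟨t, t_mem_E hc, t_mem_Ca ha hc⟩
  have hw : orderOf (piConj π hg xa) = 3 := by
    refine Nc.orderOf_pi hc (b := g⁻¹ * x * g)
      ⟨?_, mem_Cent_of_conj_eq hg (x_mem_Ca ha), fun e => ha.2.2 ?_⟩
    · have := orderOf_conj g⁻¹ x
      rw [inv_inv] at this
      exact this.trans hc.ox
    · obtain ⟨n, hn⟩ := mem_zpowers_iff.1 e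
      have hxa : x ∈ zpowers a := mem_zpowers_iff.2 ⟨n, by rw [← hg, conj_zpow, hn]; group⟩
      rw [eq_of_le_of_card_ge (zpowers_le.2 hxa) (by rw [Nat.card_zpowers, Nat.card_zpowers, hc.ox, ha.1])]
      exact mem_zpowers a
  have hfx : ∀ e : ↥(E t ⊓ Cent a : Subgroup G), x * e.1 * x⁻¹ ∈ E t ⊓ Cent a := fun e =>
    ⟨E_conj (Cx_le_H hc x_mem) e.2.1, (Cent a).mul_mem ((Cent a).mul_mem (x_mem_Ca ha) e.2.2) ((Cent a).inv_mem (x_mem_Ca ha))⟩
  refine two_sub_le (iota_order hc ha hg hch) hw ?_ f.range ?_ ?_ ?_ ?_ ?_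
  · rw [← map_mul, ← map_mul]
    exact congrArg _ (Subtype.ext (mem_Cent.1 hc.tx))
  · exact ((E_isPGroup t).to_le inf_le_left).of_surjective f.rangeRestrict f.rangeRestrict_surjective
  · rintro _ ⟨e, rfl⟩
    refine mem_centralizer_singleton_iff.2 ?_
    show piConj π hg (inclusion inf_le_right e) * _ = _ * piConj π hg (inclusion inf_le_right e)
    rw [← map_mul, ← map_mul]
    exact congrArg _ (Subtype.ext (mem_Cent.1 (E_le t e.2.1)))
  · exact ⟨ta, rfl⟩
  · rintro _ ⟨e, rfl⟩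
    refine ⟨⟨_, hfx e⟩, ?_⟩
    show piConj π hg (inclusion inf_le_right ⟨x * e.1 * x⁻¹, hfx e⟩) =
      piConj π hg xa * piConj π hg (inclusion inf_le_right e) * (piConj π hg xa)⁻¹
    rw [← map_inv, ← map_mul, ← map_mul]
    rfl
  · rintro _ ⟨e, rfl⟩ h
    let k : ↥(E t ⊓ Cent a : Subgroup G) := ⟨x * e.1 * x⁻¹, hfx e⟩ * e⁻¹
    have hk : f k = 1 := by
      show piConj π hg (xa * inclusion inf_le_right e * xa⁻¹ * (inclusion inf_le_right e)⁻¹) = 1
      rw [map_mul, map_mul, map_mul, map_inv, map_inv]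
      have h' : f e * piConj π hg xa = piConj π hg xa * f e := h
      show piConj π hg xa * f e * _ * (f e)⁻¹ = 1
      rw [← h']
      group
    have hk1 : x * e.1 * x⁻¹ * e.1⁻¹ = 1 :=
      congrArg Subtype.val (hinj (hk.trans (map_one f).symm))
    have hex : e.1 ∈ Cent x := mem_Cent.2 (by
      rw [mul_inv_eq_one, mul_inv_eq_iff_eq_mul] at hk1
      exact hk1.symm)
    rcases fix_x hc e.2.1 hex with e1 | e1
    · exact Or.inl (by rw [show e = 1 from Subtype.ext e1, map_one])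
    · exact Or.inr (by rw [show e = ta from Subtype.ext e1]; rfl)

/-- The fixed points of `a` in `C(t)`. -/
theorem card_HC (hch : CharTwo t) : Nat.card ↥(Cent t ⊓ Cent a : Subgroup G) ≤ 2304 := by
  let f : ↥(Cent t ⊓ Cent a : Subgroup G) →* ↥Spor.M22 := (piConj π hg).comp (inclusion inf_le_right)
  have h1 := card_eq_card_quotient_mul_card_subgroup f.ker
  rw [Nat.card_congr (QuotientGroup.quotientKerEquivRange f).toEquiv] at h1
  have h2 : Nat.card f.range ≤ 384 := by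
    rw [← card_cent_two (iota_order hc ha hg hch)]
    refine Subgroup.card_le_of_le ?_
    rintro _ ⟨e, rfl⟩
    refine mem_centralizer_singleton_iff.2 ?_
    show piConj π hg (inclusion inf_le_right e) * _ = _ * piConj π hg (inclusion inf_le_right e)
    rw [← map_mul, ← map_mul]
    exact congrArg _ (Subtype.ext (mem_Cent.1 e.2.1))
  have h3 : Nat.card f.ker ≤ 6 := by
    rw [← hc.kcard]
    refine Nat.card_le_card_of_injective (fun e =>
      (⟨⟨g⁻¹ * e.1.1 * g, mem_Cent_of_conj_eq hg e.1.2.2⟩, MonoidHom.mem_ker.2 (MonoidHom.mem_ker.1 e.2)⟩ : π.ker))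
      fun p q h => Subtype.ext (Subtype.ext ?_)
    have h' : g⁻¹ * p.1.1 * g = g⁻¹ * q.1.1 * g := congrArg (fun r : π.ker => r.1.1) h
    exact mul_left_cancel (mul_right_cancel h')
  rw [h1]
  exact (Nat.mul_le_mul h2 h3).trans (by norm_num)

end Cfsg.Agent.J4Local
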